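import Cfsg.Agent.Blocks.ZStar
import Cfsg.Agent.Components.Cores
import Cfsg.Agent.Coprime.Sylow
import Cfsg.Prelude.Def_CaseTheorems

/-!
Consequences of Glauberman's theorem on isolated involutions.
-/

set_option autoImplicit false
set_option linter.unusedSectionVars false

namespace Cfsg.Lib.ZStarApps

open Subgroup Cfsg.Lib.InvolCalc

universe u

variable {G : Type u} [Group G] [Finite G]

theorem zstarProp {z : G} (hz : Cfsg.IsIsolatedInvolution z) :
    ∀ g : G, z * g * z⁻¹ * g⁻¹ ∈ Cfsg.pPrimeCore 2 G :=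
  Cfsg.Lib.Blocks.zstar (Nat.card G) rfl hz

theorem odd_card_pPrimeCore : Odd (Nat.card (Cfsg.pPrimeCore 2 G)) :=
  Nat.Coprime.odd_of_right (Cfsg.Lib.Components.coprime_card_pPrimeCore (G := G) 2)

theorem mem_normalizer_of_maps {A : Subgroup G} {g : G} (h : ∀ a ∈ A, g * a * g⁻¹ ∈ A) :
    g ∈ normalizer (A : Set G) := by
  have h1 : A.map (MulAut.conj g).toMonoidHom = A :=
    Subgroup.eq_of_le_of_card_ge (by rintro _ ⟨a, ha, rfl⟩; exact h a ha)
      (Subgroup.card_map_of_injective (MulAut.conj g).injective).ge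
  rw [mem_normalizer_iff]
  refine fun y => ⟨h y, fun hy => ?_⟩
  rw [← h1] at hy
  obtain ⟨a, ha, hay⟩ := hy
  rwa [← (MulAut.conj g).injective hay]

/-- For odd `p` there is a Sylow `p`-subgroup normalized by an isolated involution. -/
theorem exists_invariant_sylow {z : G} (hz : Cfsg.IsIsolatedInvolution z) {p : ℕ} [Fact p.Prime]
    (hp : p ≠ 2) : ∃ P : Sylow p G, z ∈ normalizer ((P : Subgroup G) : Set G) := by
  obtain ⟨P₀⟩ := (inferInstance : Nonempty (Sylow p G))
  set O := Cfsg.pPrimeCore 2 G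
  set M := O ⊔ (P₀ : Subgroup G) with hM
  have hzM : z ∈ normalizer (M : Set G) := by
    refine mem_normalizer_of_maps fun a ha => ?_
    have h := zstarProp hz a
    rw [show z * a * z⁻¹ = z * a * z⁻¹ * a⁻¹ * a by group]
    exact M.mul_mem (mem_sup_left h) ha
  obtain ⟨k, hk⟩ := IsPGroup.iff_card.mp P₀.isPGroup'
  have hodd : (Nat.card M).Coprime 2 := by
    refine Nat.Coprime.coprime_dvd_left (Cfsg.Lib.Components.card_sup_dvd_mul O (P₀ : Subgroup G))
      ((Cfsg.Lib.Components.coprime_card_pPrimeCore 2).mul_left ?_)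
    rw [hk]
    exact ((Nat.coprime_primes Fact.out Nat.prime_two).mpr hp).pow_left k
  obtain ⟨Q, hQ⟩ := Cfsg.Lib.Coprime.exists_invariant_sylow (A := zpowers z) (K := M)
    (zpowers_le.mpr hzM) (by rw [Nat.card_zpowers, hz.1]; exact hodd.symm)
    (Or.inl inferInstance) p
  have hcard : Nat.card ((Q : Subgroup M).map M.subtype : Subgroup G) =
      p ^ (Nat.card G).factorization p := by
    rw [Subgroup.card_map_of_injective M.subtype_injective, Q.card_eq_multiplicity]
    congr 1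
    refine le_antisymm ?_ ?_
    · exact (Nat.factorization_le_iff_dvd Nat.card_pos.ne' Nat.card_pos.ne').mpr
        (card_subgroup_dvd_card M) p
    · have h1 : p ^ (Nat.card G).factorization p ∣ Nat.card M := by
        rw [← P₀.card_eq_multiplicity]
        exact card_dvd_of_le le_sup_right
      exact ((Fact.out : p.Prime).pow_dvd_iff_le_factorization Nat.card_pos.ne').mp h1
  refine ⟨Sylow.ofCard _ hcard, ?_⟩
  rw [Sylow.coe_ofCard]
  exact hQ (mem_zpowers z)

theorem isolated_restrict {z : G} (hz : Cfsg.IsIsolatedInvolution z) {H : Subgroup G} (h : z ∈ H) :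
    Cfsg.IsIsolatedInvolution (⟨z, h⟩ : H) :=
  ⟨(Subgroup.orderOf_mk z h).trans hz.1,
    fun g hc => Subtype.ext (hz.2 g (congrArg Subtype.val hc))⟩

/-- A maximal invariant `p`-subgroup is a Sylow subgroup. -/
theorem sylow_of_maximal_invariant {z : G} (hz : Cfsg.IsIsolatedInvolution z) {p : ℕ}
    [Fact p.Prime] (Q : Subgroup G) (hQ : IsPGroup p Q) (hzQ : z ∈ normalizer (Q : Set G))
    (hmax : ∀ R : Subgroup G, IsPGroup p R → z ∈ normalizer (R : Set G) → Q ≤ R → R = Q) :
    ∃ P : Sylow p G, (P : Subgroup G) = Q := by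
  by_cases hp : p = 2
  · subst hp
    have hz2 : IsPGroup 2 (zpowers z) := IsPGroup.of_card (n := 1)
      (by rw [Nat.card_zpowers, hz.1, pow_one])
    have hzq : z ∈ Q := by
      have h := hmax (Q ⊔ zpowers z) (hQ.to_sup_of_normal_left' hz2 (zpowers_le.mpr hzQ))
        (le_normalizer (mem_sup_right (mem_zpowers z))) le_sup_left
      exact h ▸ mem_sup_right (mem_zpowers z)
    obtain ⟨P, hP⟩ := hQ.exists_le_sylow
    exact ⟨P, hmax _ P.isPGroup' (le_normalizer (hP hzq)) hP⟩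
  set N := normalizer (Q : Set G)
  obtain ⟨R, hR⟩ := exists_invariant_sylow (isolated_restrict hz hzQ) (p := p) hp
  obtain ⟨P, hP⟩ := hQ.exists_le_sylow
  refine ⟨P, le_antisymm ?_ hP⟩
  by_contra hne
  have hlt : Q < (P : Subgroup G) := lt_of_le_of_ne hP (fun h => hne h.ge)
  haveI : (Q.subgroupOf N).Normal := normal_in_normalizer
  have hQN : Q ≤ N := le_normalizer
  have hQp : IsPGroup p (Q.subgroupOf N) :=
    hQ.of_injective (subgroupOfEquivOfLe hQN).toMonoidHom (subgroupOfEquivOfLe hQN).injective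
  have hQR : Q.subgroupOf N ≤ (R : Subgroup N) := by
    obtain ⟨R', hR'⟩ := hQp.exists_le_sylow
    obtain ⟨n, rfl⟩ := MulAction.exists_smul_eq N R' R
    intro a ha
    refine ⟨n⁻¹ * a * n, hR' ?_, by simp [mul_assoc]⟩
    simpa using (‹(Q.subgroupOf N).Normal›).conj_mem a ha n⁻¹
  have hRQ : (R : Subgroup N).map N.subtype = Q := by
    refine hmax _ (R.isPGroup'.map _) (mem_normalizer_of_maps ?_) fun q hq =>
      ⟨⟨q, hQN hq⟩, hQR hq, rfl⟩
    rintro _ ⟨r, hr, rfl⟩
    exact ⟨⟨z, hzQ⟩ * r * ⟨z, hzQ⟩⁻¹, (mem_normalizer_iff.mp hR r).mp hr, rfl⟩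
  haveI := P.isPGroup'.isNilpotent
  have hlt' : Q.subgroupOf (P : Subgroup G) < ⊤ := by
    rw [lt_top_iff_ne_top]
    intro h
    exact hlt.not_ge (subgroupOf_eq_top.mp h)
  obtain ⟨x, hx, hxQ⟩ :=
    SetLike.exists_of_lt (Group.normalizerCondition_of_isNilpotent _ hlt')
  have hxN : (x : G) ∈ N := mem_normalizer_of_maps fun q hq =>
    (mem_normalizer_iff.mp hx ⟨q, hP hq⟩).mp hq
  have hup : IsPGroup p ((Q ⊔ zpowers (x : G)).subgroupOf N) :=
    (P.isPGroup'.of_injective _
      (inclusion_injective (sup_le hP (zpowers_le.mpr x.2)))).of_injective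
      (subgroupOfEquivOfLe (sup_le hQN (zpowers_le.mpr hxN))).toMonoidHom
      (subgroupOfEquivOfLe (sup_le hQN (zpowers_le.mpr hxN))).injective
  have heq := R.is_maximal' hup (fun r hr => mem_sup_left (hRQ ▸ ⟨r, hr, rfl⟩))
  have hxR : (⟨x, hxN⟩ : N) ∈ (R : Subgroup N) := heq ▸ mem_sup_right (mem_zpowers (x : G))
  exact hxQ (mem_subgroupOf.mpr (hRQ ▸ ⟨⟨x, hxN⟩, hxR, rfl⟩))

theorem odd_orderOf_of_mem_sylow {p : ℕ} [Fact p.Prime] (hp : p ≠ 2) (P : Sylow p G) {a : G}
    (ha : a ∈ (P : Subgroup G)) : Odd (orderOf a) := by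
  obtain ⟨k, hk⟩ := IsPGroup.iff_card.mp P.isPGroup'
  refine Odd.of_dvd_nat (n := Nat.card (P : Subgroup G)) ?_ ?_
  · rw [hk]; exact ((Fact.out : p.Prime).odd_of_ne_two hp).pow
  · rw [← Subgroup.orderOf_mk a ha]; exact orderOf_dvd_natCard _

/-- Invariant Sylow subgroups and the centraliser. -/
theorem sylow_inf_centralizer {z : G} (hz : Cfsg.IsIsolatedInvolution z) {p : ℕ} [Fact p.Prime]
    (hp : p ≠ 2) (P : Sylow p G) (hzP : z ∈ normalizer ((P : Subgroup G) : Set G)) :
    ¬ p ∣ ((P : Subgroup G) ⊓ centralizer ({z} : Set G)).relIndex (centralizer ({z} : Set G)) ∧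
      ((P : Subgroup G) ⊓ centralizer ({z} : Set G)).relIndex (P : Subgroup G) =
        Nat.card {x : G // x ∈ P ∧ z * x * z⁻¹ = x⁻¹} := by
  set C := centralizer ({z} : Set G) with hC
  have hz2 : z * z = 1 := sq_of_order_two hz.1
  have hzC : ∀ x : G, x ∈ C ↔ z * x * z⁻¹ = x := fun x => by
    rw [hC, mem_centralizer_singleton_iff, mul_inv_eq_iff_eq_mul]
    exact ⟨fun h => h.symm, fun h => h.symm⟩
  refine ⟨?_, ?_⟩
  · obtain ⟨R, hR⟩ := ((P.isPGroup'.of_injective _
      (inclusion_injective (inf_le_left : (P : Subgroup G) ⊓ C ≤ P))).of_injective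
      (subgroupOfEquivOfLe (inf_le_right : (P : Subgroup G) ⊓ C ≤ C)).toMonoidHom
      (subgroupOfEquivOfLe _).injective).exists_le_sylow
    have hRz : z ∈ normalizer ((R : Subgroup C).map C.subtype : Set G) :=
      mem_normalizer_of_maps fun a ⟨r, hr, hra⟩ => by
        subst hra
        exact ⟨r, hr, ((hzC r).mp r.2).symm⟩
    obtain ⟨Q, ⟨hQp, hQz, hRQ⟩, hmax⟩ := (Set.toFinite {U : Subgroup G | IsPGroup p U ∧
      z ∈ normalizer (U : Set G) ∧ (R : Subgroup C).map C.subtype ≤ U}).exists_maximal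
      ⟨_, R.isPGroup'.map _, hRz, le_rfl⟩
    obtain ⟨P', hP'⟩ := sylow_of_maximal_invariant hz Q hQp hQz fun U hU hUz hle =>
      le_antisymm (hmax ⟨hU, hUz, hRQ.trans hle⟩ hle) hle
    subst hP'
    obtain ⟨g, hg⟩ := MulAction.exists_smul_eq G P P'
    have hgP : ∀ x, x ∈ (P' : Subgroup G) ↔ g⁻¹ * x * g ∈ (P : Subgroup G) := fun x => by
      rw [← hg, Sylow.coe_subgroup_smul, Subgroup.mem_pointwise_smul_iff_inv_smul_mem]
      simp [MulAut.smul_def, mul_assoc]
    set N := normalizer ((P : Subgroup G) : Set G)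
    have hz' : g⁻¹ * z * g⁻¹⁻¹ ∈ N := mem_normalizer_of_maps fun a ha => by
      have h1 : g * a * g⁻¹ ∈ (P' : Subgroup G) := (hgP _).mpr (by
        rw [show g⁻¹ * (g * a * g⁻¹) * g = a by group]; exact ha)
      have h2 := (hgP _).mp ((mem_normalizer_iff.mp hQz _).mp h1)
      convert h2 using 1
      group
    obtain ⟨n, hn, hne⟩ := Cfsg.Lib.Isolated.conj_in hz N hzP hz'
    set c := g * n with hc
    have hcz : z * c * z⁻¹ = c := by
      have h1 : c * z * c⁻¹ = z := by
        rw [hc, show g * n * z * (g * n)⁻¹ = g * (n * z * n⁻¹) * g⁻¹ by group, hne]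
        group
      calc z * c * z⁻¹ = c * z * c⁻¹ * c * z⁻¹ := by rw [h1]
        _ = c := by group
    have hcC : c ∈ C := (hzC c).mpr hcz
    have hle : (R : Subgroup C).map C.subtype ≤
        ((P : Subgroup G) ⊓ C).map (MulAut.conj c).toMonoidHom := by
      intro x hx
      refine ⟨c⁻¹ * x * c, Subgroup.mem_inf.mpr ⟨?_, ?_⟩, by simp [mul_assoc]⟩
      · have h2 := conj_mem_aux ((hgP x).mp (hRQ hx)) hn
        convert h2 using 1
        rw [hc]
        group
      · exact C.mul_mem (C.mul_mem (C.inv_mem hcC) (map_subtype_le _ hx)) hcC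
    have hcard : Nat.card (R : Subgroup C) ≤ Nat.card ((P : Subgroup G) ⊓ C : Subgroup G) := by
      have := Subgroup.card_le_of_le hle
      rwa [Subgroup.card_map_of_injective C.subtype_injective,
        Subgroup.card_map_of_injective (MulAut.conj c).injective] at this
    have heq : ((P : Subgroup G) ⊓ C).subgroupOf C = R :=
      Subgroup.eq_of_le_of_card_ge hR (by
        rwa [Nat.card_congr (subgroupOfEquivOfLe (inf_le_right : (P : Subgroup G) ⊓ C ≤ C)).toEquiv])
    rw [Subgroup.relIndex, heq]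
    exact R.not_dvd_index
  · have hzP' : ∀ a ∈ (P : Subgroup G), z * a * z⁻¹ ∈ (P : Subgroup G) := fun a ha =>
      (mem_normalizer_iff.mp hzP a).mp ha
    let f : {x : G // x ∈ P ∧ z * x * z⁻¹ = x⁻¹} →
        ↥(P : Subgroup G) ⧸ ((P : Subgroup G) ⊓ C).subgroupOf (P : Subgroup G) :=
      fun x => QuotientGroup.mk (⟨x.1, x.2.1⟩ : ↥(P : Subgroup G))
    refine (Nat.card_congr (Equiv.ofBijective f ⟨fun a b hab => ?_, fun q => ?_⟩)).symm
    · have h : (⟨a.1, a.2.1⟩ : ↥(P : Subgroup G))⁻¹ * ⟨b.1, b.2.1⟩ ∈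
          ((P : Subgroup G) ⊓ C).subgroupOf (P : Subgroup G) := QuotientGroup.eq.mp hab
      have hconj : z * (a.1⁻¹ * b.1) * z⁻¹ = a.1⁻¹ * b.1 := (hzC _).mp (Subgroup.mem_inf.mp h).2
      refine Subtype.ext (Cfsg.Lib.Isolated.inverted_unique hz
        (odd_orderOf_of_mem_sylow hp P a.2.1) (odd_orderOf_of_mem_sylow hp P b.2.1) a.2.2 b.2.2 ?_)
      calc a.1 * z * a.1⁻¹ = a.1 * (z * (a.1⁻¹ * b.1) * z⁻¹) * z * (a.1⁻¹ * b.1)⁻¹ * a.1⁻¹ := by
            group
        _ = a.1 * (a.1⁻¹ * b.1) * z * (a.1⁻¹ * b.1)⁻¹ * a.1⁻¹ := by rw [hconj]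
        _ = b.1 * z * b.1⁻¹ := by group
    · obtain ⟨⟨g, hg⟩, rfl⟩ := QuotientGroup.mk_surjective q
      obtain ⟨j, hj⟩ := Cfsg.Lib.Isolated.exists_pow_conj' hz g
      set w := z * (g * z * g⁻¹) with hw
      have hwP : w ∈ (P : Subgroup G) := by
        rw [hw, show z * (g * z * g⁻¹) = z * g * z⁻¹ * (z * z) * g⁻¹ by group, hz2, mul_one]
        exact mul_mem (hzP' g hg) (Subgroup.inv_mem _ hg)
      have hkP : w ^ j ∈ (P : Subgroup G) := pow_mem hwP j
      have hinv : z * w ^ j * z⁻¹ = (w ^ j)⁻¹ := by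
        rw [← conj_pow, flip_mul hz.1 (Cfsg.Lib.Isolated.order_conj hz g), inv_pow]
      refine ⟨⟨w ^ j, hkP, hinv⟩, ?_⟩
      refine QuotientGroup.eq.mpr (mem_subgroupOf.mpr (Subgroup.mem_inf.mpr
        ⟨mul_mem (Subgroup.inv_mem _ hkP) hg, (hzC _).mpr ?_⟩))
      show z * ((w ^ j)⁻¹ * g) * z⁻¹ = (w ^ j)⁻¹ * g
      have h1 : (w ^ j)⁻¹ * (g * z * g⁻¹) * w ^ j = z := by rw [← hj]; group
      calc z * ((w ^ j)⁻¹ * g) * z⁻¹
          = (w ^ j)⁻¹ * (g * z * g⁻¹) * w ^ j * ((w ^ j)⁻¹ * g) * z⁻¹ := by rw [h1]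
        _ = (w ^ j)⁻¹ * g := by group
where
  conj_mem_aux {P : Subgroup G} {x n : G} (hx : x ∈ P) (hn : n ∈ normalizer (P : Set G)) :
      n⁻¹ * x * n ∈ P := by
    simpa using (mem_normalizer_iff.mp (Subgroup.inv_mem _ hn) x).mp hx

/-- `x` lies in a Sylow 2-subgroup in which it has no other conjugate. -/
def Isolated2 (x : G) : Prop :=
  ∃ T : Sylow 2 G, x ∈ (T : Subgroup G) ∧
    ∀ g : G, g * x * g⁻¹ ∈ (T : Subgroup G) → g * x * g⁻¹ = x

theorem exists_conj_mem_sylow (T : Sylow 2 G) {H : Subgroup G} (hTH : (T : Subgroup G) ≤ H)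
    {V : Subgroup G} (hV : IsPGroup 2 V) (hVH : V ≤ H) :
    ∃ h ∈ H, ∀ v ∈ V, h * v * h⁻¹ ∈ (T : Subgroup G) := by
  haveI : Fact (Nat.Prime 2) := ⟨Nat.prime_two⟩
  obtain ⟨R, hR⟩ := (hV.of_injective (subgroupOfEquivOfLe hVH).toMonoidHom
    (subgroupOfEquivOfLe hVH).injective).exists_le_sylow
  obtain ⟨h, hh⟩ := MulAction.exists_smul_eq H R (T.subtype hTH)
  refine ⟨h, h.2, fun v hv => ?_⟩
  have h1 : h * ⟨v, hVH hv⟩ * h⁻¹ ∈ ((h • R : Sylow 2 H) : Subgroup H) :=
    ⟨⟨v, hVH hv⟩, hR hv, rfl⟩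
  rw [hh] at h1
  exact h1

theorem Isolated2.quotient {x : G} (h : Isolated2 x) (N : Subgroup G) [N.Normal] :
    Isolated2 (QuotientGroup.mk' N x) := by
  haveI : Fact (Nat.Prime 2) := ⟨Nat.prime_two⟩
  obtain ⟨T, hx, hT⟩ := h
  refine ⟨T.mapSurjective (QuotientGroup.mk'_surjective N), ⟨x, hx, rfl⟩, fun gb hgb => ?_⟩
  obtain ⟨g, rfl⟩ := QuotientGroup.mk'_surjective N gb
  obtain ⟨t, ht, hte⟩ := hgb
  have hy : g * x * g⁻¹ ∈ (T : Subgroup G) ⊔ N := by
    have h1 : t⁻¹ * (g * x * g⁻¹) ∈ N := by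
      rw [← QuotientGroup.ker_mk' N, MonoidHom.mem_ker]
      simp only [map_mul, map_inv, hte]
      group
    rw [show g * x * g⁻¹ = t * (t⁻¹ * (g * x * g⁻¹)) by group]
    exact mul_mem_sup ht h1
  have hVp : IsPGroup 2 (zpowers (g * x * g⁻¹)) := by
    have h1 : IsPGroup 2 (zpowers x) :=
      T.isPGroup'.of_injective _ (inclusion_injective (zpowers_le.mpr hx))
    have e : (zpowers x).map (MulAut.conj g).toMonoidHom = zpowers (g * x * g⁻¹) :=
      MonoidHom.map_zpowers _ _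
    exact e ▸ h1.map _
  obtain ⟨l, hl, hlv⟩ := exists_conj_mem_sylow T (le_sup_left : (T : Subgroup G) ≤ _ ⊔ N) hVp
    (zpowers_le.mpr hy)
  obtain ⟨s, hs, n, hn, rfl⟩ : ∃ s ∈ (T : Subgroup G), ∃ n ∈ N, s * n = l := by
    rw [← SetLike.mem_coe, Subgroup.mul_normal] at hl
    exact Set.mem_mul.mp hl
  have h1 : n * (g * x * g⁻¹) * n⁻¹ ∈ (T : Subgroup G) := by
    have h2 := mul_mem (mul_mem (Subgroup.inv_mem _ hs) (hlv _ (mem_zpowers _))) hs
    convert h2 using 1
    group
  have h3 := hT (n * g) (by rwa [show n * g * x * (n * g)⁻¹ = n * (g * x * g⁻¹) * n⁻¹ by group])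
  have hn1 : QuotientGroup.mk' N n = 1 := (QuotientGroup.eq_one_iff n).mpr hn
  conv_rhs => rw [← h3]
  simp only [map_mul, map_inv, hn1, one_mul, mul_inv_rev, inv_one, mul_one]

/-- Glauberman's theorem for 2-elements. -/
theorem central_of_isolated2 : ∀ (n : ℕ) {G : Type u} [Group G] [Finite G] (x : G),
    orderOf x ∣ 2 ^ n → Isolated2 x → ∀ g : G, g * x * g⁻¹ * x⁻¹ ∈ Cfsg.pPrimeCore 2 G := by
  haveI : Fact (Nat.Prime 2) := ⟨Nat.prime_two⟩
  intro n
  induction n with
  | zero =>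
    intro G _ _ x hx _ g
    rw [pow_zero, Nat.dvd_one, orderOf_eq_one_iff] at hx
    simp [hx]
  | succ n ih =>
    intro G _ _ x hx hI g
    by_cases hlt : orderOf x ∣ 2 ^ n
    · exact ih x hlt hI g
    have hord : orderOf x = 2 ^ (n + 1) := Nat.eq_prime_pow_of_dvd_least_prime_pow Nat.prime_two hlt hx
    -- quotient by the core
    set O := Cfsg.pPrimeCore 2 G
    set π := QuotientGroup.mk' O
    have hcoreQ : Cfsg.pPrimeCore 2 (G ⧸ O) = ⊥ := by
      set K := Cfsg.pPrimeCore 2 (G ⧸ O)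
      have hKo := Cfsg.Lib.Components.coprime_card_pPrimeCore (G := G ⧸ O) 2
      have hOle : O ≤ K.comap π := fun a ha => by
        rw [mem_comap, show π a = 1 from (QuotientGroup.eq_one_iff a).mpr ha]
        exact K.one_mem
      have hmap : (K.comap π).map π = K :=
        Subgroup.map_comap_eq_self_of_surjective (QuotientGroup.mk'_surjective O) K
      have hcard : (Nat.card (K.comap π)).Coprime 2 := by
        have h1 : Nat.card (K.comap π) = Nat.card O * O.relIndex (K.comap π) := by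
          rw [← relIndex_bot_left, ← relIndex_bot_left, relIndex_mul_relIndex _ _ _ bot_le hOle]
        have h2 : O.relIndex (K.comap π) = Nat.card K := by
          conv_rhs => rw [← hmap, ← relIndex_ker, QuotientGroup.ker_mk']
        rw [h1, h2]
        exact (Cfsg.Lib.Components.coprime_card_pPrimeCore 2).mul_left hKo
      rw [← hmap, Subgroup.map_eq_bot_iff, QuotientGroup.ker_mk']
      exact Cfsg.Lib.Components.le_pPrimeCore hcard
    have hQ : Isolated2 (π x) := hI.quotient O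
    obtain ⟨T, hxT, hT⟩ := hQ
    set y := π x
    suffices hy : ∀ h : G ⧸ O, h * y * h⁻¹ = y by
      rw [← QuotientGroup.ker_mk' O, MonoidHom.mem_ker, map_mul, map_mul, map_mul, map_inv, map_inv]
      exact mul_inv_eq_one.mpr (hy (π g))
    intro h
    have hyord : orderOf y ∣ 2 ^ (n + 1) := (orderOf_map_dvd π x).trans hx
    by_cases hyn : orderOf y ∣ 2 ^ n
    · have h1 := ih y hyn ⟨T, hxT, hT⟩ h
      rw [hcoreQ, mem_bot, mul_inv_eq_one] at h1
      exact h1
    set u := y ^ (2 ^ n) with hu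
    have hyo : orderOf y = 2 ^ (n + 1) :=
      Nat.eq_prime_pow_of_dvd_least_prime_pow Nat.prime_two hyn hyord
    have hu2 : orderOf u = 2 := by
      rw [hu, orderOf_pow, hyo, Nat.gcd_eq_right (pow_dvd_pow 2 n.le_succ),
        Nat.pow_div n.le_succ (by norm_num), show n + 1 - n = 1 by omega, pow_one]
    -- all conjugates of `u` in `T` equal `u`
    have hTu : ∀ b, b * u * b⁻¹ ∈ (T : Subgroup (G ⧸ O)) → b * u * b⁻¹ = u := by
      intro b hb
      set v := b * u * b⁻¹
      set C := centralizer ({v} : Set (G ⧸ O))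
      have hTx : ∀ t ∈ (T : Subgroup (G ⧸ O)), t * y * t⁻¹ = y := fun t ht =>
        hT t (mul_mem (mul_mem ht hxT) (Subgroup.inv_mem _ ht))
      -- move `b y b⁻¹` into a Sylow subgroup containing `v`
      have hbyC : b * y * b⁻¹ ∈ C := mem_centralizer_singleton_iff.mpr (by
        simp only [v, hu]
        rw [← conj_pow]
        exact ((Commute.refl (b * y * b⁻¹)).pow_right (2 ^ n)).eq)
      have hyC : y ∈ C := mem_centralizer_singleton_iff.mpr
        (by rw [mul_inv_eq_iff_eq_mul.mp (hTx v hb)])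
      have hp2 : ∀ a : G ⧸ O, a ∈ C → orderOf a = 2 ^ (n + 1) →
          IsPGroup 2 ((zpowers a).subgroupOf C) := fun a haC ha => IsPGroup.of_card (n := n + 1) (by
        rw [Nat.card_congr (subgroupOfEquivOfLe (zpowers_le.mpr haC)).toEquiv, Nat.card_zpowers, ha])
      obtain ⟨R, hR⟩ := (hp2 _ hbyC
        (by rw [Cfsg.Lib.Isolated.orderOf_conj', hyo])).exists_le_sylow
      obtain ⟨R', hR'⟩ := (hp2 y hyC hyo).exists_le_sylow
      obtain ⟨c, hc⟩ := MulAction.exists_smul_eq C R R'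
      -- a 2-group containing both `y` and a conjugate of `y` fixing `v`
      obtain ⟨a, ha⟩ : ∃ a : G ⧸ O, ∀ r ∈ ((R' : Subgroup C).map C.subtype),
          a * r * a⁻¹ ∈ (T : Subgroup (G ⧸ O)) := by
        obtain ⟨a, -, ha⟩ := exists_conj_mem_sylow T le_top (R'.isPGroup'.map C.subtype) le_top
        exact ⟨a, ha⟩
      have hay : a * y * a⁻¹ = y :=
        hT a (ha y ⟨⟨y, hyC⟩, hR' (mem_zpowers y), rfl⟩)
      have hmem : ((c : G ⧸ O) * (b * y * b⁻¹) * (c : G ⧸ O)⁻¹) ∈
          (R' : Subgroup C).map C.subtype := by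
        refine ⟨c * ⟨_, hbyC⟩ * c⁻¹, ?_, rfl⟩
        rw [← hc]
        exact ⟨⟨_, hbyC⟩, hR (mem_zpowers (b * y * b⁻¹)), rfl⟩
      have h1 : a * c * b * y * (a * c * b)⁻¹ = y := by
        refine hT _ ?_
        convert ha _ hmem using 1
        group
      have hcv : (c : G ⧸ O) * v * (c : G ⧸ O)⁻¹ = v := by
        rw [mem_centralizer_singleton_iff.mp c.2, mul_inv_cancel_right]
      have h2 : a * c * b * u * (a * c * b)⁻¹ = u := by rw [hu, ← conj_pow, h1]
      have hau : a * u * a⁻¹ = u := by rw [hu, ← conj_pow, hay]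
      calc v = (c : G ⧸ O) * v * (c : G ⧸ O)⁻¹ := hcv.symm
        _ = a⁻¹ * (a * c * b * u * (a * c * b)⁻¹) * a := by simp only [v]; group
        _ = a⁻¹ * u * a := by rw [h2]
        _ = a⁻¹ * (a * u * a⁻¹) * a := by rw [hau]
        _ = u := by group
    have huI : Cfsg.IsIsolatedInvolution u := by
      refine ⟨hu2, fun b hcm => ?_⟩
      have hV : IsPGroup 2 ↥(zpowers u ⊔ zpowers (b * u * b⁻¹)) := by
        refine IsPGroup.to_sup_of_normal_left' ?_ ?_ (zpowers_le.mpr ?_)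
        · exact IsPGroup.of_card (n := 1) (by rw [Nat.card_zpowers, hu2, pow_one])
        · exact IsPGroup.of_card (n := 1)
            (by rw [Nat.card_zpowers, Cfsg.Lib.Isolated.orderOf_conj', hu2, pow_one])
        · refine mem_normalizer_of_maps fun a ha => ?_
          obtain ⟨i, rfl⟩ := ha
          refine ⟨i, ?_⟩
          show u ^ i = b * u * b⁻¹ * u ^ i * (b * u * b⁻¹)⁻¹
          rw [← (hcm.zpow_left i).eq, mul_inv_cancel_right]
      obtain ⟨a, -, ha⟩ := exists_conj_mem_sylow T le_top hV le_top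
      have h1 := hTu a (ha u (mem_sup_left (mem_zpowers u)))
      have h2 := hTu (a * b) (by
        convert ha (b * u * b⁻¹) (mem_sup_right (mem_zpowers _)) using 1; group)
      calc b * u * b⁻¹ = a⁻¹ * (a * b * u * (a * b)⁻¹) * a := by group
        _ = a⁻¹ * u * a := by rw [h2]
        _ = a⁻¹ * (a * u * a⁻¹) * a := by rw [h1]
        _ = u := by group
    have hucent : ∀ b, b * u * b⁻¹ = u := fun b => by
      have h1 := zstarProp huI b
      rw [hcoreQ, mem_bot, mul_inv_eq_one, mul_inv_eq_iff_eq_mul] at h1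
      rw [← h1, mul_inv_cancel_right]
    set U := zpowers u
    haveI hUn : U.Normal := ⟨fun a ⟨i, hi⟩ b => ⟨i, by
      subst hi; show u ^ i = b * u ^ i * b⁻¹; rw [← conj_zpow, hucent]⟩⟩
    set ρ := QuotientGroup.mk' U
    have hρy : orderOf (ρ y) ∣ 2 ^ n := by
      refine orderOf_dvd_of_pow_eq_one ?_
      rw [← map_pow, ← hu]
      exact (QuotientGroup.eq_one_iff u).mpr (mem_zpowers u)
    have h1 := ih (ρ y) hρy (Isolated2.quotient ⟨T, hxT, hT⟩ U) (ρ h)
    have hcore2 : Cfsg.pPrimeCore 2 ((G ⧸ O) ⧸ U) = ⊥ := by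
      set K := Cfsg.pPrimeCore 2 ((G ⧸ O) ⧸ U)
      have hKo := Cfsg.Lib.Components.coprime_card_pPrimeCore (G := (G ⧸ O) ⧸ U) 2
      set L := K.comap ρ
      have hUL : U ≤ L := fun a ha => by
        rw [mem_comap, show ρ a = 1 from (QuotientGroup.eq_one_iff a).mpr ha]
        exact K.one_mem
      have hLmap : L.map ρ = K :=
        Subgroup.map_comap_eq_self_of_surjective (QuotientGroup.mk'_surjective U) K
      have hidx : (U.subgroupOf L).index = Nat.card K := by
        show U.relIndex L = _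
        conv_rhs => rw [← hLmap, ← relIndex_ker, QuotientGroup.ker_mk']
      have hUc : Nat.card (U.subgroupOf L) = 2 := by
        rw [Nat.card_congr (subgroupOfEquivOfLe hUL).toEquiv, Nat.card_zpowers, hu2]
      obtain ⟨W, hW⟩ := exists_right_complement'_of_coprime (N := U.subgroupOf L)
        (by rw [hUc, hidx]; exact hKo.symm)
      have hWcard : Nat.card W = Nat.card K := by rw [← hidx, hW.symm.index_eq_card]
      have hLeq : ∀ a : L, orderOf (a : G ⧸ O) ∣ Nat.card K → a ∈ W := by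
        intro a ha
        obtain ⟨⟨c, w⟩, rfl⟩ := hW.surjective a
        have hcomm : Commute (c : L) (w : L) := by
          refine Subtype.ext ?_
          obtain ⟨i, hi⟩ := (c.2 : ((c : L) : G ⧸ O) ∈ U)
          have hi' : u ^ i = ((c : L) : G ⧸ O) := hi
          show ((c : L) : G ⧸ O) * (w : L) = (w : L) * (c : L)
          rw [← hi']
          have := hucent ((w : L) : G ⧸ O)
          exact (Commute.zpow_left (show Commute u ((w : L) : G ⧸ O) from
            (mul_inv_eq_iff_eq_mul.mp this).symm) i).eq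
        have h2 : ((c : L) * w) ^ Nat.card K = 1 := by
          refine Subtype.ext ?_
          exact orderOf_dvd_iff_pow_eq_one.mp ha
        rw [hcomm.mul_pow] at h2
        have hw1 : (w : L) ^ Nat.card K = 1 := by
          have := congrArg Subtype.val (pow_card_eq_one' (G := W) (x := w))
          rw [hWcard] at this
          exact this
        rw [hw1, mul_one] at h2
        have hc2 : (c : L) ^ 2 = 1 := by
          have := congrArg Subtype.val (pow_card_eq_one' (G := U.subgroupOf L) (x := c))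
          rw [hUc] at this
          exact this
        have hc1 : (c : L) = 1 := orderOf_eq_one_iff.mp (Nat.eq_one_of_dvd_coprimes hKo
          (orderOf_dvd_of_pow_eq_one h2) (orderOf_dvd_of_pow_eq_one hc2))
        show (c : L) * (w : L) ∈ W
        rw [hc1, one_mul]
        exact w.2
      have hWn : (W.map L.subtype).Normal := ⟨fun a ha b => by
        obtain ⟨w, hw, rfl⟩ := ha
        have hL : b * ((w : L) : G ⧸ O) * b⁻¹ ∈ L :=
          (inferInstance : (K.comap ρ).Normal).conj_mem _ w.2 b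
        refine ⟨⟨_, hL⟩, hLeq ⟨_, hL⟩ ?_, rfl⟩
        rw [Cfsg.Lib.Isolated.orderOf_conj', Subgroup.orderOf_coe, ← hWcard]
        rw [← Subgroup.orderOf_mk w hw]
        exact orderOf_dvd_natCard _⟩
      have hWbot : W.map L.subtype = ⊥ := by
        refine le_bot_iff.mp (hcoreQ ▸ Cfsg.Lib.Components.le_pPrimeCore (hn := hWn) ?_)
        rw [Subgroup.card_map_of_injective L.subtype_injective, hWcard]
        exact hKo
      refine Subgroup.eq_bot_of_card_le _ ?_
      rw [← hWcard, ← Subgroup.card_map_of_injective L.subtype_injective, hWbot, Subgroup.card_bot]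
    rw [hcore2, mem_bot] at h1
    have h3 : h * y * h⁻¹ * y⁻¹ ∈ U := by
      rw [← QuotientGroup.ker_mk' U, MonoidHom.mem_ker]
      simp only [map_mul, map_inv]
      exact h1
    refine hT h ?_
    rw [show h * y * h⁻¹ = h * y * h⁻¹ * y⁻¹ * y by group]
    exact mul_mem (zpowers_le.mpr ((T : Subgroup (G ⧸ O)).pow_mem hxT (2 ^ n)) h3) hxT

end Cfsg.Lib.ZStarApps
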