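import Mathlib

/-!
Calculations with two involutions and the dihedral group they generate.
-/

set_option autoImplicit false

namespace Cfsg.Lib.InvolCalc

variable {G : Type*} [Group G] {x y : G}

theorem sq_of_order_two (hx : orderOf x = 2) : x * x = 1 := by
  rw [← sq, ← hx, pow_orderOf_eq_one]

theorem inv_of_order_two (hx : orderOf x = 2) : x⁻¹ = x :=
  inv_eq_of_mul_eq_one_right (sq_of_order_two hx)

theorem ne_one_of_order_two (hx : orderOf x = 2) : x ≠ 1 := fun h => by simp [h] at hx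

theorem order_two_of_mul_self (h : x * x = 1) (h1 : x ≠ 1) : orderOf x = 2 :=
  orderOf_eq_prime (by rw [sq, h]) h1

theorem flip_mul (hx : orderOf x = 2) (hy : orderOf y = 2) : x * (x * y) * x⁻¹ = (x * y)⁻¹ := by
  rw [mul_inv_rev, inv_of_order_two hx, inv_of_order_two hy, ← mul_assoc, sq_of_order_two hx, one_mul]

theorem flip_zpow (hx : orderOf x = 2) (hy : orderOf y = 2) (i : ℤ) :
    x * (x * y) ^ i = (x * y) ^ (-i) * x := by
  have h : x * (x * y) ^ i * x⁻¹ = (x * y) ^ (-i) := by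
    rw [← conj_zpow, flip_mul hx hy, inv_zpow, zpow_neg]
  rw [← h, inv_mul_cancel_right]

theorem snd_eq (hx : orderOf x = 2) : y = x * (x * y) := by
  rw [← mul_assoc, sq_of_order_two hx, one_mul]

theorem mem_closure_pair (hx : orderOf x = 2) (hy : orderOf y = 2) {d : G}
    (hd : d ∈ Subgroup.closure ({x, y} : Set G)) :
    (∃ i : ℤ, d = (x * y) ^ i) ∨ ∃ i : ℤ, d = x * (x * y) ^ i := by
  induction hd using Subgroup.closure_induction with
  | mem z hz =>
    rcases hz with rfl | hz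
    · exact Or.inr ⟨0, by rw [zpow_zero, mul_one]⟩
    · rw [Set.mem_singleton_iff] at hz
      subst hz
      exact Or.inr ⟨1, by rw [zpow_one]; exact snd_eq hx⟩
  | one => exact Or.inl ⟨0, by rw [zpow_zero]⟩
  | mul a b _ _ ha hb =>
    rcases ha with ⟨i, rfl⟩ | ⟨i, rfl⟩ <;> rcases hb with ⟨j, rfl⟩ | ⟨j, rfl⟩
    · exact Or.inl ⟨i + j, by rw [zpow_add]⟩
    · refine Or.inr ⟨-i + j, ?_⟩
      rw [zpow_add, ← mul_assoc x, flip_zpow hx hy (-i), neg_neg, mul_assoc]
    · exact Or.inr ⟨i + j, by rw [zpow_add, mul_assoc]⟩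
    · refine Or.inl ⟨-i + j, ?_⟩
      rw [flip_zpow hx hy i, zpow_add, mul_assoc, ← mul_assoc x x, sq_of_order_two hx, one_mul]
  | inv a _ ha =>
    rcases ha with ⟨i, rfl⟩ | ⟨i, rfl⟩
    · exact Or.inl ⟨-i, by rw [zpow_neg]⟩
    · exact Or.inr ⟨i, by rw [mul_inv_rev, ← zpow_neg, inv_of_order_two hx, flip_zpow hx hy i]⟩

theorem zpow_mem_closure_pair (i : ℤ) : (x * y) ^ i ∈ Subgroup.closure ({x, y} : Set G) :=
  Subgroup.zpow_mem _ (Subgroup.mul_mem _ (Subgroup.subset_closure (by simp))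
    (Subgroup.subset_closure (by simp))) i

theorem not_mem_zpowers (hx : orderOf x = 2) (hy : orderOf y = 2) (hxy : x ≠ y) :
    x ∉ Subgroup.zpowers (x * y) := by
  rintro ⟨i, hi⟩
  change (x * y) ^ i = x at hi
  have h1 : Commute x (x * y) := by
    have := Commute.zpow_self (x * y) i
    rwa [hi] at this
  have h2 : x * y * (x * y) = 1 := by
    have h3 : x * (x * y) * x⁻¹ = x * y := by rw [h1.eq, mul_inv_cancel_right]
    rw [flip_mul hx hy] at h3
    conv_lhs => arg 2; rw [← h3]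
    rw [mul_inv_cancel]
  rcases Int.even_or_odd i with ⟨k, rfl⟩ | ⟨k, rfl⟩
  · refine ne_one_of_order_two hx ?_
    rw [← hi, zpow_add, ← (Commute.refl (x * y)).mul_zpow, h2, one_zpow]
  · rw [zpow_add, two_mul, zpow_add, ← (Commute.refl (x * y)).mul_zpow, h2, one_zpow, zpow_one, one_mul,
      mul_eq_left] at hi
    exact ne_one_of_order_two hy hi

theorem order_two_of_not_mem (hx : orderOf x = 2) (hy : orderOf y = 2) (hxy : x ≠ y) {d : G}
    (hd : d ∈ Subgroup.closure ({x, y} : Set G)) (hd' : d ∉ Subgroup.zpowers (x * y)) :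
    orderOf d = 2 := by
  rcases mem_closure_pair hx hy hd with ⟨i, rfl⟩ | ⟨i, rfl⟩
  · exact absurd ⟨i, rfl⟩ hd'
  refine order_two_of_mul_self ?_ fun h => not_mem_zpowers hx hy hxy ⟨-i, ?_⟩
  · conv_lhs => arg 1; rw [flip_zpow hx hy i]
    rw [mul_assoc, ← mul_assoc x x, sq_of_order_two hx, one_mul, ← zpow_add, neg_add_cancel, zpow_zero]
  · show (x * y) ^ (-i) = x
    rw [zpow_neg, inv_eq_of_mul_eq_one_left h]

theorem conj_rot (hx : orderOf x = 2) (hy : orderOf y = 2) (i : ℤ) :
    (x * y) ^ i * x * ((x * y) ^ i)⁻¹ = (x * y) ^ (2 * i) * x := by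
  rw [mul_assoc, ← zpow_neg, flip_zpow hx hy (-i), neg_neg, ← mul_assoc, ← zpow_add, two_mul]

theorem snd_eq' (hx : orderOf x = 2) (hy : orderOf y = 2) : y = (x * y) ^ (-1 : ℤ) * x := by
  rw [← flip_zpow hx hy 1, zpow_one]
  exact snd_eq hx

theorem conj_cases (hx : orderOf x = 2) (hy : orderOf y = 2) {d : G}
    (hd : d ∈ Subgroup.closure ({x, y} : Set G)) :
    ∃ i : ℤ, d * x * d⁻¹ = (x * y) ^ (2 * i) * x := by
  rcases mem_closure_pair hx hy hd with ⟨i, rfl⟩ | ⟨i, rfl⟩
  · exact ⟨i, conj_rot hx hy i⟩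
  · refine ⟨-i, ?_⟩
    calc x * (x * y) ^ i * x * (x * (x * y) ^ i)⁻¹
        = x * ((x * y) ^ i * x * ((x * y) ^ i)⁻¹) * x⁻¹ := by group
      _ = x * ((x * y) ^ (2 * i) * x) * x⁻¹ := by rw [conj_rot hx hy]
      _ = (x * y) ^ (2 * -i) * x := by
        rw [← mul_assoc, mul_inv_cancel_right, flip_zpow hx hy, mul_neg]

/-- Odd order of the product: conjugate. -/
theorem conj_of_odd (hx : orderOf x = 2) (hy : orderOf y = 2) (hodd : Odd (orderOf (x * y))) :
    ∃ d ∈ Subgroup.closure ({x, y} : Set G), d * x * d⁻¹ = y := by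
  obtain ⟨k, hk⟩ := hodd
  refine ⟨(x * y) ^ (k : ℤ), zpow_mem_closure_pair _, ?_⟩
  rw [conj_rot hx hy]
  conv_rhs => rw [snd_eq' hx hy]
  congr 1
  rw [← mul_inv_eq_one, ← zpow_neg, ← zpow_add, show (2 * (k : ℤ) + - -1) = ((orderOf (x * y) : ℕ) : ℤ) by
    rw [hk]; push_cast; ring, zpow_natCast, pow_orderOf_eq_one]

theorem not_conj_of_even (hx : orderOf x = 2) (hy : orderOf y = 2) (heven : Even (orderOf (x * y))) {d : G}
    (hd : d ∈ Subgroup.closure ({x, y} : Set G)) : d * x * d⁻¹ ≠ y := by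
  intro h
  obtain ⟨i, hi⟩ := conj_cases hx hy hd
  rw [h] at hi
  have h1 : (x * y) ^ (2 * i + 1) = 1 := by
    have h2 := mul_right_cancel ((snd_eq' hx hy).symm.trans hi)
    rw [zpow_add, ← h2, ← zpow_add, neg_add_cancel, zpow_zero]
  have h2 := (Int.natCast_dvd_natCast.mpr heven.two_dvd).trans (orderOf_dvd_iff_zpow_eq_one.mpr h1)
  omega

variable [Finite G]

theorem central_spec (hx : orderOf x = 2) (hy : orderOf y = 2) (heven : Even (orderOf (x * y))) :
    orderOf ((x * y) ^ (orderOf (x * y) / 2)) = 2 ∧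
      Commute ((x * y) ^ (orderOf (x * y) / 2)) x ∧ Commute ((x * y) ^ (orderOf (x * y) / 2)) y := by
  obtain ⟨h, hh⟩ := heven
  have hpos := orderOf_pos (x * y)
  set R := x * y with hR
  rw [show orderOf R / 2 = h by omega]
  have h2 : orderOf (R ^ h) = 2 := by
    rw [orderOf_pow, Nat.gcd_eq_right ⟨2, by omega⟩, hh]
    exact Nat.div_eq_of_eq_mul_left (by omega) (by ring)
  have hcx : Commute (R ^ h) x := by
    have h3 : x * R ^ h = (R ^ h)⁻¹ * x := by
      have := flip_zpow hx hy (h : ℤ)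
      rwa [zpow_neg, zpow_natCast] at this
    rw [inv_of_order_two h2] at h3
    exact h3.symm
  refine ⟨h2, hcx, ?_⟩
  have := hcx.mul_right (Commute.pow_self R h)
  rwa [hR, ← snd_eq hx] at this

theorem conj_mul_central_iff (hx : orderOf x = 2) (hy : orderOf y = 2) (heven : Even (orderOf (x * y))) :
    (∃ d ∈ Subgroup.closure ({x, y} : Set G), d * x * d⁻¹ = x * (x * y) ^ (orderOf (x * y) / 2)) ↔
      4 ∣ orderOf (x * y) := by
  obtain ⟨h, hh⟩ := heven
  have hpos := orderOf_pos (x * y)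
  rw [show orderOf (x * y) / 2 = h by omega, ← zpow_natCast, flip_zpow hx hy]
  constructor
  · rintro ⟨d, hd, e⟩
    obtain ⟨i, hi⟩ := conj_cases hx hy hd
    rw [e] at hi
    have h1 : (x * y) ^ (2 * i + h) = 1 := by
      rw [zpow_add, ← mul_right_cancel hi, ← zpow_add, neg_add_cancel, zpow_zero]
    obtain ⟨k, hk⟩ := orderOf_dvd_iff_zpow_eq_one.mpr h1
    rw [hh] at hk ⊢
    rw [show ((h + h : ℕ) : ℤ) * k = 2 * ((h : ℤ) * k) by push_cast; ring] at hk
    omega
  · rintro ⟨k, hk⟩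
    refine ⟨(x * y) ^ (k : ℤ), zpow_mem_closure_pair _, ?_⟩
    rw [conj_rot hx hy]
    congr 1
    rw [← mul_inv_eq_one, ← zpow_neg, ← zpow_add,
      show (2 * (k : ℤ) + - -(h : ℤ)) = ((orderOf (x * y) : ℕ) : ℤ) by omega, zpow_natCast,
      pow_orderOf_eq_one]

theorem exists_dihedral_equiv (hx : orderOf x = 2) (hy : orderOf y = 2) (hxy : x ≠ y) :
    Nonempty (Subgroup.closure ({x, y} : Set G) ≃* DihedralGroup (orderOf (x * y))) := by
  set R := x * y with hR
  set n := orderOf R with hn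
  haveI : NeZero n := ⟨(orderOf_pos R).ne'⟩
  let e : ZMod n → G := fun i => R ^ i.val
  have he : ∀ k : ℤ, e (k : ZMod n) = R ^ k := fun k => by
    show R ^ ((k : ZMod n)).val = R ^ k
    rw [← zpow_natCast, ZMod.val_intCast]
    exact zpow_mod_orderOf R k
  have hcast : ∀ i : ZMod n, ((i.val : ℤ) : ZMod n) = i := fun i => by simp
  have hadd : ∀ i j, e (i + j) = e i * e j := fun i j => by
    rw [← hcast i, ← hcast j, ← Int.cast_add, he, he, he, zpow_add]
  have hflip : ∀ i, x * e i = e (-i) * x := fun i => by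
    rw [← hcast i, ← Int.cast_neg, he, he]
    exact flip_zpow hx hy _
  have hsub : ∀ i j, e (j - i) = e (-i) * e j := fun i j => by rw [← hadd]; congr 1; abel
  let f : DihedralGroup n → G := fun d => match d with
    | .r i => e i
    | .sr i => x * e i
  let F : DihedralGroup n →* G := MonoidHom.mk' f fun a b => by
    rcases a with i | i <;> rcases b with j | j
    · exact hadd i j
    · show x * e (j - i) = e i * (x * e j)
      rw [← mul_assoc (e i), ← neg_neg i, ← hflip (-i), neg_neg, mul_assoc, hsub]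
    · show x * e (i + j) = x * e i * e j
      rw [hadd, mul_assoc]
    · show e (j - i) = x * e i * (x * e j)
      rw [hflip, mul_assoc, ← mul_assoc x x, sq_of_order_two hx, one_mul, hsub]
  have hinj : Function.Injective F := by
    have hie : Function.Injective e := fun i j h =>
      ZMod.val_injective n (pow_injOn_Iio_orderOf (ZMod.val_lt i) (ZMod.val_lt j) h)
    have hnot : ∀ i j, x * e i ≠ e j := fun i j h => not_mem_zpowers hx hy hxy (by
      have h' : e j * (e i)⁻¹ ∈ Subgroup.zpowers R :=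
        Subgroup.mul_mem _ (Subgroup.pow_mem _ (Subgroup.mem_zpowers _) _)
          (Subgroup.inv_mem _ (Subgroup.pow_mem _ (Subgroup.mem_zpowers _) _))
      rwa [← eq_mul_inv_of_mul_eq h] at h')
    rintro (i | i) (j | j) h
    · exact congrArg _ (hie h)
    · exact absurd (Eq.symm h) (hnot j i)
    · exact absurd h (hnot i j)
    · exact congrArg _ (hie (mul_left_cancel h))
  have hrange : F.range = Subgroup.closure ({x, y} : Set G) := by
    refine le_antisymm ?_ ?_
    · rintro _ ⟨(i | i), rfl⟩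
      · exact Subgroup.pow_mem _ (by simpa using zpow_mem_closure_pair (x := x) (y := y) 1) _
      · exact Subgroup.mul_mem _ (Subgroup.subset_closure (by simp))
          (Subgroup.pow_mem _ (by simpa using zpow_mem_closure_pair (x := x) (y := y) 1) _)
    · refine (Subgroup.closure_le _).mpr ?_
      rintro z (rfl | hz)
      · exact ⟨.sr ((0 : ℤ) : ZMod n), show z * e _ = z by rw [he, zpow_zero, mul_one]⟩
      · rw [Set.mem_singleton_iff] at hz
        subst hz
        exact ⟨.sr ((1 : ℤ) : ZMod n), show x * e _ = _ by rw [he, zpow_one]; exact (snd_eq hx).symm⟩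
  exact ⟨((MonoidHom.ofInjective hinj).trans (MulEquiv.subgroupCongr hrange)).symm⟩

end Cfsg.Lib.InvolCalc
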