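/-
Strongly embedded subgroups.
-/
import Cfsg.Agent.InvolCalc.Dihedral
import Cfsg.Prelude.Def_Involutions
import Mathlib.GroupTheory.Nilpotent
import Mathlib.GroupTheory.Sylow

set_option linter.style.haveILetI false
set_option linter.unusedSectionVars false

namespace Cfsg.Lib.StrongEmb

open Subgroup Cfsg.Lib.InvolCalc
open scoped Pointwise

universe u

variable {G : Type u} [Group G] [Finite G] {H : Subgroup G}

theorem mem_conj_iff {g x : G} : x ∈ H.map (MulAut.conj g).toMonoidHom ↔ g⁻¹ * x * g ∈ H := by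
  constructor
  · rintro ⟨y, hy, rfl⟩
    show g⁻¹ * (g * y * g⁻¹) * g ∈ H
    rwa [show g⁻¹ * (g * y * g⁻¹) * g = y by group]
  · exact fun h => ⟨g⁻¹ * x * g, h, show g * (g⁻¹ * x * g) * g⁻¹ = x by group⟩

theorem mem_of_involution (hH : Cfsg.IsStronglyEmbedded H) {t g : G} (ht : orderOf t = 2) (h1 : t ∈ H)
    (h2 : g⁻¹ * t * g ∈ H) : g ∈ H := by
  by_contra hg
  have h3 := hH.2.2 g hg
  have h4 : orderOf (⟨t, mem_inf.2 ⟨h1, mem_conj_iff.2 h2⟩⟩ : ↥(H ⊓ H.map (MulAut.conj g).toMonoidHom)) = 2 := by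
    rw [Subgroup.orderOf_mk, ht]
  have h5 := h4 ▸ orderOf_dvd_natCard (⟨t, mem_inf.2 ⟨h1, mem_conj_iff.2 h2⟩⟩ : ↥(H ⊓ H.map (MulAut.conj g).toMonoidHom))
  exact (Nat.not_even_iff_odd.2 h3) (even_iff_two_dvd.2 h5)

theorem exists_involution_of_even {K : Subgroup G} (h : Even (Nat.card K)) : ∃ t ∈ K, orderOf t = 2 := by
  haveI : Fact (Nat.Prime 2) := ⟨Nat.prime_two⟩
  obtain ⟨⟨t, ht⟩, hto⟩ := exists_prime_orderOf_dvd_card' (G := K) 2 h.two_dvd
  exact ⟨t, ht, by rwa [Subgroup.orderOf_mk] at hto⟩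

theorem centralizer_le (hH : Cfsg.IsStronglyEmbedded H) {t : G} (ht : orderOf t = 2) (h1 : t ∈ H) :
    centralizer ({t} : Set G) ≤ H := fun c hc =>
  mem_of_involution hH ht h1 (by
    rwa [mul_assoc, ← (mem_centralizer_singleton_iff.1 hc), inv_mul_cancel_left])

theorem conj_eq (hH : Cfsg.IsStronglyEmbedded H) {t g : G} (ht : orderOf t = 2) (h1 : t ∈ H)
    (h2 : g * t * g⁻¹ ∈ H) : g ∈ H := by
  have := mem_of_involution (g := g⁻¹) hH ht h1 (by rwa [inv_inv])
  exact inv_mem_iff.1 this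

theorem of_conditions (hH : H ≠ ⊤) (heven : Even (Nat.card H))
    (hC : ∀ t ∈ H, orderOf t = 2 → centralizer ({t} : Set G) ≤ H)
    (hF : ∀ t ∈ H, ∀ s ∈ H, orderOf t = 2 → orderOf s = 2 → IsConj t s → ∃ h ∈ H, h * t * h⁻¹ = s) :
    Cfsg.IsStronglyEmbedded H := by
  refine ⟨hH, heven, fun g hg => ?_⟩
  rw [← Nat.not_even_iff_odd]
  intro he
  obtain ⟨t, htm, ht⟩ := exists_involution_of_even he
  obtain ⟨htH, htg⟩ := mem_inf.1 htm
  rw [mem_conj_iff] at htg
  set s := g⁻¹ * t * g with hs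
  have hso : orderOf s = 2 := by
    rw [show s = MulAut.conj g⁻¹ t by simp [hs], MulEquiv.orderOf_eq, ht]
  obtain ⟨h, hh, he'⟩ := hF t htH s htg ht hso (isConj_iff.2 ⟨g⁻¹, by rw [hs]; group⟩)
  have hgh : g * h ∈ H := hC t htH ht (mem_centralizer_singleton_iff.2 (mul_inv_eq_iff_eq_mul.1 (by
    calc g * h * t * (g * h)⁻¹ = g * (h * t * h⁻¹) * g⁻¹ := by group
      _ = t := by rw [he', hs]; group)))
  exact hg ((mul_mem_cancel_right hh).1 hgh)

/-- a subgroup of 2-power order of `H` all of whose overgroup normalisers lie in `H` -/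
theorem sylow_of_normalizer_le {p : ℕ} [Fact p.Prime] {X : Subgroup G} (hX : IsPGroup p X) (K : Subgroup G)
    (hXK : X ≤ K) (hmax : ∀ Y : Subgroup G, IsPGroup p Y → X ≤ Y → Y ≤ K → Y = X)
    (hN : normalizer (X : Set G) ≤ K) : ∃ Q : Sylow p G, (Q : Subgroup G) = X := by
  obtain ⟨Q, hQ⟩ := hX.exists_le_sylow
  refine ⟨Q, le_antisymm ?_ hQ⟩
  by_contra hnot
  haveI : Group.IsNilpotent (Q : Subgroup G) := IsPGroup.isNilpotent Q.isPGroup'
  have hlt : X.subgroupOf (Q : Subgroup G) < ⊤ := lt_top_iff_ne_top.2 fun h => hnot (subgroupOf_eq_top.1 h)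
  have hn := Group.normalizerCondition_of_isNilpotent (G := (Q : Subgroup G)) _ hlt
  obtain ⟨⟨n, hnQ⟩, hn1, hn2⟩ := SetLike.exists_of_lt hn
  have hnN : n ∈ normalizer (X : Set G) := by
    refine mem_normalizer_iff.2 fun z => ⟨fun hz => ?_, fun hz => ?_⟩
    · exact (mem_normalizer_iff.1 hn1 ⟨z, hQ hz⟩).1 hz
    · have hzQ : z ∈ (Q : Subgroup G) := by
        have := mul_mem (mul_mem (inv_mem hnQ) (hQ hz)) hnQ
        simpa [mul_assoc] using this
      exact (mem_normalizer_iff.1 hn1 ⟨z, hzQ⟩).2 hz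
  have hYp : IsPGroup p ↥((Q : Subgroup G) ⊓ K) := Q.isPGroup'.to_le inf_le_left
  have := hmax _ hYp (le_inf hQ hXK) inf_le_right
  exact hn2 (this ▸ mem_inf.2 ⟨hnQ, hN hnN⟩ : n ∈ X)

theorem of_normalizers (hH : H ≠ ⊤) (P : Sylow 2 H) (hP : (P : Subgroup H) ≠ ⊥)
    (hN : ∀ X : Subgroup H, X ≤ (P : Subgroup H) → X ≠ ⊥ → normalizer ((X.map H.subtype : Subgroup G) : Set G) ≤ H) :
    Cfsg.IsStronglyEmbedded H := by
  haveI : Fact (Nat.Prime 2) := ⟨Nat.prime_two⟩
  have heven : Even (Nat.card H) := by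
    haveI : Nontrivial (P : Subgroup H) := (nontrivial_iff_ne_bot _).2 hP
    obtain ⟨k, hk, hkc⟩ := P.isPGroup'.nontrivial_iff_card.mp inferInstance
    exact even_iff_two_dvd.2 ((dvd_pow_self 2 (by omega)).trans (hkc ▸ card_subgroup_dvd_card (P : Subgroup H)))
  -- the hypothesis for every 2-subgroup of `H`
  have hall : ∀ X : Subgroup G, X ≤ H → IsPGroup 2 X → X ≠ ⊥ → normalizer (X : Set G) ≤ H := by
    intro X hX hXp hXne n hn
    obtain ⟨R, hR⟩ := (hXp.of_equiv (subgroupOfEquivOfLe hX).symm).exists_le_sylow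
    obtain ⟨h, hh⟩ := MulAction.exists_smul_eq H R P
    have hle : (X.subgroupOf H).map (MulAut.conj h).toMonoidHom ≤ (P : Subgroup H) := by
      rw [← hh, Sylow.coe_subgroup_smul]; exact map_mono hR
    have hne : (X.subgroupOf H).map (MulAut.conj h).toMonoidHom ≠ ⊥ := by
      rw [Ne, map_eq_bot_iff_of_injective _ (MulAut.conj h).injective, subgroupOf_eq_bot]
      exact fun hd => hXne (disjoint_self.1 (hd.mono_right hX))
    have hmem : ∀ z : G, z ∈ ((X.subgroupOf H).map (MulAut.conj h).toMonoidHom).map H.subtype ↔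
        (h : G)⁻¹ * z * h ∈ X := by
      intro z
      constructor
      · rintro ⟨_, ⟨w, hw, rfl⟩, rfl⟩
        show (h : G)⁻¹ * ((h : G) * (w : G) * (h : G)⁻¹) * h ∈ X
        rwa [show (h : G)⁻¹ * ((h : G) * (w : G) * (h : G)⁻¹) * h = (w : G) by group]
      · intro hz
        refine ⟨h * ⟨_, hX hz⟩ * h⁻¹, ⟨⟨_, hX hz⟩, hz, rfl⟩, ?_⟩
        show (h : G) * ((h : G)⁻¹ * z * h) * (h : G)⁻¹ = z
        group
    have h1 : (h : G) * n * (h : G)⁻¹ ∈ H := hN _ hle hne (mem_normalizer_iff.2 fun z => by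
      rw [hmem, hmem,
        show (h : G)⁻¹ * ((h : G) * n * (h : G)⁻¹ * z * ((h : G) * n * (h : G)⁻¹)⁻¹) * h =
          n * ((h : G)⁻¹ * z * h) * n⁻¹ by group]
      exact mem_normalizer_iff.1 hn _)
    simpa [mul_assoc] using mul_mem (mul_mem (inv_mem h.2) h1) h.2
  refine ⟨hH, heven, fun g hg => ?_⟩
  rw [← Nat.not_even_iff_odd]
  intro he
  set K := H ⊓ H.map (MulAut.conj g).toMonoidHom with hK
  obtain ⟨T⟩ : Nonempty (Sylow 2 K) := inferInstance
  set X := (T : Subgroup K).map K.subtype with hXdef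
  have hXK : X ≤ K := map_subtype_le _
  have hXp : IsPGroup 2 X := T.isPGroup'.map _
  have hXne : X ≠ ⊥ := by
    rw [hXdef, Ne, map_eq_bot_iff_of_injective _ K.subtype_injective]
    exact T.ne_bot_of_dvd_card he.two_dvd
  have hN1 : normalizer (X : Set G) ≤ H := hall X (hXK.trans inf_le_left) hXp hXne
  have hX' : X.map (MulAut.conj g⁻¹).toMonoidHom ≤ H := by
    rintro _ ⟨x, hx, rfl⟩
    have := mem_conj_iff.1 (mem_inf.1 (hXK hx)).2
    show g⁻¹ * x * g⁻¹⁻¹ ∈ H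
    rwa [inv_inv]
  have hN2 : normalizer (X : Set G) ≤ H.map (MulAut.conj g).toMonoidHom := by
    intro n hn
    rw [mem_conj_iff]
    refine hall _ hX' (hXp.map _) (by rwa [Ne, map_eq_bot_iff_of_injective _ (MulAut.conj g⁻¹).injective]) ?_
    have hmem : ∀ z : G, z ∈ X.map (MulAut.conj g⁻¹).toMonoidHom ↔ g * z * g⁻¹ ∈ X := fun z => by
      rw [mem_conj_iff, inv_inv]
    refine mem_normalizer_iff.2 fun z => ?_
    rw [hmem, hmem, show g * (g⁻¹ * n * g * z * (g⁻¹ * n * g)⁻¹) * g⁻¹ = n * (g * z * g⁻¹) * n⁻¹ by group]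
    exact mem_normalizer_iff.1 hn _
  obtain ⟨Q, hQ⟩ := sylow_of_normalizer_le hXp K hXK (fun Y hY hXY hYK => by
    have h1 : (T : Subgroup K) ≤ Y.subgroupOf K := fun w hw => hXY (mem_map_of_mem _ hw)
    have h2 := T.is_maximal' (hY.of_equiv (subgroupOfEquivOfLe hYK).symm) h1
    rw [hXdef, ← h2, map_subgroupOf_eq_of_le hYK]) (le_inf hN1 hN2)
  -- `X` and its conjugate are Sylow subgroups of `H`
  have hXH : X ≤ H := hXK.trans inf_le_left
  set S₁ : Sylow 2 H := Q.subtype (hQ.le.trans hXH) with hS₁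
  set S₂ : Sylow 2 H := (g⁻¹ • Q).subtype (by rw [Sylow.coe_subgroup_smul, hQ]; exact hX') with hS₂
  obtain ⟨h, hh⟩ := MulAction.exists_smul_eq H S₁ S₂
  refine hg ?_
  have hgh : g * (h : G) ∈ normalizer (X : Set G) := by
    have hmap : X.map (MulAut.conj (h : G)).toMonoidHom = X.map (MulAut.conj g⁻¹).toMonoidHom := by
      have h1 := congrArg (fun S : Sylow 2 H => (S : Subgroup H).map H.subtype) hh
      simp only [hS₁, hS₂, Sylow.coe_subgroup_smul, Sylow.coe_subtype, hQ] at h1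
      rw [show MulAut.conj g⁻¹ • X = X.map (MulAut.conj g⁻¹).toMonoidHom from rfl, map_subgroupOf_eq_of_le hX'] at h1
      rw [← h1]
      ext z
      constructor
      · rintro ⟨x, hx, rfl⟩
        exact ⟨h * ⟨x, hXH hx⟩ * h⁻¹, ⟨⟨x, hXH hx⟩, hx, rfl⟩, rfl⟩
      · rintro ⟨_, ⟨w, hw, rfl⟩, rfl⟩
        exact ⟨w, hw, rfl⟩
    rw [mem_normalizer_iff]
    intro z
    constructor
    · intro hz
      obtain ⟨x, hx, hxe⟩ : MulAut.conj (h : G) z ∈ X.map (MulAut.conj g⁻¹).toMonoidHom := by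
        rw [← hmap]; exact ⟨z, hz, rfl⟩
      have e : g * (h : G) * z * (g * (h : G))⁻¹ = x := by
        have hxe' : g⁻¹ * x * g⁻¹⁻¹ = (h : G) * z * (h : G)⁻¹ := hxe
        calc g * (h : G) * z * (g * (h : G))⁻¹ = g * ((h : G) * z * (h : G)⁻¹) * g⁻¹ := by group
          _ = _ := by rw [← hxe']; group
      rw [e]; exact hx
    · intro hz
      obtain ⟨x, hx, hxe⟩ : MulAut.conj g⁻¹ (g * (h : G) * z * (g * (h : G))⁻¹) ∈ X.map (MulAut.conj (h : G)).toMonoidHom := by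
        rw [hmap]; exact ⟨_, hz, rfl⟩
      have hxe' : (h : G) * x * (h : G)⁻¹ = g⁻¹ * (g * (h : G) * z * (g * (h : G))⁻¹) * g⁻¹⁻¹ := hxe
      have e : x = z := by
        have := congrArg (fun w => (h : G)⁻¹ * w * h) hxe'
        simpa [mul_assoc] using this
      exact e ▸ hx
  exact (mul_mem_cancel_right h.2).1 (hN1 hgh)

theorem normalizers_of (hH : Cfsg.IsStronglyEmbedded H) {X : Subgroup G} (hX : X ≤ H) (hXp : IsPGroup 2 X)
    (hXne : X ≠ ⊥) : normalizer (X : Set G) ≤ H := by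
  haveI : Fact (Nat.Prime 2) := ⟨Nat.prime_two⟩
  haveI : Nontrivial X := (nontrivial_iff_ne_bot _).2 hXne
  obtain ⟨k, hk, hkc⟩ := hXp.nontrivial_iff_card.mp inferInstance
  obtain ⟨t, htX, ht⟩ := exists_involution_of_even (K := X) (even_iff_two_dvd.2 (hkc ▸ dvd_pow_self 2 (by omega)))
  exact fun n hn => conj_eq hH ht (hX htX) (hX ((mem_normalizer_iff.1 hn t).1 htX))

/-- every involution is conjugate into `H` -/
theorem exists_conj_mem (hH : Cfsg.IsStronglyEmbedded H) {i : G} (hi : orderOf i = 2) : ∃ g : G, g * i * g⁻¹ ∈ H := by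
  haveI : Fact (Nat.Prime 2) := ⟨Nat.prime_two⟩
  obtain ⟨T⟩ : Nonempty (Sylow 2 H) := inferInstance
  set X := (T : Subgroup H).map H.subtype with hX
  have hXne : X ≠ ⊥ := by
    rw [hX, Ne, map_eq_bot_iff_of_injective _ H.subtype_injective]
    exact T.ne_bot_of_dvd_card hH.2.1.two_dvd
  obtain ⟨Q, hQ⟩ := sylow_of_normalizer_le (p := 2) (T.isPGroup'.map _) H (map_subtype_le _) (fun Y hY hXY hYK => by
    have h1 : (T : Subgroup H) ≤ Y.subgroupOf H := fun w hw => hXY (mem_map_of_mem _ hw)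
    have h2 := T.is_maximal' (hY.of_equiv (subgroupOfEquivOfLe hYK).symm) h1
    rw [← h2, map_subgroupOf_eq_of_le hYK]) (normalizers_of hH (map_subtype_le _) (T.isPGroup'.map _) hXne)
  obtain ⟨R, hR⟩ := (IsPGroup.of_card (n := 1) (show Nat.card (zpowers i) = 2 ^ 1 by rw [Nat.card_zpowers, hi, pow_one])).exists_le_sylow
  obtain ⟨g, hg⟩ := MulAction.exists_smul_eq G R Q
  refine ⟨g, map_subtype_le _ (show g * i * g⁻¹ ∈ X from ?_)⟩
  rw [hX, ← hQ, ← hg, Sylow.coe_subgroup_smul]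
  exact ⟨i, hR (mem_zpowers i), rfl⟩

/-- an involution in `H` and one outside have a product of odd order -/
theorem odd_product (hH : Cfsg.IsStronglyEmbedded H) {s u : G} (hs : orderOf s = 2) (hsH : s ∈ H)
    (hu : orderOf u = 2) (huH : u ∉ H) : Odd (orderOf (s * u)) := by
  rw [← Nat.not_even_iff_odd]
  intro he
  obtain ⟨hz, hzs, hzu⟩ := central_spec hs hu he
  have hzH := centralizer_le hH hs hsH (mem_centralizer_singleton_iff.2 hzs.eq)
  exact huH (centralizer_le hH hz hzH (mem_centralizer_singleton_iff.2 hzu.eq.symm))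

/-- the involution exchanging two involutions whose product has odd order -/
theorem midpoint {x y : G} (hx : orderOf x = 2) (hy : orderOf y = 2) (hodd : Odd (orderOf (x * y))) :
    ∃ v : G, orderOf v = 2 ∧ v * x * v = y ∧ v * y * v = x := by
  obtain ⟨k, hk⟩ := hodd
  set r := x * y with hr
  set v := r ^ (k : ℤ) * x with hv
  have hflip : x * r ^ (k : ℤ) = r ^ (-(k : ℤ)) * x := flip_zpow hx hy _
  have hvv : v * v = 1 := by
    rw [hv, mul_assoc, ← mul_assoc x, hflip, mul_assoc, sq_of_order_two hx, mul_one, ← zpow_add, add_neg_cancel, zpow_zero]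
  have hv1 : v ≠ 1 := by
    intro h
    have h1 : r ^ (k : ℤ) = x := by rw [← inv_of_order_two hx]; exact eq_inv_of_mul_eq_one_left h
    have h2 : orderOf (r ^ (k : ℤ)) ∣ orderOf r := orderOf_dvd_of_mem_zpowers (zpow_mem (mem_zpowers r) _)
    rw [h1] at h2
    rw [hx, hk] at h2
    omega
  have hvx : v * x * v⁻¹ = y := by
    rw [hv, mul_inv_rev, show r ^ (k : ℤ) * x * x * (x⁻¹ * (r ^ (k : ℤ))⁻¹) = r ^ (k : ℤ) * x * (r ^ (k : ℤ))⁻¹ by group,
      conj_rot hx hy]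
    conv_rhs => rw [snd_eq' hx hy]
    congr 1
    rw [← mul_inv_eq_one, ← zpow_neg, ← zpow_add, show (2 * (k : ℤ) + - -1) = ((orderOf r : ℕ) : ℤ) by
      rw [hk]; push_cast; ring, zpow_natCast, pow_orderOf_eq_one]
  have hvi : v⁻¹ = v := inv_eq_of_mul_eq_one_right hvv
  rw [hvi] at hvx
  refine ⟨v, order_two_of_mul_self hvv hv1, hvx, ?_⟩
  rw [← hvx]
  calc v * (v * x * v) * v = (v * v) * x * (v * v) := by simp only [mul_assoc]
    _ = x := by rw [hvv, one_mul, mul_one]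

theorem all_conj (hH : Cfsg.IsStronglyEmbedded H) {a b : G} (ha : orderOf a = 2) (hb : orderOf b = 2) : IsConj a b := by
  have hord : ∀ (g i : G), orderOf i = 2 → orderOf (g * i * g⁻¹) = 2 := fun g i hi => by
    rw [show g * i * g⁻¹ = MulAut.conj g i from rfl, MulEquiv.orderOf_eq, hi]
  obtain ⟨g, hg⟩ : ∃ g : G, g ∉ H := by
    by_contra h
    push Not at h
    exact hH.1 ((Subgroup.eq_top_iff' H).2 h)
  have key : ∀ i : G, orderOf i = 2 → ∃ c, c * i * c⁻¹ ∈ H := fun i hi => exists_conj_mem hH hi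
  obtain ⟨ca, hca⟩ := key a ha
  obtain ⟨cb, hcb⟩ := key b hb
  set s := ca * a * ca⁻¹ with hs
  set t := cb * b * cb⁻¹ with ht
  set u := g * t * g⁻¹ with hu
  have huH : u ∉ H := fun h => hg (conj_eq hH (hord cb b hb) hcb h)
  obtain ⟨d, -, hd⟩ := conj_of_odd (hord ca a ha) (hord g t (hord cb b hb))
    (odd_product hH (hord ca a ha) hca (hord g t (hord cb b hb)) huH)
  exact ((isConj_iff.2 ⟨ca, rfl⟩ : IsConj a s).trans (isConj_iff.2 ⟨d, hd⟩)).trans
    ((isConj_iff.2 ⟨cb, rfl⟩ : IsConj b t).trans (isConj_iff.2 ⟨g, rfl⟩ : IsConj t u)).symm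

theorem card_fixed (hH : Cfsg.IsStronglyEmbedded H) {t : G} (ht : orderOf t = 2) :
    Nat.card {c : G ⧸ H // t • c = c} = 1 := by
  obtain ⟨g, hg⟩ := exists_conj_mem hH ht
  have hord : orderOf (g * t * g⁻¹) = 2 := by
    rw [show g * t * g⁻¹ = MulAut.conj g t from rfl, MulEquiv.orderOf_eq, ht]
  rw [Nat.card_eq_one_iff_unique]
  refine ⟨⟨fun c c' => ?_⟩, ⟨⟨QuotientGroup.mk g⁻¹, ?_⟩⟩⟩
  · obtain ⟨c, hc⟩ := c
    obtain ⟨c', hc'⟩ := c'
    refine Subtype.ext ?_
    show c = c'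
    induction c using QuotientGroup.induction_on with
    | H x =>
    induction c' using QuotientGroup.induction_on with
    | H y =>
    have h1 : ∀ z : G, t • (QuotientGroup.mk z : G ⧸ H) = QuotientGroup.mk z → g * z ∈ H := by
      intro z hz
      rw [MulAction.Quotient.smul_mk, smul_eq_mul, QuotientGroup.eq] at hz
      have hz' : z⁻¹ * t * z ∈ H := by
        have := inv_mem hz
        simpa [mul_assoc] using this
      exact mem_of_involution hH hord hg (by
        rwa [show (g * z)⁻¹ * (g * t * g⁻¹) * (g * z) = z⁻¹ * t * z by group])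
    rw [QuotientGroup.eq]
    have := mul_mem (inv_mem (h1 x hc)) (h1 y hc')
    simpa [mul_assoc] using this
  · rw [MulAction.Quotient.smul_mk, smul_eq_mul, QuotientGroup.eq]
    have := inv_mem hg
    simpa [mul_assoc] using this

theorem eq_of_fixed (hH : Cfsg.IsStronglyEmbedded H) {t : G} (ht : orderOf t = 2) {c c' : G ⧸ H} (h : t • c = c)
    (h' : t • c' = c') : c = c' := by
  haveI := (Nat.card_eq_one_iff_unique.1 (card_fixed hH ht)).1
  exact congrArg Subtype.val (Subsingleton.elim (⟨c, h⟩ : {d : G ⧸ H // t • d = d}) ⟨c', h'⟩)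

/-- the swapping involutions -/
theorem exists_swap (hH : Cfsg.IsStronglyEmbedded H) {x y : G ⧸ H} (hxy : x ≠ y) {s t : G} (hs : orderOf s = 2)
    (hsx : s • x = x) (ht : orderOf t = 2) (hty : t • y = y) :
    ∃ v : G, orderOf v = 2 ∧ v • x = y ∧ v * s * v = t ∧ v * t * v = s := by
  obtain ⟨g, rfl⟩ := QuotientGroup.mk_surjective x
  have hord : ∀ i : G, orderOf i = 2 → orderOf (g⁻¹ * i * g) = 2 := fun i hi => by
    rw [show g⁻¹ * i * g = MulAut.conj g⁻¹ i by simp, MulEquiv.orderOf_eq, hi]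
  have hmem : ∀ i : G, i • (QuotientGroup.mk g : G ⧸ H) = QuotientGroup.mk g ↔ g⁻¹ * i * g ∈ H := fun i => by
    rw [MulAction.Quotient.smul_mk, smul_eq_mul, QuotientGroup.eq, ← inv_mem_iff]
    rw [show ((i * g)⁻¹ * g)⁻¹ = g⁻¹ * i * g by group]
  have hsH := (hmem s).1 hsx
  have htH : g⁻¹ * t * g ∉ H := fun h => hxy (eq_of_fixed hH ht ((hmem t).2 h) hty)
  have hodd := odd_product hH (hord s hs) hsH (hord t ht) htH
  rw [show g⁻¹ * s * g * (g⁻¹ * t * g) = MulAut.conj g⁻¹ (s * t) by simp [mul_assoc], MulEquiv.orderOf_eq] at hodd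
  obtain ⟨v, hv, h1, h2⟩ := midpoint hs ht hodd
  refine ⟨v, hv, eq_of_fixed hH ht ?_ hty, h1, h2⟩
  rw [← h1, smul_smul, mul_assoc, sq_of_order_two hv, mul_one, ← smul_smul, hsx]

theorem card_fixing (hH : Cfsg.IsStronglyEmbedded H) (x : G ⧸ H) :
    Nat.card {i : G // orderOf i = 2 ∧ i • x = x} = Nat.card {t : G // orderOf t = 2 ∧ t ∈ H} := by
  obtain ⟨g, rfl⟩ := QuotientGroup.mk_surjective x
  refine Nat.card_congr ((MulAut.conj g⁻¹).toEquiv.subtypeEquiv fun i => ?_)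
  show _ ↔ orderOf (MulAut.conj g⁻¹ i) = 2 ∧ MulAut.conj g⁻¹ i ∈ H
  rw [MulEquiv.orderOf_eq, MulAction.Quotient.smul_mk, smul_eq_mul, QuotientGroup.eq, ← inv_mem_iff]
  simp [mul_assoc]

theorem card_swap (hH : Cfsg.IsStronglyEmbedded H) (x y : G ⧸ H) (hxy : x ≠ y) :
    Nat.card {i : G // orderOf i = 2 ∧ i • x = y} = Nat.card {t : G // orderOf t = 2 ∧ t ∈ H} := by
  classical
  haveI : Fintype G := Fintype.ofFinite G
  haveI : Fintype (G ⧸ H) := Fintype.ofFinite _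
  set m := Nat.card {t : G // orderOf t = 2 ∧ t ∈ H} with hm
  set F : G ⧸ H → ℕ := fun z => Nat.card {i : G // orderOf i = 2 ∧ i • x = z} with hF
  have hle : ∀ z, m ≤ F z := by
    intro z
    rcases eq_or_ne x z with rfl | hxz
    · exact (card_fixing hH x).ge
    obtain ⟨t, htm, ht⟩ := exists_involution_of_even hH.2.1
    obtain ⟨g, hg⟩ := QuotientGroup.mk_surjective z
    have ht' : orderOf (g * t * g⁻¹) = 2 := by
      rw [show g * t * g⁻¹ = MulAut.conj g t from rfl, MulEquiv.orderOf_eq, ht]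
    have htz : (g * t * g⁻¹) • z = z := by
      rw [← hg, MulAction.Quotient.smul_mk, smul_eq_mul, QuotientGroup.eq]
      simpa [mul_assoc] using inv_mem htm
    have key := fun s : {i : G // orderOf i = 2 ∧ i • x = x} => exists_swap hH hxz s.2.1 s.2.2 ht' htz
    choose v hv hvx hvs hvt using key
    rw [hm, ← card_fixing hH x]
    refine Nat.card_le_card_of_injective (fun s => (⟨v s, hv s, hvx s⟩ : {i : G // orderOf i = 2 ∧ i • x = z})) ?_
    intro s s' h
    have h' : v s = v s' := congrArg Subtype.val h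
    exact Subtype.ext (by rw [← hvt s, ← hvt s', h'])
  have hsum : ∑ z, F z = ∑ _z : G ⧸ H, m := by
    have e1 : ∑ z, F z = Nat.card {i : G // orderOf i = 2} := by
      simp only [hF]
      rw [← Nat.card_sigma]
      exact Nat.card_congr {
        toFun := fun q => ⟨q.2.1, q.2.2.1⟩
        invFun := fun i => ⟨i.1 • x, i.1, i.2, rfl⟩
        left_inv := fun ⟨z, i, h1, h2⟩ => by subst h2; rfl
        right_inv := fun i => rfl }
    have e2 : ∑ _z : G ⧸ H, m = Nat.card {i : G // orderOf i = 2} := by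
      rw [Finset.sum_congr rfl (fun z _ => (card_fixing hH z).symm), ← Nat.card_sigma]
      refine Nat.card_eq_of_bijective (fun q => (⟨q.2.1, q.2.2.1⟩ : {i : G // orderOf i = 2})) ⟨?_, ?_⟩
      · rintro ⟨z, i, h1, h2⟩ ⟨z', i', h1', h2'⟩ h
        obtain rfl : i = i' := congrArg Subtype.val h
        obtain rfl := eq_of_fixed hH h1 h2 h2'
        rfl
      · rintro ⟨i, hi⟩
        obtain ⟨c⟩ := (Nat.card_eq_one_iff_unique.1 (card_fixed hH hi)).2
        exact ⟨⟨c.1, i, hi, c.2⟩, rfl⟩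
    rw [e1, e2]
  exact ((Finset.sum_eq_sum_iff_of_le (fun z _ => hle z)).1 hsum.symm y (Finset.mem_univ y)).symm

end Cfsg.Lib.StrongEmb
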