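/-
Isolated involutions: the elementary theory (no Z*-theorem).
-/
import Cfsg.Agent.InvolCalc.Dihedral
import Cfsg.Prelude.Def_TwoFusion
import Mathlib.GroupTheory.Sylow

set_option linter.style.haveILetI false
set_option linter.unusedSectionVars false

namespace Cfsg.Lib.Isolated

open Subgroup Cfsg.Lib.InvolCalc

variable {G : Type*} [Group G] {z : G}

theorem orderOf_conj' (g x : G) : orderOf (g * x * g⁻¹) = orderOf x := by
  rw [← MulAut.conj_apply]
  exact (MulAut.conj g).orderOf_eq x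

theorem sq_of_commute_flip {s x : G} (hc : Commute s x) (hflip : s * x * s⁻¹ = x⁻¹) : x * x = 1 := by
  rw [hc.eq, mul_inv_cancel_right] at hflip
  conv_lhs => arg 2; rw [hflip]
  rw [mul_inv_cancel]

/-- The square root of `x` in an element group of odd order. -/
theorem eq_of_sq_eq {a b : G} (ha : Odd (orderOf a)) (hb : Odd (orderOf b)) (h : a * a = b * b) : a = b := by
  obtain ⟨m, hm⟩ := ha
  obtain ⟨n, hn⟩ := hb
  have ho : orderOf a = orderOf b := by
    have h1 := Nat.Coprime.orderOf_pow (y := a) (m := 2) (by rw [hm]; simp)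
    have h2 := Nat.Coprime.orderOf_pow (y := b) (m := 2) (by rw [hn]; simp)
    rw [pow_two] at h1 h2
    rw [← h1, ← h2, h]
  have key : ∀ (c : G) (k : ℕ), orderOf c = 2 * k + 1 → c = (c * c) ^ (k + 1) := by
    intro c k hk
    rw [← pow_two, ← pow_mul, show 2 * (k + 1) = orderOf c + 1 by omega, pow_succ, pow_orderOf_eq_one,
      one_mul]
  have hmn : m = n := by omega
  subst hmn
  rw [key a m hm, key b m hn, h]

theorem commute_conj_iff (g : G) {a b : G} : Commute (g * a * g⁻¹) (g * b * g⁻¹) ↔ Commute a b := by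
  rw [Commute, SemiconjBy, Commute, SemiconjBy]
  rw [show g * a * g⁻¹ * (g * b * g⁻¹) = g * (a * b) * g⁻¹ by group,
    show g * b * g⁻¹ * (g * a * g⁻¹) = g * (b * a) * g⁻¹ by group]
  simp

variable (hz : Cfsg.IsIsolatedInvolution z)
include hz

/-- Two commuting conjugates are equal. -/
theorem conj_eq_of_commute {g h : G} (hc : Commute (g * z * g⁻¹) (h * z * h⁻¹)) :
    g * z * g⁻¹ = h * z * h⁻¹ := by
  have h1 : Commute z ((g⁻¹ * h) * z * (g⁻¹ * h)⁻¹) := by
    rw [← commute_conj_iff g, show g * (g⁻¹ * h * z * (g⁻¹ * h)⁻¹) * g⁻¹ = h * z * h⁻¹ by group]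
    exact hc
  have h2 := hz.2 _ h1
  calc g * z * g⁻¹ = g * ((g⁻¹ * h) * z * (g⁻¹ * h)⁻¹) * g⁻¹ := by rw [h2]
    _ = h * z * h⁻¹ := by group

theorem order_conj (g : G) : orderOf (g * z * g⁻¹) = 2 := by rw [orderOf_conj', hz.1]

theorem mul_pow_conj (g h : G) : ∀ n : ℕ,
    (∃ k : G, k * z * k⁻¹ = g * z * g⁻¹ * (g * z * g⁻¹ * (h * z * h⁻¹)) ^ n) ∧
      ∃ k : G, k * z * k⁻¹ = g * z * g⁻¹ * (g * z * g⁻¹ * (h * z * h⁻¹)) ^ (n + 1)
  | 0 => ⟨⟨g, by rw [pow_zero, mul_one]⟩, ⟨h, by rw [zero_add, pow_one]; exact snd_eq (order_conj hz g)⟩⟩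
  | n + 1 => by
    obtain ⟨⟨k, hk⟩, hk1⟩ := mul_pow_conj g h n
    refine ⟨hk1, ⟨(g * z * g⁻¹ * (h * z * h⁻¹))⁻¹ * k, ?_⟩⟩
    have hs := order_conj hz g
    have ht := order_conj hz h
    generalize g * z * g⁻¹ = s at hk hk1 hs ⊢
    generalize h * z * h⁻¹ = t at hk hk1 ht ⊢
    calc (s * t)⁻¹ * k * z * ((s * t)⁻¹ * k)⁻¹ = (s * t)⁻¹ * (k * z * k⁻¹) * (s * t) := by group
      _ = (s * t)⁻¹ * (s * (s * t) ^ n) * (s * t) := by rw [hk]
      _ = t * (s * t) ^ (n + 1) := by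
        rw [mul_inv_rev, inv_of_order_two hs, inv_of_order_two ht, pow_succ, mul_assoc t s,
          ← mul_assoc s s, sq_of_order_two hs, one_mul, mul_assoc]
      _ = s * (s * t) ^ (n + 1 + 1) := by
        rw [pow_succ' (s * t) (n + 1), ← mul_assoc s, ← mul_assoc s s t, sq_of_order_two hs, one_mul]

variable [Finite G]

/-- The product of two conjugates of an isolated involution has odd order. -/
theorem odd_orderOf_mul (g h : G) : Odd (orderOf (g * z * g⁻¹ * (h * z * h⁻¹))) := by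
  rw [← Nat.not_even_iff_odd]
  intro heven
  obtain ⟨h2, hc, -⟩ := central_spec (order_conj hz g) (order_conj hz h) heven
  obtain ⟨⟨k, hk⟩, -⟩ := mul_pow_conj hz g h (orderOf (g * z * g⁻¹ * (h * z * h⁻¹)) / 2)
  have h3 := conj_eq_of_commute hz (g := g) (h := k) (by rw [hk]; exact (Commute.refl _).mul_right hc.symm)
  rw [hk] at h3
  rw [left_eq_mul] at h3
  rw [h3, orderOf_one] at h2
  exact absurd h2 (by decide)

/-- Two conjugates are conjugate under a power of their product. -/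
theorem exists_pow_conj (g h : G) : ∃ k : ℕ,
    (g * z * g⁻¹ * (h * z * h⁻¹)) ^ k * (g * z * g⁻¹) * ((g * z * g⁻¹ * (h * z * h⁻¹)) ^ k)⁻¹
      = h * z * h⁻¹ := by
  obtain ⟨k, hk⟩ := odd_orderOf_mul hz g h
  refine ⟨k, ?_⟩
  have hs := order_conj hz g
  have ht := order_conj hz h
  generalize g * z * g⁻¹ = s at hk hs ⊢
  generalize h * z * h⁻¹ = t at hk ht ⊢
  rw [← zpow_natCast, conj_rot hs ht]
  conv_rhs => rw [snd_eq' hs ht]
  congr 1
  rw [← mul_inv_eq_one, ← zpow_neg, ← zpow_add, show (2 * (k : ℤ) + - -1) = ((orderOf (s * t) : ℕ) : ℤ) by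
    rw [hk]; push_cast; ring, zpow_natCast, pow_orderOf_eq_one]

theorem exists_pow_conj' (h : G) : ∃ k : ℕ,
    (z * (h * z * h⁻¹)) ^ k * z * ((z * (h * z * h⁻¹)) ^ k)⁻¹ = h * z * h⁻¹ := by
  simpa using exists_pow_conj hz 1 h

theorem odd_orderOf_mul' (h : G) : Odd (orderOf (z * (h * z * h⁻¹))) := by
  simpa using odd_orderOf_mul hz 1 h

/-- A conjugate in a subgroup containing `z` is conjugate inside the subgroup. -/
theorem conj_in (H : Subgroup G) (hzH : z ∈ H) {g : G} (hg : g * z * g⁻¹ ∈ H) :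
    ∃ x ∈ H, x * z * x⁻¹ = g * z * g⁻¹ := by
  obtain ⟨k, hk⟩ := exists_pow_conj' hz g
  exact ⟨_, pow_mem (mul_mem hzH hg) k, hk⟩

/-- Fusion is controlled by the centraliser. -/
theorem fusion (H : Subgroup G) (hzH : z ∈ normalizer (H : Set G)) {x h : G} (hxz : Commute x z)
    (hyz : Commute (h * x * h⁻¹) z) (hh : h ∈ H) :
    ∃ c ∈ H, Commute c z ∧ c * x * c⁻¹ = h * x * h⁻¹ := by
  obtain ⟨k, hk⟩ := exists_pow_conj' hz h
  set w := z * (h * z * h⁻¹) with hw
  have hwH : w ∈ H := by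
    have h1 : z * h * z⁻¹ ∈ H := (mem_normalizer_iff.1 hzH h).1 hh
    rw [hw, show z * (h * z * h⁻¹) = (z * h * z⁻¹) * (z * z) * h⁻¹ by group, sq_of_order_two hz.1, mul_one]
    exact mul_mem h1 (inv_mem hh)
  have hy : Commute (h * x * h⁻¹) w := hyz.mul_right ((commute_conj_iff h).2 hxz)
  refine ⟨(w ^ k)⁻¹ * h, mul_mem (inv_mem (pow_mem hwH k)) hh, ?_, ?_⟩
  · have : (w ^ k)⁻¹ * h * z * ((w ^ k)⁻¹ * h)⁻¹ = z := by
      calc (w ^ k)⁻¹ * h * z * ((w ^ k)⁻¹ * h)⁻¹ = (w ^ k)⁻¹ * (h * z * h⁻¹) * w ^ k := by group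
        _ = (w ^ k)⁻¹ * (w ^ k * z * (w ^ k)⁻¹) * w ^ k := by rw [hk]
        _ = z := by group
    exact mul_inv_eq_iff_eq_mul.1 this
  · have h4 : Commute (h * x * h⁻¹) (w ^ k)⁻¹ := (hy.pow_right k).inv_right
    calc (w ^ k)⁻¹ * h * x * ((w ^ k)⁻¹ * h)⁻¹ = (w ^ k)⁻¹ * (h * x * h⁻¹) * (w ^ k)⁻¹⁻¹ := by group
      _ = h * x * h⁻¹ := by rw [← h4.eq, mul_inv_cancel_right]

theorem not_commute_mul {g h : G} (hne : g * z * g⁻¹ ≠ h * z * h⁻¹) :
    ¬ Commute (g * z * g⁻¹ * (h * z * h⁻¹)) z := by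
  intro hc
  obtain ⟨j, hj⟩ := exists_pow_conj' hz g
  obtain ⟨n, hn⟩ := odd_orderOf_mul hz g h
  have hs := order_conj hz g
  have ht := order_conj hz h
  obtain ⟨m, hm⟩ := odd_orderOf_mul' hz g
  generalize h * z * h⁻¹ = t at hc hn ht hne
  generalize g * z * g⁻¹ = s at hc hn hs hne hj hm
  set w := s * t
  set x := z * s
  have hflip : s * w * s⁻¹ = w⁻¹ := flip_mul hs ht
  have hzflip : z * w⁻¹ * z⁻¹ = w⁻¹ := by rw [hc.inv_left.symm.eq, mul_inv_cancel_right]
  have h1 : x * w * x⁻¹ = w⁻¹ := by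
    rw [show x * w * x⁻¹ = z * (s * w * s⁻¹) * z⁻¹ by simp only [x]; group, hflip, hzflip]
  have h2 : Commute (x ^ 2) w := by
    refine mul_inv_eq_iff_eq_mul.1 ?_
    rw [pow_two, show x * x * w * (x * x)⁻¹ = x * (x * w * x⁻¹) * x⁻¹ by group, h1,
      show x * w⁻¹ * x⁻¹ = (x * w * x⁻¹)⁻¹ by group, h1, inv_inv]
  have h3 : Commute x w := by
    have h4 := h2.pow_left (m + 1)
    rwa [← pow_mul, show 2 * (m + 1) = orderOf x + 1 by omega, pow_succ, pow_orderOf_eq_one, one_mul] at h4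
  have h5 : w * w = 1 := sq_of_commute_flip h3 h1
  have h6 : w = 1 := eq_of_sq_eq ⟨n, hn⟩ (by simp) (by rw [h5, mul_one])
  exact hne (by rw [← inv_of_order_two ht]; exact mul_eq_one_iff_eq_inv.1 h6)

omit hz in
theorem inverted_conj {k : G} (hinv : z * k * z⁻¹ = k⁻¹) (hz2 : z * z = 1) :
    z * (k * z * k⁻¹) = k⁻¹ * k⁻¹ := by
  have hzi : z⁻¹ = z := inv_eq_of_mul_eq_one_right hz2
  rw [hzi] at hinv
  rw [← mul_assoc, ← mul_assoc, hinv]

/-- An element of odd order inverted by `z` is determined by the image of `z`. -/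
theorem inverted_unique {k k' : G} (hk : Odd (orderOf k)) (hk' : Odd (orderOf k'))
    (hi : z * k * z⁻¹ = k⁻¹) (hi' : z * k' * z⁻¹ = k'⁻¹) (h : k * z * k⁻¹ = k' * z * k'⁻¹) : k = k' := by
  have e : z * (k * z * k⁻¹) = z * (k' * z * k'⁻¹) := by rw [h]
  rw [inverted_conj hi (sq_of_order_two hz.1), inverted_conj hi' (sq_of_order_two hz.1)] at e
  exact inv_injective (eq_of_sq_eq (by rwa [orderOf_inv]) (by rwa [orderOf_inv]) e)

theorem exists_inverted (g : G) :
    ∃ k : G, Odd (orderOf k) ∧ z * k * z⁻¹ = k⁻¹ ∧ k * z * k⁻¹ = g * z * g⁻¹ := by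
  obtain ⟨j, hj⟩ := exists_pow_conj' hz g
  refine ⟨_, ?_, ?_, hj⟩
  · exact Odd.of_dvd_nat (odd_orderOf_mul' hz g) (orderOf_pow_dvd j)
  · rw [← conj_pow, flip_mul hz.1 (order_conj hz g), inv_pow]

/-- The map from inverted elements of odd order to conjugates. -/
noncomputable def invertedEquiv :
    {k : G // Odd (orderOf k) ∧ z * k * z⁻¹ = k⁻¹} ≃ {t : G // ∃ g : G, g * z * g⁻¹ = t} :=
  Equiv.ofBijective (fun k => ⟨k.1 * z * k.1⁻¹, k.1, rfl⟩) ⟨fun a b h =>
    Subtype.ext (inverted_unique hz a.2.1 b.2.1 a.2.2 b.2.2 (congrArg Subtype.val h)), fun t => by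
    obtain ⟨g, hg⟩ := t.2
    obtain ⟨k, hk, hk', hk''⟩ := exists_inverted hz g
    exact ⟨⟨k, hk, hk'⟩, Subtype.ext (hk''.trans hg)⟩⟩

theorem card_eq : Nat.card G = Nat.card (centralizer ({z} : Set G)) *
    Nat.card {t : G // ∃ g : G, g * z * g⁻¹ = t} := by
  have e : {t : G // ∃ g : G, g * z * g⁻¹ = t} ≃ MulAction.orbit (ConjAct G) z :=
    { toFun := fun t => ⟨t.1, by
        obtain ⟨g, hg⟩ := t.2
        exact ⟨ConjAct.toConjAct g, by rw [← hg]; exact ConjAct.toConjAct_smul g z⟩⟩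
      invFun := fun t => ⟨t.1, by
        obtain ⟨g, hg⟩ := t.2
        exact ⟨ConjAct.ofConjAct g, by rw [← hg]; exact (ConjAct.smul_def g z).symm⟩⟩
      left_inv := fun t => rfl
      right_inv := fun t => rfl }
  have e2 : centralizer ({z} : Set G) ≃ MulAction.stabilizer (ConjAct G) z :=
    Equiv.subtypeEquiv (ConjAct.toConjAct (G := G)).toEquiv fun c => by
      rw [MulAction.mem_stabilizer_iff, mem_centralizer_singleton_iff]
      show c * z = z * c ↔ ConjAct.toConjAct c • z = z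
      rw [ConjAct.toConjAct_smul, mul_inv_eq_iff_eq_mul]
  rw [Nat.card_congr e, Nat.card_congr e2, mul_comm, ← Nat.card_prod,
    Nat.card_congr (MulAction.orbitProdStabilizerEquivGroup (ConjAct G) z),
    Nat.card_congr (ConjAct.toConjAct (G := G)).toEquiv]

/-- The class of an isolated involution has odd size. -/
theorem odd_card_conj : Odd (Nat.card {t : G // ∃ g : G, g * z * g⁻¹ = t}) := by
  rw [← Nat.card_congr (invertedEquiv hz)]
  set K := {k : G // Odd (orderOf k) ∧ z * k * z⁻¹ = k⁻¹}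
  classical
  let σ : Equiv.Perm K := Function.Involutive.toPerm (fun k => ⟨k.1⁻¹, by rw [orderOf_inv]; exact k.2.1, by
      rw [show z * k.1⁻¹ * z⁻¹ = (z * k.1 * z⁻¹)⁻¹ by group, k.2.2]⟩)
    fun k => Subtype.ext (inv_inv k.1)
  haveI := Fintype.ofFinite K
  have h1 : σ ^ (2 ^ 1) = 1 := by
    ext k
    exact congrArg Subtype.val (show σ (σ k) = k from Subtype.ext (inv_inv k.1))
  haveI : Fact (Nat.Prime 2) := ⟨Nat.prime_two⟩
  have hmod := σ.card_compl_support_modEq h1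
  have hone : σ.supportᶜ = {(⟨1, by simp, by simp⟩ : K)} := by
    ext k
    simp only [Finset.mem_compl, Equiv.Perm.mem_support, not_not, Finset.mem_singleton]
    constructor
    · intro hk
      have h2 : k.1⁻¹ = k.1 := congrArg Subtype.val hk
      refine Subtype.ext (eq_of_sq_eq k.2.1 (by simp) ?_)
      rw [mul_one]
      conv_lhs => arg 1; rw [← h2]
      rw [inv_mul_cancel]
    · rintro rfl
      exact Subtype.ext inv_one
  rw [hone, Finset.card_singleton] at hmod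
  rw [Nat.card_eq_fintype_card, Nat.odd_iff]
  exact hmod.symm

theorem exists_sylow_le : ∃ T : Sylow 2 G, (T : Subgroup G) ≤ centralizer ({z} : Set G) := by
  haveI : Fact (Nat.Prime 2) := ⟨Nat.prime_two⟩
  obtain ⟨S⟩ := (inferInstance : Nonempty (Sylow 2 (centralizer ({z} : Set G))))
  obtain ⟨T, hT⟩ := (S.isPGroup'.map (centralizer ({z} : Set G)).subtype).exists_le_sylow
  refine ⟨T, ?_⟩
  have h1 : Nat.card ((S : Subgroup (centralizer ({z} : Set G))).map (centralizer ({z} : Set G)).subtype) =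
      Nat.card T := by
    rw [Subgroup.card_map_of_injective (subtype_injective _), S.card_eq_multiplicity, T.card_eq_multiplicity,
      card_eq hz, Nat.factorization_mul Nat.card_pos.ne' (odd_card_conj hz).pos.ne', Finsupp.add_apply,
      Nat.factorization_eq_zero_of_not_dvd (odd_card_conj hz).not_two_dvd_nat, add_zero]
  have := eq_of_le_of_card_ge hT h1.ge
  rw [← this]
  exact map_subtype_le _

end Cfsg.Lib.Isolated
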