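/-
Two-groups `⟨c, y⟩` with `⟨c⟩` normal that have an automorphism of odd order which is not trivial:
such a group with `y² ∉ ⟨c⟩` is homocyclic abelian of rank two.
-/
import Cfsg.Agent.PGroups.AutOrder
import Mathlib

set_option autoImplicit false
set_option linter.unusedSectionVars false
set_option linter.style.haveILetI false

namespace Cfsg.Lib.InvolCalc.MetaFrame

open Subgroup
open scoped commutatorElement

variable {Q : Type*} [Group Q] [Finite Q]

/-- An automorphism of odd order of a 2-group that is trivial modulo the Frattini subgroup is trivial. -/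
theorem eq_one_of_mod_frattini (hQ : IsPGroup 2 Q) (φ : MulAut Q) (hφ : Odd (orderOf φ))
    (h : ∀ x : Q, φ x * x⁻¹ ∈ frattini Q) : φ = 1 := by
  haveI := Fact.mk Nat.prime_two
  obtain ⟨n, hn⟩ := IsPGroup.iff_card.1 hQ
  obtain ⟨r, -, hr⟩ := (Nat.dvd_prime_pow Nat.prime_two).1
    (hn ▸ (frattini Q).index_dvd_card : (frattini Q).index ∣ 2 ^ n)
  let A : Subgroup (MulAut Q) :=
    { carrier := {α | ∀ x : Q, α x * x⁻¹ ∈ frattini Q}
      one_mem' := fun x => by simp [one_mem]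
      mul_mem' := fun {a b} ha hb x => by
        have e : (a * b) x * x⁻¹ = a (b x) * (b x)⁻¹ * (b x * x⁻¹) := by
          rw [MulAut.mul_apply]; group
        rw [e]; exact mul_mem (ha _) (hb _)
      inv_mem' := fun {a} ha x => by
        have e : a⁻¹ x * x⁻¹ = (a (a⁻¹ x) * (a⁻¹ x)⁻¹)⁻¹ := by
          rw [MulAut.apply_inv_self]; group
        rw [e]; exact inv_mem (ha _) }
  have hd := Cfsg.Lib.PGroups.card_stabilizing_dvd hn hr A fun α hα => hα
  have h2 : orderOf φ ∣ 2 ^ (r * (n - r)) := (A.orderOf_dvd_natCard (show φ ∈ A from h)).trans hd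
  exact orderOf_eq_one_iff.1 (Nat.eq_one_of_dvd_coprimes
    ((Nat.coprime_two_left.2 hφ).pow_left _) h2 dvd_rfl)

/-- For a two-generated 2-group, an odd automorphism other than the identity leaves no proper
subgroup invariant which is not inside the Frattini subgroup. -/
theorem inv_top (hQ : IsPGroup 2 Q) {c y : Q} (hgen : closure {c, y} = ⊤) (φ : MulAut Q)
    (hφ : Odd (orderOf φ)) (hne : φ ≠ 1) (H : Subgroup Q) (hH : ∀ x ∈ H, φ x ∈ H) {x : Q}
    (hx : x ∈ H) (hxF : x ∉ frattini Q) : H = ⊤ := by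
  classical
  haveI := Fact.mk Nat.prime_two
  haveI := Cfsg.Lib.PGroups.isMulCommutative_quotient_frattini hQ
  have hcomm : ∀ u v : Q ⧸ frattini Q, u * v = v * u := mul_comm'
  have hsq : ∀ u : Q ⧸ frattini Q, u * u = 1 := fun u => by
    have h := Cfsg.Lib.PGroups.pow_prime_quotient_frattini hQ u
    rwa [pow_two] at h
  let π : Q →* Q ⧸ frattini Q := QuotientGroup.mk' (frattini Q)
  have hπ : ∀ {u : Q}, π u = 1 ↔ u ∈ frattini Q := fun {u} => QuotientGroup.eq_one_iff u
  have hπs : Function.Surjective π := QuotientGroup.mk'_surjective _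
  set C := π c with hC
  set Y := π y with hY
  -- the quotient has at most four elements
  have helt : ∀ v : Q ⧸ frattini Q, v ∈ ({1, C, Y, C * Y} : Finset (Q ⧸ frattini Q)) := by
    let K : Subgroup (Q ⧸ frattini Q) :=
      { carrier := {v | v = 1 ∨ v = C ∨ v = Y ∨ v = C * Y}
        one_mem' := Or.inl rfl
        mul_mem' := fun {a b} ha hb => by
          have e1 : C * (C * Y) = Y := by rw [← mul_assoc, hsq, one_mul]
          have e2 : Y * (C * Y) = C := by rw [hcomm C Y, ← mul_assoc, hsq, one_mul]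
          have e3 : C * Y * C = Y := by rw [hcomm C Y, mul_assoc, hsq, mul_one]
          have e4 : C * Y * Y = C := by rw [mul_assoc, hsq, mul_one]
          simp only [Set.mem_setOf_eq] at ha hb ⊢
          rcases ha with rfl | rfl | rfl | rfl <;> rcases hb with rfl | rfl | rfl | rfl <;>
            simp [hsq, e1, e2, e3, e4, hcomm Y C]
        inv_mem' := fun {a} ha => by rwa [inv_eq_of_mul_eq_one_right (hsq a)] }
    have hK : K = ⊤ := by
      rw [eq_top_iff, ← map_top_of_surjective π hπs, ← hgen, MonoidHom.map_closure, closure_le]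
      rintro - ⟨u, hu, rfl⟩
      rcases hu with rfl | rfl
      · exact Or.inr (Or.inl rfl)
      · exact Or.inr (Or.inr (Or.inl rfl))
    intro v
    have hv : v ∈ K := hK ▸ Subgroup.mem_top v
    simpa [Finset.mem_insert] using (show v = 1 ∨ v = C ∨ v = Y ∨ v = C * Y from hv)
  have hcard : ∀ T : Finset (Q ⧸ frattini Q), T.card ≤ 4 := fun T =>
    (Finset.card_le_card fun v _ => helt v).trans ((Finset.card_insert_le _ _).trans
      (Nat.succ_le_succ ((Finset.card_insert_le _ _).trans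
        (Nat.succ_le_succ ((Finset.card_insert_le _ _).trans (Nat.succ_le_succ (le_of_eq (Finset.card_singleton _))))))))
  -- so every element is in the span of two independent ones
  have hspan : ∀ u v w : Q ⧸ frattini Q, u ≠ 1 → v ≠ 1 → u ≠ v →
      w = 1 ∨ w = u ∨ w = v ∨ w = u * v := by
    intro u v w hu hv huv
    by_contra hno
    simp only [not_or] at hno
    obtain ⟨h1, h2, h3, h4⟩ := hno
    have h5 : u * v ≠ 1 := fun h => huv (by
      rw [eq_inv_of_mul_eq_one_left h, inv_eq_of_mul_eq_one_right (hsq v)])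
    have h6 : u * v ≠ u := fun h => hv (mul_eq_left.1 h)
    have h7 : u * v ≠ v := fun h => hu (mul_eq_right.1 h)
    have := hcard {1, u, v, u * v, w}
    rw [Finset.card_insert_of_notMem, Finset.card_insert_of_notMem, Finset.card_insert_of_notMem,
      Finset.card_insert_of_notMem, Finset.card_singleton] at this
    · omega
    all_goals simp [hu.symm, hv.symm, huv, h5.symm, h6.symm, h7.symm, Ne.symm h1, Ne.symm h2,
      Ne.symm h3, Ne.symm h4]
  have hFinv : ∀ {u : Q}, φ u ∈ frattini Q ↔ u ∈ frattini Q := fun {u} =>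
    SetLike.ext_iff.1 ((Subgroup.characteristic_iff_comap_eq.1 (frattini_characteristic (G := Q))) φ) u
  by_cases hmove : π (φ x) = π x
  · exfalso
    apply hne
    -- a fixed non-trivial class makes `φ` trivial modulo the Frattini subgroup
    have hφπ : ∀ {u v : Q}, π u = π v → π (φ u) = π (φ v) := by
      intro u v h
      have h' : u⁻¹ * v ∈ frattini Q := QuotientGroup.eq.1 h
      exact QuotientGroup.eq.2 (by rw [← map_inv, ← map_mul]; exact hFinv.2 h')
    have h2fix : ∀ z : Q, π (φ (φ z)) = π z := by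
      intro z
      by_cases hz1 : π z = 1
      · rw [hz1, hπ, hFinv, hFinv, ← hπ, hz1]
      by_cases hzx : π z = π x
      · rw [hφπ (hφπ hzx), hφπ hmove, hmove, hzx]
      rcases hspan (π x) (π z) (π (φ z)) (mt hπ.1 hxF) hz1 (Ne.symm hzx) with h | h | h | h
      · exact absurd (hπ.2 (hFinv.1 (hπ.1 h))) hz1
      · exfalso
        rw [← hmove] at h
        have h' : (φ z)⁻¹ * φ x ∈ frattini Q := QuotientGroup.eq.1 h
        rw [← map_inv, ← map_mul] at h'
        exact hzx (QuotientGroup.eq.2 (hFinv.1 h'))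
      · rw [hφπ h, h]
      · rw [hφπ (h.trans (map_mul π x z).symm), map_mul φ, map_mul π, hmove, h, ← mul_assoc, hsq,
          one_mul]
    have hiter : ∀ k : ℕ, ∀ z : Q, π ((φ ^ (2 * k)) z) = π z := by
      intro k
      induction k with
      | zero => intro z; simp
      | succ k ih =>
        intro z
        rw [show 2 * (k + 1) = 1 + 1 + 2 * k by ring, pow_add, pow_add, pow_one, MulAut.mul_apply,
          MulAut.mul_apply, h2fix, ih]
    refine eq_one_of_mod_frattini hQ φ hφ fun z => ?_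
    obtain ⟨m, hm⟩ := hφ
    have h3 := pow_orderOf_eq_one φ
    rw [hm, pow_succ] at h3
    have h4 : (φ ^ (2 * m)) (φ z) = z := by rw [← MulAut.mul_apply, h3, MulAut.one_apply]
    have h5 : π (φ z) = π z := by
      conv_rhs => rw [← h4]
      rw [hiter]
    rw [← hπ, map_mul, map_inv, h5, mul_inv_cancel]
  · -- two independent classes inside `H`
    have hne2 : π (φ x) ≠ 1 := mt (fun h => hFinv.1 (hπ.1 h)) hxF
    have hmap : ∀ w, w ∈ H.map π := by
      intro w
      rcases hspan (π x) (π (φ x)) w (mt hπ.1 hxF) hne2 (Ne.symm hmove) with h | h | h | h <;>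
        rw [h]
      · exact one_mem _
      · exact mem_map_of_mem π hx
      · exact mem_map_of_mem π (hH x hx)
      · exact mul_mem (mem_map_of_mem π hx) (mem_map_of_mem π (hH x hx))
    apply frattini_nongenerating
    rw [eq_top_iff]
    intro w _
    obtain ⟨u, hu, he⟩ := mem_map.1 (hmap (π w))
    have : u⁻¹ * w ∈ frattini Q := QuotientGroup.eq.1 he
    simpa using mul_mem_sup hu this

variable {c y : Q} {r : ℤ}

theorem gen_not_frattini (hgen : closure {c, y} = ⊤) (hncyc : ¬ IsCyclic Q) :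
    c ∉ frattini Q ∧ y ∉ frattini Q ∧ c * y ∉ frattini Q := by
  have key : ∀ d : Q, c ∈ zpowers d ⊔ frattini Q → y ∈ zpowers d ⊔ frattini Q → False := by
    intro d hc hy
    have h : zpowers d ⊔ frattini Q = ⊤ := by
      rw [eq_top_iff, ← hgen, closure_le]
      rintro u (rfl | rfl) <;> assumption
    have h2 := frattini_nongenerating h
    exact hncyc ⟨⟨d, fun u => mem_zpowers_iff.1 (h2 ▸ Subgroup.mem_top u)⟩⟩
  refine ⟨fun h => key y (mem_sup_right h) (mem_sup_left (mem_zpowers y)),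
    fun h => key c (mem_sup_left (mem_zpowers c)) (mem_sup_right h), fun h => ?_⟩
  refine key c (mem_sup_left (mem_zpowers c)) ?_
  have e : y = c⁻¹ * (c * y) := by group
  rw [e]
  exact mul_mem_sup (inv_mem (mem_zpowers c)) h

theorem conj_twist (hr : y * c * y⁻¹ = c ^ r) (i : ℤ) : y * c ^ i * y⁻¹ = c ^ (r * i) := by
  rw [← _root_.conj_zpow, hr, ← zpow_mul]

theorem commutator_le (hgen : closure {c, y} = ⊤) (D : Subgroup Q) [D.Normal]
    (h : y * c * y⁻¹ * c⁻¹ ∈ D) : commutator Q ≤ D := by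
  refine Subgroup.Normal.quotient_commutative_iff_commutator_le.mp ⟨⟨?_⟩⟩
  have hπs : Function.Surjective (QuotientGroup.mk' D) := QuotientGroup.mk'_surjective _
  have hcy : QuotientGroup.mk' D y * QuotientGroup.mk' D c
      = QuotientGroup.mk' D c * QuotientGroup.mk' D y := by
    rw [← mul_inv_eq_iff_eq_mul, ← mul_inv_eq_one, ← map_mul, ← map_inv, ← map_mul, ← map_inv,
      ← map_mul]
    exact (QuotientGroup.eq_one_iff _).2 h
  have htop : closure (QuotientGroup.mk' D '' {c, y}) = ⊤ := by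
    rw [← MonoidHom.map_closure, hgen, map_top_of_surjective _ hπs]
  intro a b
  have ha : a ∈ closure (QuotientGroup.mk' D '' {c, y}) := htop ▸ Subgroup.mem_top a
  have hb : b ∈ closure (QuotientGroup.mk' D '' {c, y}) := htop ▸ Subgroup.mem_top b
  have := isMulCommutative_closure (k := QuotientGroup.mk' D '' {c, y}) (by
    rintro - ⟨u, hu, rfl⟩ - ⟨v, hv, rfl⟩
    rcases hu with rfl | rfl <;> rcases hv with rfl | rfl <;> first | rfl | exact hcy | exact hcy.symm)
  exact congrArg Subtype.val (this.is_comm.comm ⟨a, ha⟩ ⟨b, hb⟩)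

/-- If `x ^ d` lies in an invariant subgroup with abelian quotient for some generator, it does for all. -/
theorem pow_mem_all (hQ : IsPGroup 2 Q) (hgen : closure {c, y} = ⊤) (φ : MulAut Q)
    (hφ : Odd (orderOf φ)) (hne : φ ≠ 1) (D : Subgroup Q) [D.Normal] (hD : commutator Q ≤ D)
    (hDφ : ∀ u ∈ D, φ u ∈ D) (d : ℕ) {x : Q} (hx : x ∉ frattini Q) (hxd : x ^ d ∈ D) (z : Q) :
    z ^ d ∈ D := by
  haveI := Subgroup.Normal.quotient_commutative_iff_commutator_le.mpr hD
  let H : Subgroup Q :=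
    { carrier := {u | u ^ d ∈ D}
      one_mem' := by simp [one_mem]
      mul_mem' := fun {a b} ha hb => by
        simp only [Set.mem_setOf_eq, ← QuotientGroup.eq_one_iff (N := D), QuotientGroup.mk_pow,
          QuotientGroup.mk_mul] at ha hb ⊢
        rw [Commute.mul_pow (mul_comm' _ _), ha, hb, one_mul]
      inv_mem' := fun {a} ha => by
        simp only [Set.mem_setOf_eq, inv_pow] at ha ⊢
        exact inv_mem ha }
  have hH : H = ⊤ := inv_top hQ hgen φ hφ hne H (fun u hu => by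
    show (φ u) ^ d ∈ D
    rw [← map_pow]; exact hDφ _ hu) (show x ∈ H from hxd) hx
  exact (hH ▸ Subgroup.mem_top z : z ∈ H)

theorem commutator_inv (φ : MulAut Q) : ∀ u ∈ commutator Q, φ u ∈ commutator Q := fun _ hu =>
  (SetLike.ext_iff.1 ((Subgroup.characteristic_iff_comap_eq.1
    (inferInstance : (commutator Q).Characteristic)) φ) _).2 hu

theorem normal_zpowers_sq (hr : y * c * y⁻¹ = c ^ r) (hgen : closure {c, y} = ⊤) (k : ℤ) :
    (zpowers (c ^ k)).Normal := by
  refine Subgroup.normalizer_eq_top_iff.1 ?_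
  rw [eq_top_iff, ← hgen, closure_le]
  intro u hu
  rw [SetLike.mem_coe, Subgroup.mem_normalizer_iff]
  have hinj : Function.Injective (MulAut.conj u) := (MulAut.conj u).injective
  suffices h : (zpowers (c ^ k)).map (MulAut.conj u).toMonoidHom = zpowers (c ^ k) by
    intro v
    conv_rhs => rw [← h]
    exact ⟨fun hv => mem_map_of_mem _ hv, fun hv => by
      obtain ⟨w, hw, he⟩ := mem_map.1 hv
      exact hinj he ▸ hw⟩
  refine Subgroup.eq_of_le_of_card_ge ?_ (le_of_eq (Subgroup.card_map_of_injective hinj).symm)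
  rw [MonoidHom.map_zpowers, zpowers_le]
  show u * c ^ k * u⁻¹ ∈ _
  rcases hu with rfl | rfl
  · rw [← zpow_one_add, ← zpow_sub_one, add_sub_cancel_left]
    exact mem_zpowers _
  · rw [conj_twist hr]
    exact ⟨r, by simp [← zpow_mul, mul_comm]⟩

theorem odd_unit_generates (hQ : IsPGroup 2 Q) (u : Q) {t : ℤ} (ht : Odd t) : u ∈ zpowers (u ^ t) := by
  obtain ⟨n, hn⟩ := IsPGroup.iff_orderOf.1 hQ u
  have hcop : IsCoprime t ((orderOf u : ℤ)) := by
    rw [hn, Nat.cast_pow, Nat.cast_ofNat]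
    apply IsCoprime.pow_right
    obtain ⟨m, hm⟩ := ht
    exact ⟨1, -m, by rw [hm]; ring⟩
  obtain ⟨a, b, hab⟩ := hcop
  refine ⟨a, ?_⟩
  show (u ^ t) ^ a = u
  conv_rhs => rw [← zpow_one u, ← hab]
  rw [zpow_add, mul_comm b, zpow_mul u (orderOf u : ℤ), zpow_natCast, pow_orderOf_eq_one, one_zpow,
    mul_one, mul_comm a, zpow_mul]

/-- The twisting exponent cannot be `3` modulo `4`. -/
theorem no_three (hQ : IsPGroup 2 Q) (hgen : closure {c, y} = ⊤) (hr : y * c * y⁻¹ = c ^ r)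
    (hncyc : ¬ IsCyclic Q) (hy : y ^ 2 ∉ zpowers c) (φ : MulAut Q) (hφ : Odd (orderOf φ))
    (hne : φ ≠ 1) {t : ℤ} (ht : r = 4 * t + 3) : False := by
  obtain ⟨hc, -, -⟩ := gen_not_frattini hgen hncyc
  have hmem : y * c * y⁻¹ * c⁻¹ ∈ commutator Q := by
    rw [show y * c * y⁻¹ * c⁻¹ = ⁅y, c⁆ from (commutatorElement_def y c).symm, commutator_def]
    exact commutator_mem_commutator (mem_top y) (mem_top c)
  have e : y * c * y⁻¹ * c⁻¹ = (c ^ (2 : ℤ)) ^ (2 * t + 1) := by
    rw [hr, ← zpow_mul, ← zpow_sub_one, ht]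
    congr 1
    ring
  have hc2 : c ^ (2 : ℤ) ∈ commutator Q :=
    (zpowers_le.2 (e ▸ hmem)) (odd_unit_generates hQ _ ⟨t, rfl⟩)
  haveI := normal_zpowers_sq hr hgen 2
  have hle : commutator Q ≤ zpowers c := (commutator_le hgen (zpowers (c ^ (2 : ℤ)))
    (by rw [e]; exact zpow_mem (mem_zpowers _) _)).trans (zpowers_le.2 (zpow_mem (mem_zpowers c) 2))
  refine hy (hle (pow_mem_all hQ hgen φ hφ hne _ le_rfl (commutator_inv φ) 2 hc ?_ y))
  rwa [← zpow_natCast]

/-- With twisting exponent `1` modulo `4` the group is abelian. -/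
theorem abelian_of_one (hQ : IsPGroup 2 Q) (hgen : closure {c, y} = ⊤) (hr : y * c * y⁻¹ = c ^ r)
    (hncyc : ¬ IsCyclic Q) (φ : MulAut Q) (hφ : Odd (orderOf φ)) (hne : φ ≠ 1) {t : ℤ}
    (ht : r = 4 * t + 1) : commutator Q = ⊥ := by
  classical
  obtain ⟨hc, hyF, hcyF⟩ := gen_not_frattini hgen hncyc
  set D := commutator Q with hD
  by_contra hDne
  have e : y * c * y⁻¹ * c⁻¹ = (c ^ (4 : ℤ)) ^ t := by
    rw [hr, ← zpow_mul, ← zpow_sub_one, ht]
    congr 1
    ring
  have hDle : D ≤ zpowers (c ^ (4 : ℤ)) := by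
    haveI := normal_zpowers_sq hr hgen 4
    exact commutator_le hgen _ (by rw [e]; exact zpow_mem (mem_zpowers _) _)
  -- the order `M` of `c` modulo `D`
  have hex : ∃ n : ℕ, c ^ 2 ^ n ∈ D := by
    obtain ⟨n, hn⟩ := hQ c
    exact ⟨n, by rw [hn]; exact one_mem _⟩
  set m := Nat.find hex with hm
  have hcM : c ^ 2 ^ m ∈ D := Nat.find_spec hex
  have hDeq : D ≤ zpowers (c ^ 2 ^ m) := by
    intro u hu
    obtain ⟨k, rfl⟩ := mem_zpowers_iff.1
      ((zpowers_le.2 (zpow_mem (mem_zpowers c) 4)) (hDle hu))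
    obtain ⟨k0, hk0⟩ : ∃ q : ℤ, Int.gcd k (2 ^ m : ℕ) = q := ⟨_, rfl⟩
    obtain ⟨j, hjle, hj⟩ := (Nat.dvd_prime_pow Nat.prime_two).1
      (show Int.gcd k ((2 ^ m : ℕ) : ℤ) ∣ 2 ^ m from by exact_mod_cast Int.gcd_dvd_right k ((2 ^ m : ℕ) : ℤ))
    have hcj : c ^ 2 ^ j ∈ D := by
      obtain ⟨a, b, hab⟩ : ∃ a b : ℤ, ((2 ^ j : ℕ) : ℤ) = k * a + ((2 ^ m : ℕ) : ℤ) * b :=
        ⟨_, _, by rw [← hj]; exact Int.gcd_eq_gcd_ab k _⟩
      rw [← zpow_natCast, hab, zpow_add, zpow_mul, zpow_mul, zpow_natCast]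
      exact mul_mem (zpow_mem hu _) (zpow_mem hcM _)
    have hjm : j = m := le_antisymm hjle (Nat.find_min' hex hcj)
    obtain ⟨q, hq⟩ : ((2 ^ m : ℕ) : ℤ) ∣ k := by
      rw [← hjm, ← hj]; exact Int.gcd_dvd_left k _
    exact mem_zpowers_iff.2 ⟨q, by rw [hq, zpow_mul, zpow_natCast]⟩
  have hcM1 : c ^ 2 ^ m ≠ 1 := by
    intro h
    apply hDne
    rw [eq_bot_iff]
    intro u hu
    have := hDeq hu
    rw [h, zpowers_one_eq_bot] at this
    exact this
  have hm2 : 2 ≤ m := by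
    by_contra hlt
    -- then `c ^ 2` lies in a group generated by fourth powers, so is trivial
    obtain ⟨k, hk⟩ := mem_zpowers_iff.1 (hDle hcM)
    have h1 : c ^ (((2 ^ m : ℕ) : ℤ) - 4 * k) = 1 := by
      rw [zpow_sub, zpow_natCast, zpow_mul, hk, mul_inv_cancel]
    obtain ⟨s, hs⟩ : ∃ s : ℤ, Odd s ∧ ((2 ^ m : ℕ) : ℤ) - 4 * k = ((2 ^ m : ℕ) : ℤ) * s := by
      interval_cases m
      · exact ⟨1 - 4 * k, ⟨-2 * k, by ring⟩, by norm_num⟩
      · exact ⟨1 - 2 * k, ⟨-k, by ring⟩, by push_cast; ring⟩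
    rw [hs.2, zpow_mul, zpow_natCast] at h1
    apply hcM1
    obtain ⟨w, hw⟩ := mem_zpowers_iff.1 (odd_unit_generates hQ (c ^ 2 ^ m) hs.1)
    rw [← hw, h1, one_zpow]
  -- squares of the derived group
  set D2 := zpowers ((c ^ 2 ^ m) ^ 2) with hD2
  haveI hD2n : D2.Normal := by
    have h := normal_zpowers_sq hr hgen (((2 ^ m * 2 : ℕ) : ℕ) : ℤ)
    rw [zpow_natCast, pow_mul] at h
    exact h
  have hsqD : ∀ u ∈ D, u ^ 2 ∈ D2 := fun u hu => by
    obtain ⟨k, hk⟩ := mem_zpowers_iff.1 (hDeq hu)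
    rw [← hk, ← zpow_natCast, ← zpow_mul, mul_comm, zpow_mul, zpow_natCast]
    exact zpow_mem (mem_zpowers _) _
  have hD2inv : ∀ u ∈ D2, φ u ∈ D2 := by
    intro u hu
    obtain ⟨k, hk⟩ := mem_zpowers_iff.1 hu
    rw [← hk, map_zpow, map_pow]
    exact zpow_mem (hsqD _ (commutator_inv φ _ hcM)) _
  -- modulo `D2` commutators are central of order two
  have hcent : ∀ u ∈ D, ∀ v : Q, (v * u * v⁻¹ * u⁻¹) ∈ D2 := by
    have hgood : ∀ v : Q, v ∈ ({c, y} : Set Q) → v * c ^ 2 ^ m * v⁻¹ * (c ^ 2 ^ m)⁻¹ ∈ D2 := by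
      rintro v (rfl | rfl)
      · rw [← pow_succ', pow_succ, mul_inv_cancel_right, mul_inv_cancel]
        exact one_mem _
      · rw [← zpow_natCast c, conj_twist hr, ← zpow_sub, ht]
        refine mem_zpowers_iff.2 ⟨2 * t, ?_⟩
        rw [← zpow_natCast, ← zpow_natCast c, ← zpow_mul, ← zpow_mul]
        congr 1
        push_cast
        ring
    have hcom : ∀ v : Q, Commute (QuotientGroup.mk' D2 v) (QuotientGroup.mk' D2 (c ^ 2 ^ m)) := by
      intro v
      have hv : v ∈ closure ({c, y} : Set Q) := hgen ▸ Subgroup.mem_top v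
      induction hv using Subgroup.closure_induction with
      | mem w hw =>
        show _ * _ = _ * _
        rw [← mul_inv_eq_iff_eq_mul, ← mul_inv_eq_one, ← map_mul, ← map_inv, ← map_mul, ← map_inv,
          ← map_mul]
        exact (QuotientGroup.eq_one_iff _).2 (hgood w hw)
      | one => rw [map_one]; exact Commute.one_left _
      | mul a b _ _ ha hb => rw [map_mul]; exact ha.mul_left hb
      | inv a _ ha => rw [map_inv]; exact ha.inv_left
    intro u hu v
    obtain ⟨k, hk⟩ := mem_zpowers_iff.1 (hDeq hu)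
    rw [← hk]
    refine (QuotientGroup.eq_one_iff _).1 ?_
    rw [QuotientGroup.mk_mul, QuotientGroup.mk_mul, QuotientGroup.mk_mul, QuotientGroup.mk_inv,
      QuotientGroup.mk_inv, QuotientGroup.mk_zpow]
    have := (hcom v).zpow_right k
    change (QuotientGroup.mk' D2 v) * (QuotientGroup.mk' D2 (c ^ 2 ^ m)) ^ k * _ * _ = 1
    rw [this.eq]
    simp
  have hpow4 : ∀ a b : Q ⧸ D2, (a * b) ^ 4 = a ^ 4 * b ^ 4 ∧ Commute (a ^ 4) (b ^ 4) := by
    intro a b
    obtain ⟨a, rfl⟩ := QuotientGroup.mk_surjective a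
    obtain ⟨b, rfl⟩ := QuotientGroup.mk_surjective b
    have hz : ∀ u v : Q, Commute (QuotientGroup.mk' D2 v) (QuotientGroup.mk' D2 ⁅u, b⁆) ∧
        Commute (QuotientGroup.mk' D2 v) (QuotientGroup.mk' D2 ⁅u, a⁆) ∧
        (QuotientGroup.mk' D2 ⁅u, b⁆) ^ 2 = 1 ∧ (QuotientGroup.mk' D2 ⁅u, a⁆) ^ 2 = 1 := by
      intro u v
      have key : ∀ w : Q, Commute (QuotientGroup.mk' D2 v) (QuotientGroup.mk' D2 ⁅u, w⁆) ∧
          (QuotientGroup.mk' D2 ⁅u, w⁆) ^ 2 = 1 := by
        intro w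
        have hu : ⁅u, w⁆ ∈ D := commutator_mem_commutator (mem_top u) (mem_top w)
        refine ⟨?_, by rw [← map_pow]; exact (QuotientGroup.eq_one_iff _).2 (hsqD _ hu)⟩
        show _ * _ = _ * _
        rw [← mul_inv_eq_iff_eq_mul, ← mul_inv_eq_one, ← map_mul, ← map_inv, ← map_mul, ← map_inv,
          ← map_mul]
        exact (QuotientGroup.eq_one_iff _).2 (hcent _ hu v)
      exact ⟨(key b).1, (key a).1, (key b).2, (key a).2⟩
    set A := QuotientGroup.mk' D2 a
    set B := QuotientGroup.mk' D2 b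
    change (A * B) ^ 4 = A ^ 4 * B ^ 4 ∧ Commute (A ^ 4) (B ^ 4)
    set Z := QuotientGroup.mk' D2 ⁅b, a⁆ with hZ
    have hZA : Commute A Z := (hz b a).2.1
    have hZB : Commute B Z := (hz b b).2.1
    have hZ2 : Z ^ 2 = 1 := (hz b b).2.2.2
    have hBA : B * A = Z * (A * B) := by
      simp only [hZ, A, B, ← map_mul]
      congr 1
      rw [commutatorElement_def]; group
    have hA2B : Commute (A ^ 2) B := by
      show A ^ 2 * B = B * A ^ 2
      have h : B * A * A = Z * Z * (A * A * B) := by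
        rw [hBA, mul_assoc, mul_assoc A B A, hBA, ← mul_assoc A Z, hZA.eq]
        simp only [mul_assoc]
      rw [pow_two, ← mul_assoc B, h, ← pow_two Z, hZ2, one_mul]
    have hB2A : Commute (B ^ 2) A := by
      show B ^ 2 * A = A * B ^ 2
      rw [pow_two, mul_assoc, hBA, ← mul_assoc, hZB.eq, mul_assoc, ← mul_assoc B, hBA,
        mul_assoc Z (A * B), ← mul_assoc Z, ← pow_two Z, hZ2, one_mul, mul_assoc]
    refine ⟨?_, ?_⟩
    · have h2 : (A * B) ^ 2 = Z * (A ^ 2 * B ^ 2) := by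
        rw [pow_two, pow_two A, pow_two B, mul_assoc, ← mul_assoc B, hBA, ← mul_assoc A,
          ← mul_assoc A Z, hZA.eq]
        simp only [mul_assoc]
      have hZ' : Commute Z (A ^ 2 * B ^ 2) :=
        ((hZA.symm).pow_right 2).mul_right ((hZB.symm).pow_right 2)
      rw [show (4 : ℕ) = 2 * 2 from rfl, pow_mul, h2, hZ'.mul_pow, hZ2, one_mul,
        (hA2B.pow_right 2).mul_pow, ← pow_mul, ← pow_mul]
    · exact ((hA2B.pow_right 4).pow_left 2 : Commute ((A ^ 2) ^ 2) (B ^ 4)) |> fun h => by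
        rwa [← pow_mul] at h
  let H : Subgroup Q :=
    { carrier := {u | u ^ 2 ^ m ∈ D2}
      one_mem' := by simp [one_mem]
      mul_mem' := fun {a b} ha hb => by
        simp only [Set.mem_setOf_eq, ← QuotientGroup.eq_one_iff (N := D2), QuotientGroup.mk_pow,
          QuotientGroup.mk_mul] at ha hb ⊢
        obtain ⟨m', hm'⟩ : ∃ m', 2 ^ m = 4 * 2 ^ m' := ⟨m - 2, by
          rw [show (4 : ℕ) = 2 ^ 2 from rfl, ← pow_add]; congr 1; omega⟩
        rw [hm', pow_mul] at ha hb ⊢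
        rw [(hpow4 _ _).1, (hpow4 _ _).2.mul_pow, ha, hb, one_mul]
      inv_mem' := fun {a} ha => by
        simp only [Set.mem_setOf_eq, inv_pow] at ha ⊢
        exact inv_mem ha }
  have hHinv : ∀ u ∈ H, φ u ∈ H := fun u hu => by
    show (φ u) ^ 2 ^ m ∈ D2
    rw [← map_pow]; exact hD2inv _ hu
  have hcH : c ∉ H := by
    intro h
    obtain ⟨k, hk⟩ := mem_zpowers_iff.1 (h : c ^ 2 ^ m ∈ D2)
    obtain ⟨w, hw⟩ := mem_zpowers_iff.1
      (odd_unit_generates hQ (c ^ 2 ^ m) (⟨k - 1, rfl⟩ : Odd (2 * (k - 1) + 1)))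
    apply hcM1
    have h1 : (c ^ 2 ^ m) ^ (2 * (k - 1) + 1) = 1 := by
      rw [show 2 * (k - 1) + 1 = ((2 : ℕ) : ℤ) * k - 1 by push_cast; ring, zpow_sub_one, zpow_mul,
        zpow_natCast, hk, mul_inv_cancel]
    rw [← hw, h1, one_zpow]
  have hyD : y ^ 2 ^ m ∈ D :=
    pow_mem_all hQ hgen φ hφ hne D le_rfl (commutator_inv φ) _ hc hcM y
  obtain ⟨k, hk⟩ := mem_zpowers_iff.1 (hDeq hyD)
  rcases Int.even_or_odd k with ⟨j, hj⟩ | ⟨j, hj⟩
  · have hyH : y ∈ H := by
      show y ^ 2 ^ m ∈ D2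
      refine mem_zpowers_iff.2 ⟨j, ?_⟩
      rw [← hk, hj, ← two_mul, zpow_mul, zpow_two, pow_two]
    exact hcH (inv_top hQ hgen φ hφ hne H hHinv hyH hyF ▸ Subgroup.mem_top c)
  · have hcyH : c * y ∈ H := by
      show (c * y) ^ 2 ^ m ∈ D2
      obtain ⟨m', hm'⟩ : ∃ m', 2 ^ m = 4 * 2 ^ m' := ⟨m - 2, by
        rw [show (4 : ℕ) = 2 ^ 2 from rfl, ← pow_add]; congr 1; omega⟩
      rw [← QuotientGroup.eq_one_iff (N := D2), QuotientGroup.mk_pow, QuotientGroup.mk_mul, hm',
        pow_mul, (hpow4 _ _).1, (hpow4 _ _).2.mul_pow, ← pow_mul, ← pow_mul, ← hm',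
        ← QuotientGroup.mk_pow, ← QuotientGroup.mk_pow, ← QuotientGroup.mk_mul, QuotientGroup.eq_one_iff]
      refine mem_zpowers_iff.2 ⟨j + 1, ?_⟩
      rw [← hk, hj, ← zpow_natCast (c ^ 2 ^ m), ← zpow_mul, ← zpow_one_add]
      congr 1
      push_cast
      ring
    exact hcH (inv_top hQ hgen φ hφ hne H hHinv hcyH hcyF ▸ Subgroup.mem_top c)

/-- In the abelian case the group is homocyclic. -/
theorem homocyclic (hQ : IsPGroup 2 Q) (hgen : closure {c, y} = ⊤) (hncyc : ¬ IsCyclic Q)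
    (hab : commutator Q = ⊥) (φ : MulAut Q) (hφ : Odd (orderOf φ)) (hne : φ ≠ 1) :
    ∃ m : ℕ, orderOf c = 2 ^ m ∧ Nonempty (Q ≃* Multiplicative (ZMod (2 ^ m) × ZMod (2 ^ m))) := by
  obtain ⟨hc, hyF, hcyF⟩ := gen_not_frattini hgen hncyc
  obtain ⟨m, hm⟩ := IsPGroup.iff_orderOf.1 hQ c
  refine ⟨m, hm, ?_⟩
  have hcomm : ∀ a b : Q, a * b = b * a := fun a b => by
    have h : ⁅a, b⁆ ∈ commutator Q := commutator_mem_commutator (mem_top a) (mem_top b)
    rw [hab, Subgroup.mem_bot, commutatorElement_eq_one_iff_mul_comm] at h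
    exact h
  have hall : ∀ d : ℕ, ∀ x : Q, x ∉ frattini Q → x ^ d = 1 → ∀ z : Q, z ^ d = 1 := fun d x hx hxd z =>
    Subgroup.mem_bot.1 (pow_mem_all hQ hgen φ hφ hne ⊥ hab.le
      (fun u hu => by rw [Subgroup.mem_bot] at hu ⊢; rw [hu, map_one]) d hx (Subgroup.mem_bot.2 hxd) z)
  have hexp : ∀ z : Q, z ^ 2 ^ m = 1 := hall _ c hc (hm ▸ pow_orderOf_eq_one c)
  let f : (ZMod (2 ^ m)) × (ZMod (2 ^ m)) → Q := fun p => c ^ p.1.val * y ^ p.2.val
  have hval : ∀ (z : Q) (a b : ZMod (2 ^ m)), z ^ (a + b).val = z ^ a.val * z ^ b.val := fun z a b => by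
    rw [ZMod.val_add, ← pow_add, ← pow_eq_pow_mod _ (hexp z)]
  let F : Multiplicative (ZMod (2 ^ m) × ZMod (2 ^ m)) →* Q :=
    { toFun := fun p => f (Multiplicative.toAdd p)
      map_one' := by simp [f]
      map_mul' := fun p q => by
        simp only [f, toAdd_mul, Prod.fst_add, Prod.snd_add, hval]
        rw [mul_assoc, ← mul_assoc (c ^ (Multiplicative.toAdd q).1.val), hcomm (c ^ (Multiplicative.toAdd q).1.val),
          mul_assoc, ← mul_assoc] }
  have hker : ∀ i j : ℕ, c ^ i * y ^ j = 1 → ∀ t ≤ m, 2 ^ t ∣ i ∧ 2 ^ t ∣ j := by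
    intro i j hij t
    induction t with
    | zero => intro; simp
    | succ t ih =>
      intro ht
      obtain ⟨⟨i', hi⟩, ⟨j', hj⟩⟩ := ih (by omega)
      have hz : (c ^ i' * y ^ j') ^ 2 ^ t = 1 := by
        rw [Commute.mul_pow (hcomm _ _), ← pow_mul, ← pow_mul, mul_comm i', mul_comm j', ← hi, ← hj, hij]
      have hzF : c ^ i' * y ^ j' ∈ frattini Q := by
        by_contra h
        have := hall _ _ h hz c
        rw [← orderOf_dvd_iff_pow_eq_one, hm, Nat.pow_dvd_pow_iff_le_right (by norm_num)] at this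
        omega
      haveI := Fact.mk Nat.prime_two
      have hsq : ∀ u : Q, ∀ k : ℕ, u ^ (2 * k) ∈ frattini Q := fun u k => by
        rw [pow_mul]
        exact pow_mem (Cfsg.Lib.PGroups.pow_mem_frattini hQ u) k
      suffices 2 ∣ i' ∧ 2 ∣ j' by
        rw [hi, hj, pow_succ]
        exact ⟨mul_dvd_mul_left _ this.1, mul_dvd_mul_left _ this.2⟩
      rcases Nat.even_or_odd' i' with ⟨a, rfl | rfl⟩ <;> rcases Nat.even_or_odd' j' with ⟨b, rfl | rfl⟩
      · exact ⟨⟨a, rfl⟩, ⟨b, rfl⟩⟩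
      · exfalso
        rw [pow_succ, ← mul_assoc,
          Subgroup.mul_mem_cancel_left _ (mul_mem (hsq c a) (hsq y b))] at hzF
        exact hyF hzF
      · exfalso
        rw [pow_succ, mul_assoc, hcomm c, ← mul_assoc,
          Subgroup.mul_mem_cancel_left _ (mul_mem (hsq c a) (hsq y b))] at hzF
        exact hc hzF
      · exfalso
        rw [pow_succ, pow_succ, mul_assoc, ← mul_assoc c, hcomm c (y ^ (2 * b)), mul_assoc, ← mul_assoc,
          Subgroup.mul_mem_cancel_left _ (mul_mem (hsq c a) (hsq y b))] at hzF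
        exact hcyF hzF
  have hinj : Function.Injective F := by
    rw [injective_iff_map_eq_one]
    intro p hp
    obtain ⟨h1, h2⟩ := hker _ _ hp m le_rfl
    have e1 := Nat.eq_zero_of_dvd_of_lt h1 (ZMod.val_lt _)
    have e2 := Nat.eq_zero_of_dvd_of_lt h2 (ZMod.val_lt _)
    rw [ZMod.val_eq_zero] at e1 e2
    exact Multiplicative.toAdd.injective (Prod.ext e1 e2)
  have hsurj : Function.Surjective F := by
    rw [← MonoidHom.range_eq_top, eq_top_iff, ← hgen, closure_le]
    rintro u (rfl | rfl)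
    · refine ⟨Multiplicative.ofAdd ((1 : ZMod (2 ^ m)), 0), ?_⟩
      show u ^ (1 : ZMod (2 ^ m)).val * y ^ (0 : ZMod (2 ^ m)).val = u
      rw [ZMod.val_one_eq_one_mod, ZMod.val_zero, pow_zero, mul_one, ← pow_eq_pow_mod _ (hexp u), pow_one]
    · refine ⟨Multiplicative.ofAdd ((0 : ZMod (2 ^ m)), 1), ?_⟩
      show c ^ (0 : ZMod (2 ^ m)).val * u ^ (1 : ZMod (2 ^ m)).val = u
      rw [ZMod.val_one_eq_one_mod, ZMod.val_zero, pow_zero, one_mul, ← pow_eq_pow_mod _ (hexp u), pow_one]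
  exact ⟨(MulEquiv.ofBijective F ⟨hinj, hsurj⟩).symm⟩

end Cfsg.Lib.InvolCalc.MetaFrame
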