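import Cfsg.Agent.InvolCalc.Counting
import Cfsg.Prelude.Def_TwoFusion
import Cfsg.Prelude.Def_Transfer

/-!
Classes of involutions, and weakly / strongly closed subgroups under Sylow's theorem.
-/

set_option autoImplicit false

namespace Cfsg.Lib.InvolCalc

open scoped Pointwise

variable {G : Type*} [Group G] [Finite G] {p : ℕ} [Fact p.Prime]

theorem exists_conj_le (T : Sylow p G) {H : Subgroup G} (hH : IsPGroup p H) :
    ∃ a : G, ∀ x ∈ H, a⁻¹ * x * a ∈ (T : Subgroup G) := by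
  obtain ⟨R, hR⟩ := hH.exists_le_sylow
  obtain ⟨a, rfl⟩ := MulAction.exists_smul_eq G T R
  refine ⟨a, fun x hx => ?_⟩
  have h := hR hx
  rw [Sylow.coe_subgroup_smul, Subgroup.mem_pointwise_smul_iff_inv_smul_mem] at h
  simpa [MulAut.smul_def] using h

omit [Finite G] [Fact p.Prime] in
theorem isPGroup_pair {s t : G} (hs : orderOf s = 2) (ht : orderOf t = 2) (h : Commute s t) :
    IsPGroup 2 (Subgroup.zpowers s ⊔ Subgroup.zpowers t : Subgroup G) := by
  have hp : ∀ u : G, orderOf u = 2 → IsPGroup 2 (Subgroup.zpowers u) := fun u hu =>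
    IsPGroup.of_card (n := 1) (by rw [Nat.card_zpowers, hu, pow_one])
  refine (hp s hs).to_sup_of_normal_right' (hp t ht) fun x hx => ?_
  obtain ⟨i, rfl⟩ := hx
  refine Subgroup.mem_normalizer_iff.mpr fun z => ?_
  constructor
  · rintro ⟨j, rfl⟩
    refine ⟨j, ?_⟩
    show t ^ j = s ^ i * t ^ j * (s ^ i)⁻¹
    rw [(h.zpow_zpow i j).eq, mul_inv_cancel_right]
  · rintro ⟨j, hj⟩
    refine ⟨j, ?_⟩
    change t ^ j = s ^ i * z * (s ^ i)⁻¹ at hj
    show t ^ j = z
    have h1 : s ^ i * t ^ j * (s ^ i)⁻¹ = t ^ j := by rw [(h.zpow_zpow i j).eq, mul_inv_cancel_right]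
    exact mul_left_cancel (mul_right_cancel (h1.trans hj))

theorem isolated_of_unique (S : Sylow 2 G) {t : G} (ht : orderOf t = 2)
    (hiso : ∀ g : G, g * t * g⁻¹ ∈ S → g * t * g⁻¹ = t) {g : G} (hc : Commute t (g * t * g⁻¹)) :
    g * t * g⁻¹ = t := by
  have hgo : orderOf (g * t * g⁻¹) = 2 := by
    rw [show g * t * g⁻¹ = MulAut.conj g t from rfl, MulEquiv.orderOf_eq]; exact ht
  obtain ⟨a, ha⟩ := exists_conj_le S (isPGroup_pair ht hgo hc)
  have h1 := ha t (Subgroup.mem_sup_left (Subgroup.mem_zpowers t))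
  have h2 := ha _ (Subgroup.mem_sup_right (Subgroup.mem_zpowers (g * t * g⁻¹)))
  have e1 := hiso a⁻¹ (by rwa [inv_inv])
  have e2 := hiso (a⁻¹ * g) (by
    rwa [show a⁻¹ * g * t * (a⁻¹ * g)⁻¹ = a⁻¹ * (g * t * g⁻¹) * a by group])
  calc g * t * g⁻¹ = a * (a⁻¹ * g * t * (a⁻¹ * g)⁻¹) * a⁻¹ := by group
    _ = a * (a⁻¹ * t * a⁻¹⁻¹) * a⁻¹ := by rw [e2, e1]
    _ = t := by group

theorem product_order (S : Sylow 2 G) {s t : G} (ht : orderOf t = 2)
    (hiso : ∀ g : G, g * t * g⁻¹ ∈ S → g * t * g⁻¹ = t) (hs : orderOf s = 2) (hns : ¬ IsConj s t) :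
    orderOf (s * t) % 4 = 2 := by
  have heq : orderOf (t * s) = orderOf (s * t) := by
    rw [show s * t = MulAut.conj s (t * s) by simp [mul_assoc], MulEquiv.orderOf_eq]
  have heven : Even (orderOf (t * s)) := by
    by_contra h
    obtain ⟨d, -, hd⟩ := conj_of_odd ht hs (Nat.not_even_iff_odd.mp h)
    exact hns (isConj_iff.mpr ⟨d, hd⟩).symm
  by_contra h4
  obtain ⟨d, -, hd⟩ := (conj_mul_central_iff ht hs heven).mpr
    (show 4 ∣ orderOf (t * s) by
      obtain ⟨h, hh⟩ := heven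
      omega)
  obtain ⟨hz, hzc, -⟩ := central_spec ht hs heven
  have h1 := isolated_of_unique S ht hiso (g := d) (by
    rw [hd]; exact (Commute.refl t).mul_right hzc.symm)
  rw [hd, mul_eq_left] at h1
  exact ne_one_of_order_two hz h1

theorem card_lt_cube {s t : G} (hs : orderOf s = 2) (ht : orderOf t = 2) (hnc : ¬ IsConj s t)
    (hmax : ∀ u : G, orderOf u = 2 → Nat.card (Subgroup.centralizer ({u} : Set G)) ≤
      Nat.card (Subgroup.centralizer ({t} : Set G))) :
    Nat.card G < Nat.card (Subgroup.centralizer ({t} : Set G)) ^ 3 := by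
  classical
  set c := Nat.card (Subgroup.centralizer ({t} : Set G)) with hc
  have hs2 : ∀ s', IsConj s s' → orderOf s' = 2 := fun s' h => by
    obtain ⟨g, rfl⟩ := isConj_iff.mp h
    rw [show g * s * g⁻¹ = MulAut.conj g s from rfl, MulEquiv.orderOf_eq]; exact hs
  have hev : ∀ s', IsConj s s' → Even (orderOf (t * s')) := fun s' h => by
    by_contra he
    obtain ⟨d, -, hd⟩ := conj_of_odd ht (hs2 s' h) (Nat.not_even_iff_odd.mp he)
    exact hnc (h.trans (isConj_iff.mpr ⟨d, hd⟩).symm)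
  let U := {u : Subgroup.centralizer ({t} : Set G) // u ≠ 1}
  let F : {s' : G // IsConj s s'} → U × Set.Iio c := fun s' => ⟨⟨⟨(t * s'.1) ^ (orderOf (t * s'.1) / 2),
    Subgroup.mem_centralizer_singleton_iff.mpr (central_spec ht (hs2 _ s'.2) (hev _ s'.2)).2.1.eq⟩,
    fun h => ne_one_of_order_two (central_spec ht (hs2 _ s'.2) (hev _ s'.2)).1 (congrArg Subtype.val h)⟩,
    ⟨0, Nat.card_pos⟩⟩
  have hU : Nat.card U + 1 = c := by
    rw [hc, ← Finite.card_option]
    exact Nat.card_congr (Equiv.optionSubtypeNe _)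
  have hfib : ∀ z : G, orderOf z = 2 → Nat.card {s' : G // orderOf s' = 2 ∧ Commute z s'} < c := by
    intro z hz
    refine lt_of_lt_of_le ?_ (hmax z hz)
    rw [Nat.lt_iff_add_one_le, ← Finite.card_option]
    refine Nat.card_le_card_of_injective (fun o : Option _ => o.elim (1 : Subgroup.centralizer ({z} : Set G))
      fun v => ⟨v.1, Subgroup.mem_centralizer_singleton_iff.mpr v.2.2.eq.symm⟩) ?_
    rintro (_ | ⟨a, ha⟩) (_ | ⟨b, hb⟩) h
    · rfl
    · exact absurd (congrArg Subtype.val h).symm (ne_one_of_order_two hb.1)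
    · exact absurd (congrArg Subtype.val h) (ne_one_of_order_two ha.1)
    · have h1 : a = b := congrArg Subtype.val h
      subst h1
      rfl
  have hcount : Nat.card {s' : G // IsConj s s'} ≤ Nat.card U * c := by
    haveI := Fintype.ofFinite U
    haveI := Fintype.ofFinite {s' : G // IsConj s s'}
    rw [Nat.card_eq_fintype_card, Nat.card_eq_fintype_card, ← Finset.card_univ,
      Finset.card_eq_sum_card_fiberwise (f := fun s' => (F s').1) (t := Finset.univ) fun _ _ => Finset.mem_univ _]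
    refine (Finset.sum_le_sum fun u _ => ?_).trans (by rw [Finset.sum_const, Finset.card_univ, smul_eq_mul])
    rcases (Finset.univ.filter fun s' => (F s').1 = u).eq_empty_or_nonempty with h | ⟨s₁, hs₁⟩
    · rw [h]; exact Nat.zero_le _
    rw [Finset.mem_filter] at hs₁
    have hu : orderOf ((u.1 : Subgroup.centralizer ({t} : Set G)) : G) = 2 := by
      rw [← hs₁.2]; exact (central_spec ht (hs2 _ s₁.2) (hev _ s₁.2)).1
    refine le_trans ?_ (hfib _ hu).le
    rw [← Fintype.card_coe, ← Nat.card_eq_fintype_card]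
    refine Nat.card_le_card_of_injective (fun v => ⟨v.1.1, hs2 _ v.1.2, ?_⟩) fun a b h =>
      Subtype.ext (Subtype.ext (congrArg Subtype.val h : _))
    · exact (congrArg (fun u : U => ((u.1 : Subgroup.centralizer ({t} : Set G)) : G))
        (Finset.mem_filter.mp v.2).2) ▸ (central_spec ht (hs2 _ v.1.2) (hev _ v.1.2)).2.2
  have horb : Nat.card {s' : G // IsConj s s'} * Nat.card (Subgroup.centralizer ({s} : Set G)) = Nat.card G := by
    have h1 := Nat.card_congr (MulAction.orbitProdStabilizerEquivGroup (ConjAct G) s)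
    rw [Nat.card_prod] at h1
    rw [show Nat.card (ConjAct G) = Nat.card G from Nat.card_congr ConjAct.ofConjAct.toEquiv] at h1
    rw [← h1]
    congr 1
    · exact Nat.card_congr (Equiv.subtypeEquivRight fun s' => by
        rw [ConjAct.mem_orbit_conjAct, isConj_comm])
    · refine Nat.card_congr (ConjAct.toConjAct.toEquiv.subtypeEquiv fun g => ?_)
      rw [Subgroup.mem_centralizer_singleton_iff, MulAction.mem_stabilizer_iff]
      show _ ↔ ConjAct.toConjAct g • s = s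
      rw [ConjAct.toConjAct_smul, mul_inv_eq_iff_eq_mul]
  have hcs := hmax s hs
  have hpos : 0 < c := Nat.card_pos
  calc Nat.card G ≤ Nat.card U * c * c := horb ▸ Nat.mul_le_mul hcount hcs
    _ < c * c * c := by
      refine Nat.mul_lt_mul_of_pos_right ?_ hpos
      exact Nat.mul_lt_mul_of_pos_right (by omega) hpos
    _ = c ^ 3 := by ring

theorem one_class (T : Sylow 2 G) (hnn : ¬ (T : Subgroup G).Normal)
    (hTI : ∀ g : G, MulAut.conj g • (T : Subgroup G) ≠ T → MulAut.conj g • (T : Subgroup G) ⊓ T = ⊥)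
    {s t : G} (hs : orderOf s = 2) (ht : orderOf t = 2) : IsConj s t := by
  haveI : Fact (Nat.Prime 2) := ⟨Nat.prime_two⟩
  -- two Sylow subgroups with a common involution are equal
  have hmeet : ∀ (R : Sylow 2 G) (a : G), a ∈ R → a ∈ T → a ≠ 1 → (R : Subgroup G) = T := by
    intro R a haR haT ha1
    obtain ⟨g, rfl⟩ := MulAction.exists_smul_eq G T R
    replace haR : a ∈ ((g • T : Sylow 2 G) : Subgroup G) := haR
    rw [Sylow.coe_subgroup_smul] at haR ⊢
    by_contra hne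
    have : a ∈ MulAut.conj g • (T : Subgroup G) ⊓ T := ⟨haR, haT⟩
    rw [hTI g hne, Subgroup.mem_bot] at this
    exact ha1 this
  have hstep : ∀ a b : G, orderOf a = 2 → orderOf b = 2 → a ∈ T → b ∉ T → IsConj a b := by
    intro a b ha hb haT hbT
    by_cases he : Even (orderOf (a * b))
    · obtain ⟨hz, hza, hzb⟩ := central_spec ha hb he
      obtain ⟨R, hR⟩ := (isPGroup_pair hz ha hza).exists_le_sylow
      obtain ⟨U, hU⟩ := (isPGroup_pair hz hb hzb).exists_le_sylow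
      have hRT := hmeet R a (hR (Subgroup.mem_sup_right (Subgroup.mem_zpowers a))) haT (ne_one_of_order_two ha)
      have hzT : (a * b) ^ (orderOf (a * b) / 2) ∈ (T : Subgroup G) :=
        hRT ▸ hR (Subgroup.mem_sup_left (Subgroup.mem_zpowers _))
      have hUT := hmeet U _ (hU (Subgroup.mem_sup_left (Subgroup.mem_zpowers _))) hzT (ne_one_of_order_two hz)
      exact absurd (hUT.le (hU (Subgroup.mem_sup_right (Subgroup.mem_zpowers b)))) hbT
    · obtain ⟨d, -, hd⟩ := conj_of_odd ha hb (Nat.not_even_iff_odd.mp he)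
      exact isConj_iff.mpr ⟨d, hd⟩
  have key : ∀ a : G, orderOf a = 2 → a ∈ T → ∃ b, orderOf b = 2 ∧ b ∉ T := by
    intro a ha haT
    by_contra hne
    push Not at hne
    refine hnn ⟨fun x hx g => ?_⟩
    have hga : g * a * g⁻¹ ∈ (T : Subgroup G) := hne _ (by
      rw [show g * a * g⁻¹ = MulAut.conj g a from rfl, MulEquiv.orderOf_eq]; exact ha)
    have h := hmeet (g • T) (g * a * g⁻¹)
      (by rw [← SetLike.mem_coe]; exact ⟨a, haT, rfl⟩) hga (by
        rw [ne_eq, mul_inv_eq_one]; intro h; exact ne_one_of_order_two ha (mul_eq_left.mp h))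
    rw [← h, Sylow.coe_subgroup_smul]
    exact ⟨x, hx, rfl⟩
  obtain ⟨g, hg⟩ := exists_conj_le T (IsPGroup.of_card (G := Subgroup.zpowers s) (n := 1)
    (by rw [Nat.card_zpowers, hs, pow_one]))
  have hs' := hg s (Subgroup.mem_zpowers s)
  have hso : orderOf (g⁻¹ * s * g) = 2 := by
    rw [show g⁻¹ * s * g = MulAut.conj g⁻¹ s by simp [MulAut.conj_apply], MulEquiv.orderOf_eq]; exact hs
  refine IsConj.trans (isConj_iff.mpr ⟨g⁻¹, by rw [inv_inv]⟩ : IsConj s (g⁻¹ * s * g)) ?_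
  by_cases htT : t ∈ T
  · obtain ⟨b, hb, hbT⟩ := key t ht htT
    exact (hstep _ b hso hb hs' hbT).trans (hstep t b ht hb htT hbT).symm
  · exact hstep _ t hso ht hs' htT

/-! ### Weak and strong closure -/

omit [Finite G] [Fact p.Prime] in
theorem map_conj_map (A : Subgroup G) (u v : G) :
    (A.map (MulAut.conj v).toMonoidHom).map (MulAut.conj u).toMonoidHom =
      A.map (MulAut.conj (u * v)).toMonoidHom := by
  rw [Subgroup.map_map]
  congr 1
  ext w
  simp [mul_assoc]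

omit [Finite G] [Fact p.Prime] in
theorem map_conj_one (A : Subgroup G) : A.map (MulAut.conj (1 : G)).toMonoidHom = A := by
  ext w
  simp

theorem weaklyClosed_commute (S : Sylow p G) {A : Subgroup G}
    (hW : Cfsg.IsWeaklyClosed A (S : Subgroup G)) {g : G}
    (hc : ∀ a ∈ A, ∀ b ∈ A.map (MulAut.conj g).toMonoidHom, a * b = b * a) :
    A.map (MulAut.conj g).toMonoidHom = A := by
  set B := A.map (MulAut.conj g).toMonoidHom
  have hAp : IsPGroup p A := S.2.to_le hW.1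
  have hAB : IsPGroup p (A ⊔ B : Subgroup G) := hAp.to_sup_of_normal_right' (hAp.map _) fun a ha =>
    Subgroup.mem_normalizer_iff.mpr fun z => by
      constructor
      · intro hz
        rwa [hc a ha z hz, mul_inv_cancel_right]
      · intro hz
        have h1 := hc a ha _ hz
        rwa [show z = a * z * a⁻¹ from mul_left_cancel (a := a) (by rw [h1]; group)]
  obtain ⟨a, ha⟩ := exists_conj_le S hAB
  have h1 : A.map (MulAut.conj a⁻¹).toMonoidHom = A := hW.2 _ (by
    rintro _ ⟨w, hw, rfl⟩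
    simpa using ha w (Subgroup.mem_sup_left hw))
  have h2 : A.map (MulAut.conj (a⁻¹ * g)).toMonoidHom = A := hW.2 _ (by
    rintro _ ⟨w, hw, rfl⟩
    have h := ha _ (Subgroup.mem_sup_right (S := A) (T := B) ⟨w, hw, rfl⟩)
    show a⁻¹ * g * w * (a⁻¹ * g)⁻¹ ∈ (S : Subgroup G)
    convert h using 1
    show _ = a⁻¹ * (g * w * g⁻¹) * a
    group)
  calc B = (A.map (MulAut.conj (a⁻¹ * g)).toMonoidHom).map (MulAut.conj a).toMonoidHom := by
        rw [map_conj_map, mul_inv_cancel_left]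
    _ = (A.map (MulAut.conj a⁻¹).toMonoidHom).map (MulAut.conj a).toMonoidHom := by rw [h1, h2]
    _ = A := by rw [map_conj_map, mul_inv_cancel, map_conj_one]

theorem weaklyClosed_control (T : Sylow p G) {W : Subgroup G}
    (hW : Cfsg.IsWeaklyClosed W (T : Subgroup G)) {d g : G}
    (hd : d ∈ Subgroup.centralizer (W : Set G)) (hgd : g * d * g⁻¹ ∈ Subgroup.centralizer (W : Set G)) :
    ∃ h ∈ Subgroup.normalizer (W : Set G), h * d * h⁻¹ = g * d * g⁻¹ := by
  set C := Subgroup.centralizer ({d} : Set G)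
  set W' := W.map (MulAut.conj g⁻¹).toMonoidHom
  have hWp : IsPGroup p W := T.2.to_le hW.1
  have hWC : W ≤ C := fun w hw => Subgroup.mem_centralizer_singleton_iff.mpr
    (Subgroup.mem_centralizer_iff.mp hd w hw)
  have hW'C : W' ≤ C := by
    rintro _ ⟨w, hw, rfl⟩
    refine Subgroup.mem_centralizer_singleton_iff.mpr ?_
    have h := Subgroup.mem_centralizer_iff.mp hgd w hw
    show g⁻¹ * w * g⁻¹⁻¹ * d = d * (g⁻¹ * w * g⁻¹⁻¹)
    calc g⁻¹ * w * g⁻¹⁻¹ * d = g⁻¹ * (w * (g * d * g⁻¹)) * g := by group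
      _ = _ := by rw [h]; group
  obtain ⟨R₁, hR₁⟩ := (hWp.comap_of_injective C.subtype C.subtype_injective).exists_le_sylow
  obtain ⟨R₂, hR₂⟩ := ((hWp.map (MulAut.conj g⁻¹).toMonoidHom).comap_of_injective C.subtype
    C.subtype_injective).exists_le_sylow
  obtain ⟨c, hc⟩ := MulAction.exists_smul_eq C R₂ R₁
  obtain ⟨a, ha⟩ := exists_conj_le T (R₁.2.map C.subtype)
  have h1 : W.map (MulAut.conj a⁻¹).toMonoidHom = W := hW.2 _ (by
    rintro _ ⟨w, hw, rfl⟩
    simpa using ha w ⟨⟨w, hWC hw⟩, hR₁ (Subgroup.mem_comap.mpr hw), rfl⟩)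
  have h2 : W.map (MulAut.conj (a⁻¹ * (c : G) * g⁻¹)).toMonoidHom = W := hW.2 _ (by
    rintro _ ⟨w, hw, rfl⟩
    have hw' : g⁻¹ * w * g ∈ W' := ⟨w, hw, by simp⟩
    have hm : c * ⟨g⁻¹ * w * g, hW'C hw'⟩ * c⁻¹ ∈ (R₁ : Subgroup C) := by
      rw [← hc, Sylow.coe_subgroup_smul]
      exact ⟨_, hR₂ (Subgroup.mem_comap.mpr hw'), rfl⟩
    have := ha _ ⟨_, hm, rfl⟩
    show a⁻¹ * (c : G) * g⁻¹ * w * (a⁻¹ * (c : G) * g⁻¹)⁻¹ ∈ (T : Subgroup G)
    convert this using 1
    simp only [Subgroup.coe_subtype, Subgroup.coe_mul, Subgroup.coe_inv]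
    group)
  have h3 : W.map (MulAut.conj ((c : G) * g⁻¹)).toMonoidHom = W := by
    calc _ = (W.map (MulAut.conj (a⁻¹ * (c : G) * g⁻¹)).toMonoidHom).map (MulAut.conj a).toMonoidHom := by
          rw [map_conj_map]; congr 3; group
      _ = (W.map (MulAut.conj a⁻¹).toMonoidHom).map (MulAut.conj a).toMonoidHom := by rw [h1, h2]
      _ = W := by rw [map_conj_map, mul_inv_cancel, map_conj_one]
  refine ⟨g * (c : G)⁻¹, ?_, ?_⟩
  · have hn : (c : G) * g⁻¹ ∈ Subgroup.normalizer (W : Set G) := by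
      refine Subgroup.mem_normalizer_iff.mpr fun x => ?_
      conv_rhs => rw [← h3]
      exact ⟨fun hx => ⟨x, hx, rfl⟩,
        fun ⟨y, hy, e⟩ => (MulAut.conj _).injective e ▸ hy⟩
    simpa using Subgroup.inv_mem _ hn
  · have hcd := Subgroup.mem_centralizer_singleton_iff.mp c.2
    calc g * (c : G)⁻¹ * d * (g * (c : G)⁻¹)⁻¹ = g * ((c : G)⁻¹ * (d * (c : G))) * g⁻¹ := by group
      _ = g * d * g⁻¹ := by rw [← hcd]; group

theorem stronglyClosed_sylow (P Q : Sylow p G) {A : Subgroup G} (hAQ : A ≤ Q)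
    (hA : Cfsg.IsStronglyClosed A (P : Subgroup G)) : Cfsg.IsStronglyClosed A (Q : Subgroup G) := by
  obtain ⟨a, rfl⟩ := MulAction.exists_smul_eq G P Q
  have hmem : ∀ y : G, y ∈ (a • P : Sylow p G) ↔ a⁻¹ * y * a ∈ (P : Subgroup G) := fun y => by
    rw [← SetLike.mem_coe, show ((a • P : Sylow p G) : Set G) = ((MulAut.conj a • (P : Subgroup G) : Subgroup G) : Set G) from rfl,
      SetLike.mem_coe, Subgroup.mem_pointwise_smul_iff_inv_smul_mem]
    simp [MulAut.smul_def]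
  have hcl : ∀ x ∈ A, a⁻¹ * x * a ∈ A := fun x hx => by
    have := hA.2 x hx a⁻¹ (by rw [inv_inv]; exact (hmem x).mp (hAQ hx))
    rwa [inv_inv] at this
  have heq : A.map (MulAut.conj a⁻¹).toMonoidHom = A := by
    refine Subgroup.eq_of_le_of_card_ge ?_
      (Nat.card_congr (A.equivMapOfInjective _ (MulAut.conj a⁻¹).injective).toEquiv).le
    rintro _ ⟨x, hx, rfl⟩
    simpa using hcl x hx
  refine ⟨hAQ, fun x hx g hg => ?_⟩
  have h1 := hA.2 x hx (a⁻¹ * g) (by
    rw [show a⁻¹ * g * x * (a⁻¹ * g)⁻¹ = a⁻¹ * (g * x * g⁻¹) * a by group]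
    exact (hmem _).mp hg)
  obtain ⟨w, hw, e⟩ := heq.ge h1
  have e' : a⁻¹ * w * a⁻¹⁻¹ = a⁻¹ * g * x * (a⁻¹ * g)⁻¹ := e
  rwa [show g * x * g⁻¹ = w by
    calc g * x * g⁻¹ = a * (a⁻¹ * g * x * (a⁻¹ * g)⁻¹) * a⁻¹ := by group
      _ = w := by rw [← e']; group]

theorem stronglyClosed_quotient (S : Sylow p G) {A : Subgroup G}
    (hA : Cfsg.IsStronglyClosed A (S : Subgroup G)) (N : Subgroup G) [N.Normal] :
    Cfsg.IsStronglyClosed (A.map (QuotientGroup.mk' N)) ((S : Subgroup G).map (QuotientGroup.mk' N)) := by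
  refine ⟨Subgroup.map_mono hA.1, ?_⟩
  rintro _ ⟨x, hx, rfl⟩ gb hgb
  obtain ⟨g, rfl⟩ := QuotientGroup.mk'_surjective N gb
  set y := g * x * g⁻¹
  have hy : y ∈ (S : Subgroup G) ⊔ N := by
    rw [← map_inv, ← map_mul, ← map_mul] at hgb
    obtain ⟨s, hs, e⟩ := hgb
    have h := QuotientGroup.eq.mp (e : (QuotientGroup.mk s : G ⧸ N) = QuotientGroup.mk y)
    have := Subgroup.mul_mem _ (Subgroup.mem_sup_left (T := N) hs) (Subgroup.mem_sup_right (S := (S : Subgroup G)) h)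
    simpa using this
  set M := (S : Subgroup G) ⊔ N
  let SM : Sylow p M := S.subtype le_sup_left
  have hyp : IsPGroup p (Subgroup.zpowers (⟨y, hy⟩ : M)) := by
    intro z
    obtain ⟨k, hk⟩ := S.2 ⟨x, hA.1 hx⟩
    have hk' : x ^ p ^ k = 1 := congrArg Subtype.val hk
    obtain ⟨z, i, rfl⟩ := z
    refine ⟨k, Subtype.ext ?_⟩
    show ((⟨y, hy⟩ : M) ^ i) ^ p ^ k = 1
    rw [← zpow_natCast, zpow_comm, zpow_natCast, show (⟨y, hy⟩ : M) ^ p ^ k = 1 from Subtype.ext (by
      show (g * x * g⁻¹) ^ p ^ k = 1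
      rw [conj_pow, hk']; group), one_zpow]
  obtain ⟨m, hm⟩ := exists_conj_le SM hyp
  have hm' : (m : G)⁻¹ * y * (m : G) ∈ (S : Subgroup G) := hm _ (Subgroup.mem_zpowers _)
  obtain ⟨s, hs, n, hn, hsn⟩ : ∃ s ∈ (S : Subgroup G), ∃ n ∈ N, (m : G)⁻¹ = s * n := by
    have := Subgroup.inv_mem _ m.2
    rw [← SetLike.mem_coe, Subgroup.mul_normal] at this
    obtain ⟨s, hs, n, hn, e⟩ := this
    exact ⟨s, hs, n, hn, e.symm⟩
  have hn' : n * g * x * (n * g)⁻¹ ∈ (S : Subgroup G) := by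
    have h1 := Subgroup.mul_mem _ (Subgroup.mul_mem _ (Subgroup.inv_mem _ hs) hm') hs
    rw [show (m : G) = (s * n)⁻¹ by rw [← hsn, inv_inv]] at h1
    convert h1 using 1
    simp only [y]
    group
  refine ⟨_, hA.2 x hx (n * g) hn', ?_⟩
  rw [map_mul, map_mul, map_inv, map_mul, show QuotientGroup.mk' N n = 1 from
    (QuotientGroup.eq_one_iff n).mpr hn, one_mul]

theorem TI_weaklyClosed {A : Subgroup G} (hA : Cfsg.IsElementaryAbelian 2 A)
    (hTI : ∀ g : G, A.map (MulAut.conj g).toMonoidHom ⊓ A = ⊥ ∨ A.map (MulAut.conj g).toMonoidHom = A)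
    (hb : ∀ g : G, (∀ a ∈ A, ∀ b ∈ A.map (MulAut.conj g).toMonoidHom, a * b = b * a) →
      A.map (MulAut.conj g).toMonoidHom = A)
    {a : G} (ha : a ∈ A) (ha1 : a ≠ 1) {g : G}
    (hg : A.map (MulAut.conj g).toMonoidHom ≤ Subgroup.centralizer ({a} : Set G)) :
    A.map (MulAut.conj g).toMonoidHom = A := by
  haveI := hA.1
  have hcomm : ∀ u ∈ A, ∀ v ∈ A, u * v = v * u := fun u hu v hv =>
    congrArg Subtype.val (IsMulCommutative.is_comm.comm (⟨u, hu⟩ : A) ⟨v, hv⟩)
  by_contra hne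
  set B := A.map (MulAut.conj g).toMonoidHom with hB
  have hdisj : B ⊓ A = ⊥ := (hTI g).resolve_right hne
  have hBA : ∀ b ∈ B, ∀ u ∈ A, b * u * b⁻¹ ∈ A := by
    intro b hb' u hu
    have h1 : b * a * b⁻¹ = a :=
      mul_inv_eq_iff_eq_mul.mpr (Subgroup.mem_centralizer_singleton_iff.mp (hg hb'))
    have h2 : A.map (MulAut.conj b).toMonoidHom = A := (hTI b).resolve_left fun h => ha1 (by
      have : a ∈ A.map (MulAut.conj b).toMonoidHom ⊓ A := ⟨⟨a, ha, h1⟩, ha⟩
      rwa [h, Subgroup.mem_bot] at this)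
    exact h2.le ⟨u, hu, rfl⟩
  have hstab : ∀ u ∈ A, ∀ b ∈ B, u * b * u⁻¹ ∈ B := by
    intro u hu
    -- some nontrivial element of `B` fixes `u`
    obtain ⟨b₀, hb₀, hb₀1, hb₀u⟩ : ∃ b ∈ B, b ≠ 1 ∧ b * u * b⁻¹ = u := by
      by_contra hnone
      push Not at hnone
      rcases eq_or_ne u 1 with rfl | hu1
      · have hB1 : B ≠ ⊥ := fun h => ha1 (by
          have : g * a * g⁻¹ ∈ B := ⟨a, ha, rfl⟩
          rw [h, Subgroup.mem_bot, mul_inv_eq_one, mul_eq_left] at this
          exact this)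
        obtain ⟨b, hb', hb1⟩ := B.bot_or_exists_ne_one.resolve_left hB1
        exact hnone b hb' hb1 (by group)
      · let f : B → {w : A // w ≠ 1} := fun b => ⟨⟨b * u * (b : G)⁻¹, hBA b b.2 u hu⟩, fun h => hu1 (by
          have h' := congrArg Subtype.val h
          change (b : G) * u * (b : G)⁻¹ = 1 at h'
          rwa [mul_inv_eq_one, mul_eq_left] at h')⟩
        have hf : Function.Injective f := fun b c e => by
          have e' : (b : G) * u * (b : G)⁻¹ = c * u * (c : G)⁻¹ :=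
            congrArg (fun w : {w : A // w ≠ 1} => ((w : A) : G)) e
          by_contra hne
          refine hnone ((c : G)⁻¹ * b) (B.mul_mem (B.inv_mem c.2) b.2)
            (fun h => hne (Subtype.ext (inv_mul_eq_one.mp h).symm)) ?_
          calc (c : G)⁻¹ * b * u * ((c : G)⁻¹ * b)⁻¹ = (c : G)⁻¹ * (b * u * (b : G)⁻¹) * c := by group
            _ = u := by rw [e']; group
        have h1 := Nat.card_le_card_of_injective f hf
        have h2 : Nat.card {w : A // w ≠ 1} + 1 = Nat.card A := by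
          classical
          rw [← Finite.card_option]
          exact Nat.card_congr (Equiv.optionSubtypeNe _)
        have h3 : Nat.card B = Nat.card A :=
          (Nat.card_congr (A.equivMapOfInjective _ (MulAut.conj g).injective).toEquiv).symm
        omega
    intro b hb'
    have hfix : g⁻¹ * b₀ * g ∈ A := by
      obtain ⟨w, hw, rfl⟩ := hb₀
      simpa [mul_assoc] using hw
    rcases hTI (g⁻¹ * u * g) with h | h
    · refine absurd ?_ hb₀1
      have h4 : g⁻¹ * b₀ * g ∈ A.map (MulAut.conj (g⁻¹ * u * g)).toMonoidHom ⊓ A := by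
        refine ⟨⟨_, hfix, ?_⟩, hfix⟩
        show g⁻¹ * u * g * (g⁻¹ * b₀ * g) * (g⁻¹ * u * g)⁻¹ = _
        have h5 : u * b₀ * u⁻¹ = b₀ := by
          rw [mul_inv_eq_iff_eq_mul.mp hb₀u |>.symm]; group
        calc _ = g⁻¹ * (u * b₀ * u⁻¹) * g := by group
          _ = _ := by rw [h5]
      rw [h, Subgroup.mem_bot] at h4
      calc b₀ = g * (g⁻¹ * b₀ * g) * g⁻¹ := by group
        _ = 1 := by rw [h4]; group
    · obtain ⟨w, hw, rfl⟩ := hb'
      refine ⟨g⁻¹ * u * g * w * (g⁻¹ * u * g)⁻¹, h.le ⟨w, hw, rfl⟩, ?_⟩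
      show g * (g⁻¹ * u * g * w * (g⁻¹ * u * g)⁻¹) * g⁻¹ = u * (g * w * g⁻¹) * u⁻¹
      group
  refine hne (hb g fun u hu b hb' => ?_)
  have h1 : u * b * u⁻¹ * b⁻¹ ∈ B ⊓ A := ⟨B.mul_mem (hstab u hu b hb') (B.inv_mem hb'), by
    rw [show u * b * u⁻¹ * b⁻¹ = u * (b * u⁻¹ * b⁻¹) by group]
    exact A.mul_mem hu (hBA b hb' _ (A.inv_mem hu))⟩
  rw [hdisj, Subgroup.mem_bot, mul_inv_eq_one, mul_inv_eq_iff_eq_mul] at h1
  exact h1

end Cfsg.Lib.InvolCalc
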