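/-
The field of a regular abelian group of automorphisms.
-/
import Mathlib

set_option autoImplicit false
set_option linter.style.haveILetI false

namespace Cfsg.Lib.ElemCent

universe u v

/-- If commuting endomorphisms move a nonzero element to every nonzero element of a finite group
of exponent two, they are multiplications in a finite field. -/
theorem exists_field {A : Type u} [AddCommGroup A] [Finite A] {D : Type v}
    (h2 : ∀ a : A, a + a = 0) (t0 : A) (ht0 : t0 ≠ 0) (φ : D → AddMonoid.End A)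
    (hcomm : ∀ d e, φ d * φ e = φ e * φ d) (htrans : ∀ a : A, a ≠ 0 → ∀ b : A, b ≠ 0 → ∃ d, φ d a = b) :
    ∃ (F : Type) (_ : Field F) (_ : Fintype F), CharP F 2 ∧ Fintype.card F = Nat.card A ∧
      ∃ (χ : A ≃+ F) (lam : D → F), χ t0 = 1 ∧ ∀ d a, χ (φ d a) = lam d * χ a := by
  classical
  let R := Subring.closure (Set.range φ)
  have hgen : ∀ x ∈ Set.range φ, ∀ y ∈ Set.range φ, x * y = y * x := by
    rintro _ ⟨d, rfl⟩ _ ⟨e, rfl⟩; exact hcomm d e
  letI : CommRing R := Subring.closureCommRingOfComm hgen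
  have hR : ∀ r : R, ∀ d, (r : AddMonoid.End A) * φ d = φ d * (r : AddMonoid.End A) := by
    rintro ⟨r, hr⟩ d
    have h : R ≤ Subring.centralizer {φ d} := by
      refine Subring.closure_le.2 ?_
      rintro _ ⟨e, rfl⟩
      exact Subring.mem_centralizer_iff.2 fun g hg => by
        rw [Set.mem_singleton_iff.1 hg]; exact hcomm d e
    exact (Subring.mem_centralizer_iff.1 (h hr) _ rfl).symm
  let ev : R →+ A :=
    { toFun := fun r => (r : AddMonoid.End A) t0
      map_zero' := rfl
      map_add' := fun _ _ => rfl }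
  have hker : ∀ (r : R) (a : A), a ≠ 0 → (r : AddMonoid.End A) a = 0 → r = 0 := by
    intro r a ha hra
    refine Subtype.ext (AddMonoidHom.ext fun b => ?_)
    show (r : AddMonoid.End A) b = 0
    rcases eq_or_ne b 0 with rfl | hb
    · exact map_zero _
    · obtain ⟨d, rfl⟩ := htrans a ha b hb
      show ((r : AddMonoid.End A) * φ d) a = 0
      rw [hR]
      show φ d ((r : AddMonoid.End A) a) = 0
      rw [hra, map_zero]
  have hev : Function.Bijective ev := by
    refine ⟨(injective_iff_map_eq_zero ev).2 fun r hr => hker r t0 ht0 hr, fun a => ?_⟩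
    rcases eq_or_ne a 0 with rfl | ha
    · exact ⟨0, rfl⟩
    · obtain ⟨d, hd⟩ := htrans t0 ht0 a ha
      exact ⟨⟨φ d, Subring.subset_closure ⟨d, rfl⟩⟩, hd⟩
  haveI : Finite R := Finite.of_injective ev hev.1
  haveI : Nontrivial R := ⟨⟨1, 0, fun h => ht0 (show (1 : AddMonoid.End A) t0 = (0 : AddMonoid.End A) t0 by
    rw [show ((1 : AddMonoid.End A) = (0 : AddMonoid.End A)) from congrArg Subtype.val h])⟩⟩
  haveI : NoZeroDivisors R := ⟨fun {r s} h => by
    by_contra hc
    push Not at hc
    have h' : (r : AddMonoid.End A) ((s : AddMonoid.End A) t0) = 0 :=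
      congrArg (fun x : R => (x : AddMonoid.End A) t0) h
    exact hc.1 (hker r _ (fun h0 => hc.2 (hker s t0 ht0 h0)) h')⟩
  haveI : IsDomain R := NoZeroDivisors.to_isDomain R
  haveI : Fintype R := Fintype.ofFinite R
  letI : Field R := Fintype.fieldOfDomain R
  haveI : CharP R 2 := CharTwo.of_one_ne_zero_of_two_eq_zero one_ne_zero (hev.1 (by
    rw [map_zero, show (2 : R) = 1 + 1 by norm_num, map_add]
    exact h2 _))
  obtain ⟨n, -, hn⟩ := FiniteField.card R 2
  haveI : Fact (Nat.Prime 2) := ⟨Nat.prime_two⟩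
  let F := GaloisField 2 n
  haveI : Fintype F := Fintype.ofFinite F
  have hF : Fintype.card R = Fintype.card F := by
    rw [hn, ← Nat.card_eq_fintype_card (α := F), GaloisField.card 2 n n.pos.ne']
  let e : R ≃+* F := FiniteField.ringEquivOfCardEq hF
  let χ : A ≃+ F := (AddEquiv.ofBijective ev hev).symm.trans e.toAddEquiv
  have hχ : ∀ r : R, χ (ev r) = e r := fun r => by
    show e ((AddEquiv.ofBijective ev hev).symm (ev r)) = e r
    congr 1
    exact (AddEquiv.ofBijective ev hev).symm_apply_apply r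
  refine ⟨F, inferInstance, inferInstance, inferInstance, ?_, χ, fun d => e ⟨φ d, Subring.subset_closure ⟨d, rfl⟩⟩, ?_, ?_⟩
  · rw [← hF, ← Nat.card_eq_fintype_card, Nat.card_eq_of_bijective ev hev]
  · rw [← map_one e, ← hχ]; rfl
  · intro d a
    obtain ⟨r, rfl⟩ := hev.2 a
    rw [hχ, show φ d (ev r) = ev (⟨φ d, Subring.subset_closure ⟨d, rfl⟩⟩ * r) from rfl, hχ, map_mul]

end Cfsg.Lib.ElemCent
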