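import Cfsg.Agent.Chars.Sums
import Cfsg.Agent.Chars.Count
import Cfsg.Agent.Chars.Construct
import Cfsg.Agent.S0944
import Cfsg.Agent.Transfer.ThompsonTransfer
import Cfsg.Agent.S0497
import Cfsg.Agent.S0495

/-!
A group without subgroups of index two in which the centraliser of a central involution is dihedral of order
eight: it is `A₆` or `PSL(2,7)`.
-/

set_option autoImplicit false
set_option linter.unusedSectionVars false

namespace Cfsg.Lib.DihedralCent

open Subgroup Cfsg.Lib.Chars
open scoped ComplexConjugate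

universe u

variable {G : Type u} [Group G] [Finite G]

/-- The data. -/
structure Setup (z r u : G) : Prop where
  two : ∀ H : Subgroup G, H.index ≠ 2
  hz : orderOf z = 2
  hC : Nat.card (centralizer ({z} : Set G)) = 8
  syl : ∃ S : Sylow 2 G, (S : Subgroup G) = centralizer ({z} : Set G)
  hrz : r * r = z
  hu : orderOf u = 2
  huz : u * z = z * u
  hur : u * r * u = r⁻¹

variable {z r u : G}

theorem zz (h : Setup z r u) : z * z = 1 := by
  have := pow_orderOf_eq_one z
  rwa [h.hz, pow_two] at this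

theorem uu (h : Setup z r u) : u * u = 1 := by
  have := pow_orderOf_eq_one u
  rwa [h.hu, pow_two] at this

theorem z_ne (h : Setup z r u) : z ≠ 1 := fun e => by
  have := h.hz
  rw [e, orderOf_one] at this
  omega

theorem r_four (h : Setup z r u) : orderOf r = 4 := by
  have : Fact (Nat.Prime 2) := ⟨Nat.prime_two⟩
  refine orderOf_eq_prime_pow (p := 2) (n := 1) ?_ ?_
  · rw [pow_one, pow_two, h.hrz]; exact z_ne h
  · rw [show (2 : ℕ) ^ (1 + 1) = 2 * 2 from rfl, pow_mul, pow_two, pow_two, h.hrz, zz h]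

theorem r_mem (h : Setup z r u) : r ∈ centralizer ({z} : Set G) :=
  mem_centralizer_singleton_iff.2 (by rw [← h.hrz]; group)

theorem u_mem (h : Setup z r u) : u ∈ centralizer ({z} : Set G) := mem_centralizer_singleton_iff.2 h.huz

theorem u_notMem_zpowers (h : Setup z r u) : u ∉ zpowers r := by
  intro hu
  obtain ⟨k, hk⟩ := hu
  have hc : u * r = r * u := by rw [← hk]; exact ((Commute.refl r).zpow_left k).eq
  have h1 := h.hur
  rw [hc, mul_assoc, uu h, mul_one] at h1
  have h2 : z = 1 := by rw [← h.hrz]; exact eq_inv_iff_mul_eq_one.1 h1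
  exact z_ne h h2

theorem zr_sq (h : Setup z r u) : z * r * (z * r) = z := by
  calc z * r * (z * r) = z * z * z := by rw [← h.hrz]; group
    _ = z := by rw [zz h, one_mul]

theorem zpowers_cases (h : Setup z r u) {g : G} (hg : g ∈ zpowers r) :
    g = 1 ∨ g = r ∨ g = z ∨ g = z * r := by
  classical
  rw [mem_zpowers_iff_mem_range_orderOf, r_four h] at hg
  simp only [Finset.mem_image, Finset.mem_range] at hg
  obtain ⟨i, hi, rfl⟩ := hg
  interval_cases i
  · exact Or.inl (pow_zero r)
  · exact Or.inr (Or.inl (pow_one r))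
  · exact Or.inr (Or.inr (Or.inl (by rw [pow_two, h.hrz])))
  · exact Or.inr (Or.inr (Or.inr (by rw [pow_succ, pow_two, h.hrz])))

theorem mem_cases (h : Setup z r u) {g : G} (hg : g ∈ centralizer ({z} : Set G)) :
    g ∈ zpowers r ∨ u * g ∈ zpowers r := by
  have hle : zpowers r ≤ centralizer ({z} : Set G) := zpowers_le.2 (r_mem h)
  have hi : ((zpowers r).subgroupOf (centralizer ({z} : Set G))).index = 2 := by
    have h1 := ((zpowers r).subgroupOf (centralizer ({z} : Set G))).card_mul_index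
    rw [Nat.card_congr (subgroupOfEquivOfLe hle).toEquiv, Nat.card_zpowers, r_four h, h.hC] at h1
    omega
  by_contra! hcon
  have h2 := (mul_mem_iff_of_index_two hi (a := ⟨u, u_mem h⟩) (b := ⟨g, hg⟩))
  simp only [mem_subgroupOf] at h2
  exact hcon.2 (h2.2 (iff_of_false (u_notMem_zpowers h) hcon.1))

theorem outside_sq (h : Setup z r u) {g : G} (hg : g ∈ centralizer ({z} : Set G)) (hgr : g ∉ zpowers r) :
    g * g = 1 ∧ g ≠ 1 ∧ g * r * g⁻¹ = r⁻¹ := by
  have hne : g ≠ 1 := fun e => hgr (e ▸ one_mem _)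
  obtain ⟨k, hk⟩ := (mem_cases h hg).resolve_left hgr
  have hgk : g = u * r ^ k := by
    rw [show (r ^ k : G) = u * g from hk, ← mul_assoc, uu h, one_mul]
  have hconj : u * r ^ k * u⁻¹ = (r ^ k)⁻¹ := by
    rw [← conj_zpow, inv_eq_of_mul_eq_one_right (uu h), h.hur, inv_zpow]
  refine ⟨?_, hne, ?_⟩
  · rw [hgk]
    calc u * r ^ k * (u * r ^ k) = u * r ^ k * u⁻¹ * r ^ k := by
          rw [inv_eq_of_mul_eq_one_right (uu h)]; group
      _ = 1 := by rw [hconj, inv_mul_cancel]
  · rw [hgk]
    calc u * r ^ k * r * (u * r ^ k)⁻¹ = u * r * u⁻¹ := by group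
      _ = r⁻¹ := by rw [inv_eq_of_mul_eq_one_right (uu h), h.hur]

theorem noncentral_conj (h : Setup z r u) {g : G} (hg : g ∈ centralizer ({z} : Set G)) (hgr : g ∉ zpowers r) :
    IsConj z g := by
  classical
  have : Fact (Nat.Prime 2) := ⟨Nat.prime_two⟩
  obtain ⟨S, hS⟩ := h.syl
  have hle : zpowers r ≤ centralizer ({z} : Set G) := zpowers_le.2 (r_mem h)
  obtain ⟨hg2, hg1, -⟩ := outside_sq h hg hgr
  have hgo : orderOf g = 2 := orderOf_eq_prime (by rw [pow_two, hg2]) hg1
  by_contra hnc
  have hQ : (zpowers r).index = 2 * (S : Subgroup G).index := by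
    have h1 := (zpowers r).card_mul_index
    have h2 := (S : Subgroup G).card_mul_index
    rw [Nat.card_zpowers, r_four h] at h1
    rw [hS, h.hC] at h2
    rw [hS]
    omega
  obtain ⟨M, -, hM, -⟩ := Cfsg.Lib.Transfer.exists_index_two_not_mem (zpowers r)
    (Nat.odd_iff.2 (Nat.two_dvd_ne_zero.1 S.not_dvd_index)) hQ hgo (fun a ha => by
      have ho : orderOf (a⁻¹ * g * a) = 2 := by
        rw [show a⁻¹ * g * a = MulAut.conj a⁻¹ g by simp, MulEquiv.orderOf_eq, hgo]
      have he : a⁻¹ * g * a = z := by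
        rcases zpowers_cases h ha with e | e | e | e
        · rw [e, orderOf_one] at ho; omega
        · rw [e, r_four h] at ho; omega
        · exact e
        · exfalso
          have : orderOf (z * r) ∣ 2 := dvd_of_eq (e ▸ ho)
          rw [orderOf_dvd_iff_pow_eq_one, pow_two] at this
          refine z_ne h ?_
          rwa [zr_sq h] at this
      exact hnc (isConj_iff.2 ⟨a, by rw [← he]; group⟩))
  exact h.two M hM

theorem inv_conj (h : Setup z r u) {g : G} (hg : orderOf g = 2) : IsConj z g := by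
  classical
  have : Fact (Nat.Prime 2) := ⟨Nat.prime_two⟩
  obtain ⟨S, hS⟩ := h.syl
  obtain ⟨R, hR⟩ := (IsPGroup.of_card (n := 1) (show Nat.card (zpowers g) = 2 ^ 1 by
    rw [Nat.card_zpowers, hg, pow_one])).exists_le_sylow
  obtain ⟨a, ha⟩ := MulAction.exists_smul_eq G R S
  have hm : a * g * a⁻¹ ∈ centralizer ({z} : Set G) := by
    rw [← hS, ← ha, Sylow.coe_subgroup_smul]
    exact ⟨g, hR (mem_zpowers g), rfl⟩
  have hc : IsConj g (a * g * a⁻¹) := isConj_iff.2 ⟨a, rfl⟩
  have ho : orderOf (a * g * a⁻¹) = 2 := by rw [show a * g * a⁻¹ = MulAut.conj a g from rfl, MulEquiv.orderOf_eq, hg]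
  by_cases hr : a * g * a⁻¹ ∈ zpowers r
  · have he : a * g * a⁻¹ = z := by
      rcases zpowers_cases h hr with e | e | e | e
      · rw [e, orderOf_one] at ho; omega
      · rw [e, r_four h] at ho; omega
      · exact e
      · exfalso
        have : orderOf (z * r) ∣ 2 := dvd_of_eq (e ▸ ho)
        rw [orderOf_dvd_iff_pow_eq_one, pow_two] at this
        refine z_ne h ?_
        rwa [zr_sq h] at this
    rw [he] at hc
    exact hc.symm
  · exact (noncentral_conj h hm hr).trans hc.symm

theorem cent_r (h : Setup z r u) : centralizer ({r} : Set G) = zpowers r := by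
  refine le_antisymm (fun g hg => ?_) (zpowers_le.2 (mem_centralizer_singleton_iff.2 rfl))
  have hc : Commute g r := mem_centralizer_singleton_iff.1 hg
  have hgz : g ∈ centralizer ({z} : Set G) := mem_centralizer_singleton_iff.2 (by rw [← h.hrz]; exact (hc.mul_right hc).eq)
  by_contra hgr
  have h1 := (outside_sq h hgz hgr).2.2
  rw [hc.eq, mul_inv_cancel_right] at h1
  refine z_ne h ?_
  rw [← h.hrz]
  exact eq_inv_iff_mul_eq_one.1 h1

theorem inverts_r_iff (h : Setup z r u) (g : G) : g * r * g⁻¹ = r⁻¹ ↔ (g ∈ centralizer ({z} : Set G) ∧ g ∉ zpowers r) := by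
  constructor
  · intro hg
    refine ⟨mem_centralizer_singleton_iff.2 ?_, fun hgr => ?_⟩
    · have : g * (r * r) * g⁻¹ = r * r := by
        calc g * (r * r) * g⁻¹ = (g * r * g⁻¹) * (g * r * g⁻¹) := by group
          _ = (r * r)⁻¹ := by rw [hg]; group
          _ = r * r := by rw [h.hrz]; exact inv_eq_of_mul_eq_one_right (zz h)
      rw [h.hrz] at this
      exact mul_inv_eq_iff_eq_mul.1 this
    · obtain ⟨k, rfl⟩ := hgr
      rw [show r ^ k * r * (r ^ k)⁻¹ = r by group] at hg
      refine z_ne h ?_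
      rw [← h.hrz]
      exact eq_inv_iff_mul_eq_one.1 hg
  · exact fun hg => (outside_sq h hg.1 hg.2).2.2

theorem card_outside (h : Setup z r u) :
    Nat.card {g : G // g ∈ centralizer ({z} : Set G) ∧ g ∉ zpowers r} = 4 := by
  rw [← r_four h, ← Nat.card_zpowers]
  refine Nat.card_congr
    { toFun := fun g => ⟨u * g.1, (mem_cases h g.2.1).resolve_left g.2.2⟩
      invFun := fun k => ⟨u * k.1, mul_mem (u_mem h) (zpowers_le.2 (r_mem h) k.2), fun hm => u_notMem_zpowers h
        (by simpa using mul_mem hm (inv_mem k.2))⟩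
      left_inv := fun g => Subtype.ext (by show u * (u * g.1) = g.1; rw [← mul_assoc, uu h, one_mul])
      right_inv := fun k => Subtype.ext (by show u * (u * k.1) = k.1; rw [← mul_assoc, uu h, one_mul]) }

theorem pair_card (h : Setup z r u) (c : G) (hc : ∀ g : G, (orderOf g = 2 ∧ orderOf (g * c) = 2) ↔
    (g ∈ centralizer ({z} : Set G) ∧ g ∉ zpowers r)) :
    Nat.card {p : G × G // IsConj z p.1 ∧ IsConj z p.2 ∧ p.1 * p.2 = c} = 4 := by
  rw [← card_outside h]
  have hord : ∀ g, IsConj z g → orderOf g = 2 := fun g hg => by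
    obtain ⟨a, rfl⟩ := isConj_iff.1 hg
    rw [show a * z * a⁻¹ = MulAut.conj a z from rfl, MulEquiv.orderOf_eq, h.hz]
  have hsq : ∀ g : G, orderOf g = 2 → g * g = 1 := fun g hg => by
    have := pow_orderOf_eq_one g
    rwa [hg, pow_two] at this
  refine Nat.card_congr
    { toFun := fun p => ⟨p.1.1, (hc _).1 ⟨hord _ p.2.1, by
        rw [show p.1.1 * c = p.1.2 from (congrArg (p.1.1 * ·) p.2.2.2.symm).trans (by simp [← mul_assoc, hsq _ (hord _ p.2.1)])]
        exact hord _ p.2.2.1⟩⟩
      invFun := fun g => ⟨(g.1, g.1 * c), inv_conj h ((hc _).2 g.2).1, inv_conj h ((hc _).2 g.2).2, by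
        show g.1 * (g.1 * c) = c
        rw [← mul_assoc, hsq _ ((hc _).2 g.2).1, one_mul]⟩
      left_inv := fun p => Subtype.ext (Prod.ext rfl (by
        show p.1.1 * c = p.1.2
        exact (congrArg (p.1.1 * ·) p.2.2.2.symm).trans (by simp [← mul_assoc, hsq _ (hord _ p.2.1)])))
      right_inv := fun g => rfl }

theorem pair_z (h : Setup z r u) : Nat.card {p : G × G // IsConj z p.1 ∧ IsConj z p.2 ∧ p.1 * p.2 = z} = 4 := by
  refine pair_card h z fun g => ⟨fun ⟨h1, h2⟩ => ?_, fun ⟨h1, h2⟩ => ?_⟩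
  · have e1 := pow_orderOf_eq_one g
    have e2 := pow_orderOf_eq_one (g * z)
    rw [h1, pow_two] at e1
    rw [h2, pow_two] at e2
    have hcomm : g * z = z * g := by
      calc g * z = (g * z)⁻¹ := eq_inv_of_mul_eq_one_left e2
        _ = z * g := by rw [mul_inv_rev, inv_eq_of_mul_eq_one_right e1, inv_eq_of_mul_eq_one_right (zz h)]
    refine ⟨mem_centralizer_singleton_iff.2 hcomm, fun hm => ?_⟩
    rcases zpowers_cases h hm with e | e | e | e
    · rw [e, orderOf_one] at h1; omega
    · rw [e, r_four h] at h1; omega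
    · rw [e, zz h, orderOf_one] at h2; omega
    · rw [e] at h2
      have hzr : z * r * z = r := by rw [← h.hrz]; calc r * r * r * (r * r) = r * ((r * r) * (r * r)) := by group
          _ = r := by rw [h.hrz, zz h, mul_one]
      rw [hzr, r_four h] at h2
      omega
  · obtain ⟨s1, s2, -⟩ := outside_sq h h1 h2
    have h3 : g * z ∉ zpowers r := fun hm => h2 (by
      have hz' : z ∈ zpowers r := h.hrz ▸ mul_mem (mem_zpowers r) (mem_zpowers r)
      simpa using mul_mem hm (inv_mem hz'))
    have h4 : g * z ∈ centralizer ({z} : Set G) := mul_mem h1 (mem_centralizer_singleton_iff.2 rfl)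
    obtain ⟨t1, t2, -⟩ := outside_sq h h4 h3
    exact ⟨orderOf_eq_prime (by rw [pow_two, s1]) s2, orderOf_eq_prime (by rw [pow_two, t1]) t2⟩

theorem pair_r (h : Setup z r u) : Nat.card {p : G × G // IsConj z p.1 ∧ IsConj z p.2 ∧ p.1 * p.2 = r} = 4 := by
  refine pair_card h r fun g => ⟨fun ⟨h1, h2⟩ => ?_, fun ⟨h1, h2⟩ => ?_⟩
  · have e1 := pow_orderOf_eq_one g
    have e2 := pow_orderOf_eq_one (g * r)
    rw [h1, pow_two] at e1
    rw [h2, pow_two] at e2
    refine (inverts_r_iff h g).1 ?_
    rw [inv_eq_of_mul_eq_one_right e1]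
    exact eq_inv_of_mul_eq_one_left (by rw [← e2]; group)
  · obtain ⟨s1, s2, -⟩ := outside_sq h h1 h2
    have h3 : g * r ∉ zpowers r := fun hm => h2 (by simpa using mul_mem hm (inv_mem (mem_zpowers r)))
    obtain ⟨t1, t2, -⟩ := outside_sq h (mul_mem h1 (r_mem h)) h3
    exact ⟨orderOf_eq_prime (by rw [pow_two, s1]) s2, orderOf_eq_prime (by rw [pow_two, t1]) t2⟩

theorem sum_subgroup_dvd [Fintype G] {χ : IrrCharacter G} (H : Subgroup G) (T : Finset G) (hT : ∀ t ∈ T, t ∈ H)
    (hc : T.card = Nat.card H) : ∃ m : ℤ, ∑ t ∈ T, (χ : G → ℂ) t = (Nat.card H : ℂ) * (m : ℂ) := by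
  classical
  letI := Fintype.ofFinite H
  obtain ⟨m, hm⟩ := IsCharacter.exists_mult (IsCharacter.restrict (isCharacter_of_irr χ.2) H)
    (isIrrCharacter_one (G := H))
  rw [classInner_def, inv_mul_eq_iff_eq_mul₀ (Nat.cast_ne_zero.2 Nat.card_pos.ne')] at hm
  refine ⟨m, ?_⟩
  have hTH : T = Finset.univ.map ⟨(Subtype.val : H → G), Subtype.val_injective⟩ := by
    refine Finset.eq_of_subset_of_card_le (fun t ht => Finset.mem_map.2 ⟨⟨t, hT t ht⟩, Finset.mem_univ _, rfl⟩) ?_
    rw [Finset.card_map, Finset.card_univ, hc, Nat.card_eq_fintype_card]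
  rw [hTH, Finset.sum_map]
  push_cast
  rw [← hm]
  exact Finset.sum_congr rfl fun w _ => by simp

/-- integral values and congruences -/
theorem values [Fintype G] (h : Setup z r u) (χ : IrrCharacter G) :
    ∃ a b : ℤ, (χ : G → ℂ) z = a ∧ (χ : G → ℂ) r = b ∧
      (4 : ℤ) ∣ (deg (χ : G → ℂ) : ℤ) + a + 2 * b ∧ (8 : ℤ) ∣ (deg (χ : G → ℂ) : ℤ) + 5 * a + 2 * b ∧
      (4 : ℤ) ∣ (deg (χ : G → ℂ) : ℤ) + 3 * a := by
  classical
  have hcl := isClassFunction_isChar (isCharacter_of_irr χ.2)
  obtain ⟨a, ha, hpar⟩ := Cfsg.Agent.S0944.result χ z h.hz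
  change (2 : ℤ) ∣ (deg (χ : G → ℂ) : ℤ) - a at hpar
  have hconj : ∀ g t : G, IsConj g t → (χ : G → ℂ) t = (χ : G → ℂ) g := fun g t hgt => by
    obtain ⟨c, rfl⟩ := isConj_iff.1 hgt
    exact hcl g c
  have hu := u_notMem_zpowers h
  have hzr : z * r ∈ zpowers r := mul_mem (h.hrz ▸ mul_mem (mem_zpowers r) (mem_zpowers r)) (mem_zpowers r)
  have hzm : z ∈ zpowers r := h.hrz ▸ mul_mem (mem_zpowers r) (mem_zpowers r)
  have hout : ∀ k ∈ zpowers r, (χ : G → ℂ) (u * k) = a := fun k hk => by
    refine (hconj _ _ (noncentral_conj h (mul_mem (u_mem h) (zpowers_le.2 (r_mem h) hk)) fun hm => hu ?_)).trans ha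
    simpa using mul_mem hm (inv_mem hk)
  have hu' : (χ : G → ℂ) u = a := by simpa using hout 1 (one_mem _)
  have hrinv : (χ : G → ℂ) (z * r) = (χ : G → ℂ) r := by
    refine hconj _ _ (isConj_iff.2 ⟨u, ?_⟩)
    rw [inv_eq_of_mul_eq_one_right (uu h), h.hur]
    refine inv_eq_of_mul_eq_one_right ?_
    calc r * (z * r) = (r * r) * (r * r) := by rw [← h.hrz]; group
      _ = 1 := by rw [h.hrz, zz h]
  have hz1 := z_ne h
  have hr4 := r_four h
  have hr1 : r ≠ 1 := fun e => by rw [e, orderOf_one] at hr4; omega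
  have hrz' : r ≠ z := fun e => by rw [e, h.hz] at hr4; omega
  have hzr1 : z * r ≠ 1 := fun e => hrz' ((eq_inv_of_mul_eq_one_right e).trans (inv_eq_of_mul_eq_one_right (zz h)))
  have hzrr : z * r ≠ r := fun e => hz1 (mul_eq_right.1 e)
  have hzrz : z * r ≠ z := fun e => hr1 (mul_eq_left.1 e)
  have c4 : ({1, r, z, z * r} : Finset G).card = 4 :=
    Finset.card_eq_four.2 ⟨1, r, z, z * r, hr1.symm, hz1.symm, hzr1.symm, hrz', hzrr.symm, hzrz.symm, rfl⟩
  obtain ⟨m1, h1⟩ := sum_subgroup_dvd (χ := χ) (zpowers r) {1, r, z, z * r} (fun t ht => by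
    simp only [Finset.mem_insert, Finset.mem_singleton] at ht
    rcases ht with rfl | rfl | rfl | rfl
    exacts [one_mem _, mem_zpowers _, hzm, hzr]) (by rw [c4, Nat.card_zpowers, hr4])
  obtain ⟨m2, h2⟩ := sum_subgroup_dvd (χ := χ) (centralizer ({z} : Set G))
    ({1, r, z, z * r} ∪ ({1, r, z, z * r} : Finset G).image (u * ·)) (fun t ht => by
      simp only [Finset.mem_union, Finset.mem_image, Finset.mem_insert, Finset.mem_singleton] at ht
      have hle : zpowers r ≤ centralizer ({z} : Set G) := zpowers_le.2 (r_mem h)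
      rcases ht with (rfl | rfl | rfl | rfl) | ⟨k, (rfl | rfl | rfl | rfl), rfl⟩
      exacts [one_mem _, r_mem h, hle hzm, hle hzr, mul_mem (u_mem h) (one_mem _), mul_mem (u_mem h) (r_mem h),
        mul_mem (u_mem h) (hle hzm), mul_mem (u_mem h) (hle hzr)]) (by
      rw [Finset.card_union_of_disjoint, Finset.card_image_of_injective _ (mul_right_injective u), c4, h.hC]
      rw [Finset.disjoint_left]
      intro t ht ht'
      obtain ⟨k, hk, rfl⟩ := Finset.mem_image.1 ht'
      simp only [Finset.mem_insert, Finset.mem_singleton] at ht hk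
      have hk' : k ∈ zpowers r := by
        rcases hk with rfl | rfl | rfl | rfl
        exacts [one_mem _, mem_zpowers _, hzm, hzr]
      have ht'' : u * k ∈ zpowers r := by
        rcases ht with e | e | e | e <;> rw [e]
        exacts [one_mem _, mem_zpowers _, hzm, hzr]
      exact hu (by simpa using mul_mem ht'' (inv_mem hk')))
  let V : Subgroup G :=
    { carrier := {g | g = 1 ∨ g = z ∨ g = u ∨ g = u * z}
      one_mem' := Or.inl rfl
      mul_mem' := by
        intro p q hp hq
        have e1 := zz h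
        have e2 := uu h
        have e3 : z * u = u * z := h.huz.symm
        have e4 : ∀ w, z * (z * w) = w := fun w => by rw [← mul_assoc, e1, one_mul]
        have e5 : ∀ w, u * (u * w) = w := fun w => by rw [← mul_assoc, e2, one_mul]
        have e6 : ∀ w, z * (u * w) = u * (z * w) := fun w => by rw [← mul_assoc, e3, mul_assoc]
        rcases hp with rfl | rfl | rfl | rfl <;> rcases hq with rfl | rfl | rfl | rfl <;>
          simp [mul_assoc, e1, e2, e3, e4, e5, e6]
      inv_mem' := by
        intro p hp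
        rcases hp with rfl | rfl | rfl | rfl
        · exact Or.inl inv_one
        · exact Or.inr (Or.inl (inv_eq_of_mul_eq_one_right (zz h)))
        · exact Or.inr (Or.inr (Or.inl (inv_eq_of_mul_eq_one_right (uu h))))
        · refine Or.inr (Or.inr (Or.inr ?_))
          rw [mul_inv_rev, inv_eq_of_mul_eq_one_right (zz h), inv_eq_of_mul_eq_one_right (uu h), h.huz] }
  have huz : u ≠ z := fun e => hu (e ▸ hzm)
  have hu1 : u ≠ 1 := fun e => hu (e ▸ one_mem _)
  have cV : ({1, z, u, u * z} : Finset G).card = 4 :=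
    Finset.card_eq_four.2 ⟨1, z, u, u * z, hz1.symm, hu1.symm,
      (fun e => hu (by rw [eq_inv_of_mul_eq_one_left e.symm]; exact inv_mem hzm)), huz.symm,
      (fun e => hu1 (mul_eq_right.1 e.symm)), (fun e => hz1 (mul_eq_left.1 e.symm)), rfl⟩
  have hV4 : Nat.card V = 4 := by
    rw [← cV, ← Nat.card_eq_finsetCard]
    exact Nat.card_congr (Equiv.subtypeEquivRight fun g => by
      show (g = 1 ∨ g = z ∨ g = u ∨ g = u * z) ↔ g ∈ ({1, z, u, u * z} : Finset G)
      simp)
  obtain ⟨m3, h3⟩ := sum_subgroup_dvd (χ := χ) V {1, z, u, u * z} (fun t ht => by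
    show t = 1 ∨ t = z ∨ t = u ∨ t = u * z
    simpa using ht) (by rw [cV, hV4])
  have d0 : (χ : G → ℂ) 1 = (deg (χ : G → ℂ) : ℂ) := irr_apply_one_eq_deg χ
  rw [Finset.sum_insert (by simp [hr1.symm, hz1.symm, hzr1.symm]),
    Finset.sum_insert (by simp [hrz', hzrr.symm]), Finset.sum_pair hzrz.symm, Nat.card_zpowers, hr4, ha, hrinv, d0] at h1
  rw [Finset.sum_union (by
      rw [Finset.disjoint_left]
      intro t ht ht'
      obtain ⟨k, hk, rfl⟩ := Finset.mem_image.1 ht'
      simp only [Finset.mem_insert, Finset.mem_singleton] at ht hk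
      have hk' : k ∈ zpowers r := by
        rcases hk with rfl | rfl | rfl | rfl
        exacts [one_mem _, mem_zpowers _, hzm, hzr]
      have ht'' : u * k ∈ zpowers r := by
        rcases ht with e | e | e | e <;> rw [e]
        exacts [one_mem _, mem_zpowers _, hzm, hzr]
      exact hu (by simpa using mul_mem ht'' (inv_mem hk'))),
    Finset.sum_image (fun p _ q _ e => mul_left_cancel e), h.hC,
    Finset.sum_insert (by simp [hr1.symm, hz1.symm, hzr1.symm]),
    Finset.sum_insert (by simp [hrz', hzrr.symm]), Finset.sum_pair hzrz.symm,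
    Finset.sum_insert (by simp [hr1.symm, hz1.symm, hzr1.symm]),
    Finset.sum_insert (by simp [hrz', hzrr.symm]), Finset.sum_pair hzrz.symm,
    hout 1 (one_mem _), hout r (mem_zpowers r), hout z hzm, hout _ hzr, ha, hrinv, d0] at h2
  rw [Finset.sum_insert (by
      intro hm
      have := cV
      rw [Finset.insert_eq_of_mem hm] at this
      have h' : ({z, u, u * z} : Finset G).card ≤ 3 := Finset.card_le_three
      omega),
    Finset.sum_insert (by simp [huz.symm, show z ≠ u * z from fun e => hu1 (mul_eq_right.1 e.symm)]),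
    Finset.sum_pair (fun e => hz1 (mul_eq_left.1 e.symm)), hV4, ha, hu', hout z hzm, d0] at h3
  obtain ⟨t, ht⟩ : (2 : ℤ) ∣ 8 * m2 - (deg (χ : G → ℂ) : ℤ) - 5 * a := by omega
  have hb : (χ : G → ℂ) r = ((t : ℤ) : ℂ) := by
    have htC : ((8 * m2 - (deg (χ : G → ℂ) : ℤ) - 5 * a : ℤ) : ℂ) = ((2 * t : ℤ) : ℂ) := by rw [ht]
    push_cast at htC h2
    linear_combination h2 / 2 + htC / 2
  rw [hb] at h1
  refine ⟨a, t, ha, hb, ⟨m1, ?_⟩, ⟨m2, by omega⟩, ⟨m3, ?_⟩⟩
  · apply Int.cast_injective (α := ℂ)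
    push_cast at h1 ⊢
    linear_combination h1
  · apply Int.cast_injective (α := ℂ)
    push_cast at h3 ⊢
    linear_combination h3

theorem arith {a a' c s : ℤ} {x y w v g : ℤ} (ha : a = 1 ∨ a = -1) (ha' : a' = 1 ∨ a' = -1) (hc : c = 1 ∨ c = -1)
    (hs : s = 1 ∨ s = -1) (hx : 1 ≤ x) (hy : 1 ≤ y) (hw : 1 ≤ w) (hv : 1 ≤ v) (hg : 0 < g)
    (hbd : 1 + c * w - a * x - a' * y = 0) (had : 1 + c * w + a * x + a' * y + 2 * s * v = 0)
    (hdiff : a * y * v + a' * x * v + 4 * s * x * y = 0)
    (hcount : g * (w * x * y + c * x * y - a * w * y - a' * w * x) = 256 * (w * x * y))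
    (hmod : (8 : ℤ) ∣ x + a + 2 * (-a) - 4 * (-a) ∨ (8 : ℤ) ∣ x + 5 * a + 2 * (-a)) (hmod' : (8 : ℤ) ∣ x + 5 * a + 2 * (-a))
    (hwmod : (8 : ℤ) ∣ w + 7 * c) :
    g = 168 ∨ g = 360 := by
  have hsum : a * x + a' * y = -(s * v) := by linarith
  have heq : a = a' := by
    rcases ha with rfl | rfl <;> rcases ha' with rfl | rfl <;> try rfl
    all_goals exfalso; rcases hs with rfl | rfl
    all_goals nlinarith [mul_pos (show (0 : ℤ) < x by omega) (show (0 : ℤ) < y by omega), mul_self_nonneg v]
  subst heq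
  have hxy : x = y := by
    have h1 : (x + y) * v = 4 * (x * y) := by
      rcases ha with rfl | rfl <;> rcases hs with rfl | rfl <;> nlinarith
    have h2 : v = x + y := by
      rcases ha with rfl | rfl <;> rcases hs with rfl | rfl <;> omega
    subst h2
    have : (x - y) * (x - y) = 0 := by linarith
    exact sub_eq_zero.1 (mul_self_eq_zero.1 this)
  subst hxy
  rcases ha with rfl | rfl
  · have hc1 : c = 1 := by rcases hc with rfl | rfl <;> omega
    subst hc1
    have hwv : w = 2 * x - 1 := by omega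
    subst hwv
    have h5 : 5 ≤ x := by omega
    have key : g * (x - 1) ^ 2 = 128 * (x * (2 * x - 1)) := by
      have : x * (g * (2 * (x - 1) ^ 2)) = x * (256 * (x * (2 * x - 1))) := by linarith
      have := mul_left_cancel₀ (show x ≠ 0 by omega) this
      linarith
    have hdvd : (x - 1) ^ 2 ∣ 128 := by
      have h1 : (x - 1) ^ 2 ∣ 128 * (x * (2 * x - 1)) := ⟨g, by rw [← key]; ring⟩
      have hcop : IsCoprime ((x - 1) ^ 2) (x * (2 * x - 1)) := by
        refine IsCoprime.pow_left (IsCoprime.mul_right ⟨-1, 1, by ring⟩ ⟨-2, 1, by ring⟩)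
      exact hcop.dvd_of_dvd_mul_right h1
    have hle := Int.le_of_dvd (by norm_num) hdvd
    have hx12 : x ≤ 12 := by nlinarith
    have hx5 : x = 5 := by omega
    subst hx5
    right; omega
  · have hc1 : c = -1 := by rcases hc with rfl | rfl <;> omega
    subst hc1
    have hwv : w = 2 * x + 1 := by omega
    subst hwv
    have key : g * (x + 1) ^ 2 = 128 * (x * (2 * x + 1)) := by
      have : x * (g * (2 * (x + 1) ^ 2)) = x * (256 * (x * (2 * x + 1))) := by linarith
      have := mul_left_cancel₀ (show x ≠ 0 by omega) this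
      linarith
    have hdvd : (x + 1) ^ 2 ∣ 128 := by
      have h1 : (x + 1) ^ 2 ∣ 128 * (x * (2 * x + 1)) := ⟨g, by rw [← key]; ring⟩
      have hcop : IsCoprime ((x + 1) ^ 2) (x * (2 * x + 1)) := by
        refine IsCoprime.pow_left (IsCoprime.mul_right ⟨1, -1, by ring⟩ ⟨2, -1, by ring⟩)
      exact hcop.dvd_of_dvd_mul_right h1
    have hle := Int.le_of_dvd (by norm_num) hdvd
    have hx10 : x ≤ 10 := by nlinarith
    have hx3 : x = 3 := by omega
    subst hx3
    left; omega

set_option maxHeartbeats 4000000 in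
theorem order_cases (h : Setup z r u) : Nat.card G = 168 ∨ Nat.card G = 360 := by
  classical
  letI := Fintype.ofFinite G
  choose A B hA hB h4 h8 h4' using values (G := G) h
  have hord1 : ¬ IsConj (1 : G) z := fun hc => z_ne h (isConj_one_right.1 hc)
  have hr4 := r_four h
  have hord2 : ¬ IsConj (1 : G) r := fun hc => by
    rw [isConj_one_right.1 hc, orderOf_one] at hr4; omega
  have hord3 : ¬ IsConj z r := fun hc => by
    obtain ⟨a, ha⟩ := isConj_iff.1 hc
    rw [← ha, show a * z * a⁻¹ = MulAut.conj a z from rfl, MulEquiv.orderOf_eq, h.hz] at hr4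
    omega
  have e1 : ∑ χ, A χ * A χ = 8 := by
    have := second_orthogonality z z
    rw [if_pos (IsConj.refl z), h.hC] at this
    apply Int.cast_injective (α := ℂ)
    push_cast
    rw [← show ((8 : ℕ) : ℂ) = 8 by norm_num, ← this]
    exact Finset.sum_congr rfl fun χ _ => by rw [hA, map_intCast]
  have e2 : ∑ χ, B χ * B χ = 4 := by
    have := second_orthogonality r r
    rw [if_pos (IsConj.refl r), cent_r h, Nat.card_zpowers, hr4] at this
    apply Int.cast_injective (α := ℂ)
    push_cast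
    rw [← show ((4 : ℕ) : ℂ) = 4 by norm_num, ← this]
    exact Finset.sum_congr rfl fun χ _ => by rw [hB, map_intCast]
  have e3 : ∑ χ, A χ * B χ = 0 := by
    have := second_orthogonality z r
    rw [if_neg hord3] at this
    apply Int.cast_injective (α := ℂ)
    push_cast
    rw [← this]
    exact Finset.sum_congr rfl fun χ _ => by rw [hA, hB, map_intCast]
  have e4 : ∑ χ : IrrCharacter G, (deg (χ : G → ℂ) : ℤ) * A χ = 0 := by
    have := second_orthogonality (1 : G) z
    rw [if_neg hord1] at this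
    apply Int.cast_injective (α := ℂ)
    push_cast
    rw [← this]
    exact Finset.sum_congr rfl fun χ _ => by rw [hA, map_intCast, irr_apply_one_eq_deg]
  have e5 : ∑ χ : IrrCharacter G, (deg (χ : G → ℂ) : ℤ) * B χ = 0 := by
    have := second_orthogonality (1 : G) r
    rw [if_neg hord2] at this
    apply Int.cast_injective (α := ℂ)
    push_cast
    rw [← this]
    exact Finset.sum_congr rfl fun χ _ => by rw [hB, map_intCast, irr_apply_one_eq_deg]
  have hclass : (Nat.card {x : G // IsConj z x} : ℂ) = (Nat.card G : ℂ) / 8 := by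
    have := card_isConj_mul z
    rw [h.hC] at this
    rw [← this]; push_cast; ring
  have hG0 : (Nat.card G : ℂ) ≠ 0 := Nat.cast_ne_zero.2 Nat.card_pos.ne'
  have e6 : (Nat.card G : ℂ) * ∑ χ : IrrCharacter G, ((A χ * A χ * A χ : ℤ) : ℂ) / (deg (χ : G → ℂ) : ℂ) = 256 := by
    have := class_mult_formula z z z
    rw [pair_z h, hclass] at this
    simp only [hA, map_intCast, irr_apply_one_eq_deg] at this
    push_cast at this ⊢
    field_simp at this
    simp only [pow_succ, pow_zero, one_mul] at this ⊢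
    linear_combination -this
  have e7 : (Nat.card G : ℂ) * ∑ χ : IrrCharacter G, ((A χ * A χ * B χ : ℤ) : ℂ) / (deg (χ : G → ℂ) : ℂ) = 256 := by
    have := class_mult_formula z z r
    rw [pair_r h, hclass] at this
    simp only [hA, hB, map_intCast, irr_apply_one_eq_deg] at this
    push_cast at this ⊢
    field_simp at this
    simp only [pow_succ, pow_zero, one_mul] at this ⊢
    linear_combination -this
  -- the five characters
  have hA1 : A (principal G) = 1 := by exact_mod_cast ((hA (principal G)).symm.trans (rfl : _ = (1 : ℂ)))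
  have hB1 : B (principal G) = 1 := by exact_mod_cast ((hB (principal G)).symm.trans (rfl : _ = (1 : ℂ)))
  have hBv : ∀ χ, B χ = 0 ∨ B χ = 1 ∨ B χ = -1 := by
    intro χ
    have hle : B χ * B χ + (if χ = principal G then 0 else B (principal G) * B (principal G)) ≤ 4 := by
      split_ifs with hp
      · rw [add_zero, ← e2]; exact Finset.single_le_sum (fun i _ => mul_self_nonneg (B i)) (Finset.mem_univ χ)
      · rw [← e2, ← Finset.sum_pair hp (f := fun i => B i * B i)]
        exact Finset.sum_le_univ_sum_of_nonneg fun i => mul_self_nonneg (B i)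
    split_ifs at hle with hp
    · subst hp; exact Or.inr (Or.inl hB1)
    · rw [hB1] at hle
      have h1 : B χ < 2 := by nlinarith
      have h2 : -2 < B χ := by nlinarith
      omega
  set T := Finset.univ.filter (fun χ => B χ ≠ 0) with hT
  have hTc : T.card = 4 := by
    have : ∑ χ, B χ * B χ = (T.card : ℤ) := by
      rw [hT, Finset.card_filter]
      push_cast
      refine Finset.sum_congr rfl fun χ _ => ?_
      rcases hBv χ with e | e | e <;> simp [e]
    omega
  have hpar : ∀ χ, (2 : ℤ) ∣ A χ - B χ := fun χ => by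
    have := h4 χ; have := h4' χ; omega
  have hTA : ∀ χ ∈ T, A χ = 1 ∨ A χ = -1 := by
    intro χ hχ
    have hodd : ∀ i ∈ T, 1 ≤ A i * A i := fun i hi => by
      have hne : A i ≠ 0 := fun e => by
        have h1 := hpar i
        rw [e] at h1
        rcases hBv i with e' | e' | e'
        · exact (Finset.mem_filter.1 hi).2 e'
        · rw [e'] at h1; omega
        · rw [e'] at h1; omega
      exact Int.add_one_le_iff.2 (mul_self_pos.2 hne)
    have h1 : A χ * A χ + ∑ i ∈ T.erase χ, A i * A i ≤ 8 := by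
      rw [Finset.add_sum_erase _ (fun i => A i * A i) hχ, ← e1]
      exact Finset.sum_le_univ_sum_of_nonneg fun i => mul_self_nonneg (A i)
    have h2 : ((T.erase χ).card : ℤ) ≤ ∑ i ∈ T.erase χ, A i * A i := by
      rw [Finset.card_eq_sum_ones, Nat.cast_sum]
      exact Finset.sum_le_sum fun i hi => by simpa using hodd i (Finset.mem_of_mem_erase hi)
    rw [Finset.card_erase_of_mem hχ, hTc] at h2
    have h3 := hpar χ
    have h5 : A χ < 3 := by nlinarith
    have h6 : -3 < A χ := by nlinarith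
    rcases hBv χ with e | e | e
    · exact absurd e (Finset.mem_filter.1 hχ).2
    · omega
    · omega
  have hrest : ∑ χ ∈ Tᶜ, A χ * A χ = 4 := by
    have h1 := Finset.sum_add_sum_compl T (fun χ => A χ * A χ)
    rw [Finset.sum_congr rfl (fun χ hχ => show A χ * A χ = 1 by rcases hTA χ hχ with e | e <;> rw [e] <;> norm_num),
      Finset.sum_const, hTc, e1] at h1
    simp at h1
    omega
  have hev : ∀ χ ∈ Tᶜ, B χ = 0 ∧ (2 : ℤ) ∣ A χ := fun χ hχ => by
    have h0 : B χ = 0 := by simpa [hT] using hχ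
    exact ⟨h0, by simpa [h0] using hpar χ⟩
  obtain ⟨χ₄, hχ₄, hA4, hz4⟩ : ∃ χ₄ ∈ Tᶜ, (A χ₄ = 2 ∨ A χ₄ = -2) ∧ ∀ χ ∈ Tᶜ, χ ≠ χ₄ → A χ = 0 := by
    obtain ⟨χ₄, hχ₄, hne⟩ : ∃ χ₄ ∈ Tᶜ, A χ₄ ≠ 0 := by
      by_contra! hall
      rw [Finset.sum_eq_zero fun χ hχ => by rw [hall χ hχ, mul_zero]] at hrest
      omega
    have h1 := Finset.add_sum_erase Tᶜ (fun i => A i * A i) hχ₄
    rw [hrest] at h1
    have h2 : (0 : ℤ) ≤ ∑ i ∈ Tᶜ.erase χ₄, A i * A i := Finset.sum_nonneg fun i _ => mul_self_nonneg _
    obtain ⟨k, hk⟩ := (hev χ₄ hχ₄).2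
    have hk1 : k = 1 ∨ k = -1 := by
      have : k < 2 := by nlinarith
      have : -2 < k := by nlinarith
      have : k ≠ 0 := fun e => hne (by rw [hk, e, mul_zero])
      omega
    have h3 : ∑ i ∈ Tᶜ.erase χ₄, A i * A i = 0 := by rcases hk1 with e | e <;> rw [hk, e] at h1 <;> linarith
    refine ⟨χ₄, hχ₄, by omega, fun χ hχ hne' => ?_⟩
    exact mul_self_eq_zero.1 ((Finset.sum_eq_zero_iff_of_nonneg fun i _ => mul_self_nonneg (A i)).1 h3 χ
      (Finset.mem_erase.2 ⟨hne', hχ⟩))
  have hp : principal G ∈ T := by simp [hT, hB1]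
  obtain ⟨χ₁, χ₂, χ₃, n12, n13, n23, hE⟩ := Finset.card_eq_three.1
    (show (T.erase (principal G)).card = 3 by rw [Finset.card_erase_of_mem hp, hTc])
  have m1 : χ₁ ∈ T.erase (principal G) := by rw [hE]; simp
  have m2 : χ₂ ∈ T.erase (principal G) := by rw [hE]; simp
  have m3 : χ₃ ∈ T.erase (principal G) := by rw [hE]; simp
  have split : ∀ {R : Type} [AddCommMonoid R] (f : IrrCharacter G → R), (∀ χ, B χ = 0 → A χ = 0 → f χ = 0) →
      ∑ χ, f χ = f (principal G) + (f χ₁ + (f χ₂ + f χ₃)) + f χ₄ := by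
    intro R _ f hf
    rw [← Finset.sum_add_sum_compl T f, Finset.sum_eq_single_of_mem χ₄ hχ₄
      (fun χ hχ hne => hf χ (hev χ hχ).1 (hz4 χ hχ hne)), ← Finset.add_sum_erase T f hp, hE,
      Finset.sum_insert (by simp [n12, n13]), Finset.sum_pair n23]
  have hB4 := (hev χ₄ hχ₄).1
  obtain ⟨d, hd⟩ : ∃ d : IrrCharacter G → ℤ, ∀ χ : IrrCharacter G, d χ = (deg (χ : G → ℂ) : ℤ) := ⟨_, fun _ => rfl⟩
  have hd1 : d (principal G) = 1 := by
    rw [hd, show deg (principal G : G → ℂ) = 1 from ?_]
    · rfl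
    · have := irr_apply_one_eq_deg (principal G)
      exact_mod_cast this.symm.trans (rfl : _ = (1 : ℂ))
  have hdp : ∀ χ, 1 ≤ d χ := fun χ => by rw [hd]; exact_mod_cast deg_irr_pos χ
  simp only [← hd] at e4 e5 h4 h8 h4'
  rw [split _ fun χ hb ha => by simp [ha, hb]] at e3 e4 e5
  rw [hA1, hB1] at e3
  rw [hA1, hd1] at e4
  rw [hB1, hd1] at e5
  rw [hB4] at e3 e5
  have hdc : ∀ χ : IrrCharacter G, (deg (χ : G → ℂ) : ℂ) = ((d χ : ℤ) : ℂ) := fun χ => by rw [hd, Int.cast_natCast]
  rw [split _ fun χ hb ha => by simp [ha]] at e6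
  rw [split _ fun χ hb ha => by simp [ha]] at e7
  simp only [hA1, hB1, hB4, hdc, hd1] at e6 e7
  obtain ⟨hne1, t1⟩ := Finset.mem_erase.1 m1
  obtain ⟨hne2, t2⟩ := Finset.mem_erase.1 m2
  obtain ⟨hne3, t3⟩ := Finset.mem_erase.1 m3
  have b1 := (hBv χ₁).resolve_left (Finset.mem_filter.1 t1).2
  have b2 := (hBv χ₂).resolve_left (Finset.mem_filter.1 t2).2
  have b3 := (hBv χ₃).resolve_left (Finset.mem_filter.1 t3).2
  have a1 := hTA _ t1
  have a2 := hTA _ t2
  have a3 := hTA _ t3
  -- one of the three has equal values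
  have fin : ∀ i j k : IrrCharacter G, A i = -B i → A j = -B j → A k = B k → (A i = 1 ∨ A i = -1) →
      (A j = 1 ∨ A j = -1) → (A k = 1 ∨ A k = -1) →
      1 + B k * d k + B i * d i + B j * d j = 0 →
      1 + A k * d k + A i * d i + A j * d j + A χ₄ * d χ₄ = 0 →
      (Nat.card G : ℂ) * (1 + (A k : ℂ) * A k * A k / d k + (A i : ℂ) * A i * A i / d i +
        (A j : ℂ) * A j * A j / d j + (A χ₄ : ℂ) * A χ₄ * A χ₄ / d χ₄) = 256 →
      (Nat.card G : ℂ) * (1 + (A k : ℂ) * A k * B k / d k + (A i : ℂ) * A i * B i / d i +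
        (A j : ℂ) * A j * B j / d j) = 256 →
      Nat.card G = 168 ∨ Nat.card G = 360 := by
    intro i j k hi hj hk si sj sk r5 r4 r6 r7
    obtain ⟨s, hs⟩ : (2 : ℤ) ∣ A χ₄ := (hev χ₄ hχ₄).2
    have hs1 : s = 1 ∨ s = -1 := by omega
    rw [show B i = -A i by omega, show B j = -A j by omega, ← hk] at r5 r7
    rw [hs] at r4 r6
    have ci : (A i : ℂ) * A i = 1 := by rcases si with e | e <;> rw [e] <;> norm_num
    have cj : (A j : ℂ) * A j = 1 := by rcases sj with e | e <;> rw [e] <;> norm_num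
    have ck : (A k : ℂ) * A k = 1 := by rcases sk with e | e <;> rw [e] <;> norm_num
    have cs : (s : ℂ) * s = 1 := by rcases hs1 with e | e <;> rw [e] <;> norm_num
    have d0 : ∀ χ, ((d χ : ℤ) : ℂ) ≠ 0 := fun χ => Int.cast_ne_zero.2 (by have := hdp χ; omega)
    push_cast at r6 r7
    rw [ci, cj, ck, show (2 : ℂ) * s * (2 * s) * (2 * s) = 8 * s * (s * s) by ring, cs, one_mul, one_mul, one_mul,
      mul_one] at r6
    rw [ci, cj, ck, one_mul, one_mul, one_mul] at r7
    have hcountC : (Nat.card G : ℂ) * ((d k : ℂ) * d i * d j + A k * d i * d j - A i * d k * d j - A j * d k * d i) =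
        256 * ((d k : ℂ) * d i * d j) := by
      have := d0 i; have := d0 j; have := d0 k
      field_simp at r7
      linear_combination r7
    have hdiffC : (A i : ℂ) * d j * d χ₄ + A j * d i * d χ₄ + 4 * s * d i * d j = 0 := by
      have := d0 i; have := d0 j; have := d0 k; have := d0 χ₄
      have e := mul_left_cancel₀ hG0 (r6.trans r7.symm)
      field_simp at e
      refine mul_left_cancel₀ (show (2 : ℂ) * d k ≠ 0 from mul_ne_zero two_ne_zero (d0 k)) ?_
      linear_combination e
    have hcount : (Nat.card G : ℤ) * (d k * d i * d j + A k * d i * d j - A i * d k * d j - A j * d k * d i) =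
        256 * (d k * d i * d j) := by
      apply Int.cast_injective (α := ℂ)
      push_cast
      exact hcountC
    have hdiff : A i * d j * d χ₄ + A j * d i * d χ₄ + 4 * s * d i * d j = 0 := by
      apply Int.cast_injective (α := ℂ)
      push_cast
      exact hdiffC
    have hm1 := h8 i
    have hm3 := h8 k
    rw [show B i = -A i by omega] at hm1
    rw [← hk] at hm3
    have := arith (x := d i) (y := d j) (w := d k) (v := d χ₄) (g := (Nat.card G : ℤ)) si sj sk hs1 (hdp i) (hdp j)
      (hdp k) (hdp χ₄) (by exact_mod_cast Nat.card_pos) (by linarith) (by linarith) hdiff hcount (Or.inr hm1) hm1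
      (by omega)
    omega
  push_cast at e6 e7
  rcases a1 with p1 | p1 <;> rcases b1 with q1 | q1 <;> rcases a2 with p2 | p2 <;> rcases b2 with q2 | q2 <;>
    rcases a3 with p3 | p3 <;> rcases b3 with q3 | q3 <;>
    (try (rw [p1, q1, p2, q2, p3, q3] at e3; omega))
  all_goals first
    | exact fin χ₁ χ₂ χ₃ (by omega) (by omega) (by omega) (by omega) (by omega) (by omega) (by linarith)
        (by linarith) (by rw [← e6]; ring) (by rw [← e7]; ring)
    | exact fin χ₁ χ₃ χ₂ (by omega) (by omega) (by omega) (by omega) (by omega) (by omega) (by linarith)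
        (by linarith) (by rw [← e6]; ring) (by rw [← e7]; ring)
    | exact fin χ₂ χ₃ χ₁ (by omega) (by omega) (by omega) (by omega) (by omega) (by omega) (by linarith)
        (by linarith) (by rw [← e6]; ring) (by rw [← e7]; ring)

theorem simple (h : Setup z r u) : IsSimpleGroup G := by
  classical
  have : Fact (Nat.Prime 2) := ⟨Nat.prime_two⟩
  obtain ⟨S, hS⟩ := h.syl
  have : Nontrivial G := ⟨⟨z, 1, z_ne h⟩⟩
  constructor
  intro N hN
  have hzm : z ∈ zpowers r := h.hrz ▸ mul_mem (mem_zpowers r) (mem_zpowers r)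
  by_cases hev : 2 ∣ Nat.card N
  · right
    obtain ⟨⟨t, htN⟩, ht⟩ := exists_prime_orderOf_dvd_card' 2 hev
    rw [Subgroup.orderOf_mk] at ht
    have hall : ∀ g : G, orderOf g = 2 → g ∈ N := fun g hg => by
      obtain ⟨c, rfl⟩ := isConj_iff.1 ((inv_conj h ht).symm.trans (inv_conj h hg))
      exact hN.conj_mem t htN c
    have hrN : r ∈ N := by
      have hur : u * r ∈ centralizer ({z} : Set G) := mul_mem (u_mem h) (r_mem h)
      have hnot : u * r ∉ zpowers r := fun hm => u_notMem_zpowers h (by simpa using mul_mem hm (inv_mem (mem_zpowers r)))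
      obtain ⟨s1, s2, -⟩ := outside_sq h hur hnot
      have := mul_mem (hall u h.hu) (hall _ (orderOf_eq_prime (by rw [pow_two, s1]) s2))
      rwa [← mul_assoc, uu h, one_mul] at this
    have hCN : centralizer ({z} : Set G) ≤ N := fun g hg => by
      rcases mem_cases h hg with hm | hm
      · exact zpowers_le.2 hrN hm
      · have := mul_mem (hall u h.hu) (zpowers_le.2 hrN hm)
        rwa [← mul_assoc, uu h, one_mul] at this
    have hSN : (S : Subgroup G) ≤ N := hS ▸ hCN
    have hnor : Subgroup.normalizer ((S : Subgroup G) : Set G) ≤ N := by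
      intro n hn
      refine hCN (mem_centralizer_singleton_iff.2 ?_)
      have hz' : n * z * n⁻¹ ∈ centralizer ({z} : Set G) := hS ▸ ((mem_normalizer_iff.1 hn z).1 (hS.symm ▸ mem_centralizer_singleton_iff.2 rfl))
      have hcomm : ∀ s ∈ centralizer ({z} : Set G), n * z * n⁻¹ * s = s * (n * z * n⁻¹) := by
        intro s hs
        have hs' : n⁻¹ * s * n ∈ centralizer ({z} : Set G) := by
          have := (mem_normalizer_iff.1 (inv_mem hn) s).1 (hS.symm ▸ hs)
          rw [inv_inv] at this
          exact hS ▸ this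
        have := mem_centralizer_singleton_iff.1 hs'
        calc n * z * n⁻¹ * s = n * (z * (n⁻¹ * s * n)) * n⁻¹ := by group
          _ = s * (n * z * n⁻¹) := by rw [← this]; group
      have ho : orderOf (n * z * n⁻¹) = 2 := by rw [show n * z * n⁻¹ = MulAut.conj n z from rfl, MulEquiv.orderOf_eq, h.hz]
      have he : n * z * n⁻¹ = z := by
        by_cases hm : n * z * n⁻¹ ∈ zpowers r
        · rcases zpowers_cases h hm with e | e | e | e
          · rw [e, orderOf_one] at ho; omega
          · rw [e, r_four h] at ho; omega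
          · exact e
          · exfalso
            have h2 : orderOf (z * r) ∣ 2 := dvd_of_eq (e ▸ ho)
            rw [orderOf_dvd_iff_pow_eq_one, pow_two, zr_sq h] at h2
            exact z_ne h h2
        · exfalso
          have h1 := (outside_sq h hz' hm).2.2
          rw [hcomm r (r_mem h), mul_inv_cancel_right] at h1
          refine z_ne h ?_
          rw [← h.hrz]
          exact eq_inv_iff_mul_eq_one.1 h1
      exact mul_inv_eq_iff_eq_mul.1 he
    rw [eq_top_iff, ← Sylow.normalizer_sup_eq_top' S hSN]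
    exact sup_le hnor le_rfl
  · left
    have hodd : ∀ g ∈ N, g ∈ centralizer ({z} : Set G) → g = 1 := fun g hg hc => by
      have h1 : orderOf g ∣ 8 := h.hC ▸ (Subgroup.orderOf_mk g hc ▸ orderOf_dvd_natCard _)
      have h2 : orderOf g ∣ Nat.card N := Subgroup.orderOf_mk g hg ▸ orderOf_dvd_natCard _
      rw [← orderOf_eq_one_iff]
      exact Nat.eq_one_of_dvd_coprimes (Nat.Coprime.pow_left 3 ((Nat.prime_two.coprime_iff_not_dvd).2 hev)) h1 h2
    have hfpf : ∀ t : G, IsConj z t → ∀ g ∈ N, Commute g t → g = 1 := by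
      intro t ht g hg hgt
      obtain ⟨c, rfl⟩ := isConj_iff.1 ht
      have hc : c⁻¹ * g * c ∈ centralizer ({z} : Set G) := mem_centralizer_singleton_iff.2 (by
        calc c⁻¹ * g * c * z = c⁻¹ * (g * (c * z * c⁻¹)) * c := by group
          _ = z * (c⁻¹ * g * c) := by rw [hgt.eq]; group)
      have := hodd _ (by simpa using hN.conj_mem g hg c⁻¹) hc
      calc g = c * (c⁻¹ * g * c) * c⁻¹ := by group
        _ = 1 := by rw [this]; group
    have hinv : ∀ t : G, IsConj z t → t * t = 1 → ∀ g ∈ N, t * g * t⁻¹ = g⁻¹ := by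
      intro t ht htt g hg
      let φ : N →* N :=
        { toFun := fun n => ⟨t * (n : G) * t⁻¹, hN.conj_mem _ n.2 t⟩
          map_one' := Subtype.ext (by simp)
          map_mul' := fun a b => Subtype.ext (by simp [mul_assoc]) }
      have hφ : MonoidHom.FixedPointFree φ := fun n hn => Subtype.ext
        (hfpf t ht n n.2 (mul_inv_eq_iff_eq_mul.1 (congrArg Subtype.val hn)).symm)
      have hi : Function.Involutive φ := fun n => Subtype.ext (by
        show t * (t * (n : G) * t⁻¹) * t⁻¹ = n
        calc t * (t * (n : G) * t⁻¹) * t⁻¹ = (t * t) * n * (t * t)⁻¹ := by group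
          _ = n := by rw [htt]; group)
      exact congrArg Subtype.val (congrFun (hφ.coe_eq_inv_of_involutive hi) ⟨g, hg⟩)
    rw [Subgroup.eq_bot_iff_forall]
    intro g hg
    have hu' : IsConj z u := inv_conj h h.hu
    have huz' : u * z ∈ centralizer ({z} : Set G) := mul_mem (u_mem h) (mem_centralizer_singleton_iff.2 rfl)
    have hnot : u * z ∉ zpowers r := fun hm => u_notMem_zpowers h (by simpa using mul_mem hm (inv_mem hzm))
    obtain ⟨s1, s2, -⟩ := outside_sq h huz' hnot
    refine hfpf (u * z) (noncentral_conj h huz' hnot) g hg ?_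
    have i1 := hinv z (IsConj.refl z) (zz h) g hg
    have i2 := hinv u hu' (uu h) g⁻¹ (inv_mem hg)
    rw [inv_inv, ← i1] at i2
    show g * (u * z) = u * z * g
    calc g * (u * z) = u * (z * g * z⁻¹) * u⁻¹ * (u * z) := by rw [i2]
      _ = u * z * g := by group

theorem main (h : Setup z r u) : Nonempty (G ≃* alternatingGroup (Fin 6)) ∨
    ∃ (F : Type) (_ : Field F) (_ : Fintype F), Fintype.card F = 7 ∧
      Nonempty (G ≃* Matrix.ProjectiveSpecialLinearGroup (Fin 2) F) := by
  have := simple h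
  rcases order_cases h with e | e
  · have : Fact (Nat.Prime 7) := ⟨by norm_num⟩
    exact Or.inr ⟨ZMod 7, inferInstance, inferInstance, ZMod.card 7, Cfsg.Agent.S0495.result e (ZMod.card 7)⟩
  · exact Or.inl (Cfsg.Agent.S0497.result e)

end Cfsg.Lib.DihedralCent
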