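import Cfsg.Agent.PGroups.MaxClass
import Cfsg.Agent.Transfer.ThompsonTransfer
import Cfsg.Agent.Transfer.Basic
import Cfsg.Agent.Blocks.KleinFourOrder
import Cfsg.Agent.Blocks.Feit3
import Cfsg.Agent.Small.Toolkit
import Cfsg.Agent.Chars.Construct
import Cfsg.Agent.Classical.Misc.SixtyGroup
import Mathlib.GroupTheory.SpecificGroups.KleinFour

/-!
An involution whose centraliser has a normal four-group as Sylow 2-subgroup: such a simple group is `A₅`.
-/

set_option autoImplicit false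
set_option linter.unusedSectionVars false

namespace Cfsg.Lib.KleinCent

open Subgroup
open scoped Pointwise

universe u

variable {G : Type u} [Group G] [Finite G]

/-- If a Sylow 2-subgroup `S` has a four-group `V` containing the centraliser in `S` of an involution `x` of `V`, and
`S` is bigger than `V`, then `G` has a subgroup of index 2 with cyclic Sylow 2-subgroup. -/
theorem index_two_cyclic (S : Sylow 2 G) {V : Subgroup G} (hVS : V ≤ S) (hV : Nat.card V = 4)
    (hVc : ∀ a ∈ V, ∀ b ∈ V, a * b = b * a) {x : G} (hx : orderOf x = 2) (hxV : x ∈ V)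
    (hCS : ∀ s ∈ (S : Subgroup G), s * x = x * s → s ∈ V)
    (hTwo : ∀ R : Subgroup G, IsPGroup 2 R → R ≤ centralizer ({x} : Set G) → Nat.card R ≤ 4)
    (hne : V ≠ S) :
    ∃ K : Subgroup G, K.Normal ∧ K.index = 2 ∧ x ∉ K := by
  classical
  have : Fact (Nat.Prime 2) := ⟨Nat.prime_two⟩
  obtain ⟨n, hn⟩ := IsPGroup.iff_card.1 S.isPGroup'
  have hn3 : 3 ≤ n := by
    have hlt : 4 < 2 ^ n := by
      rw [← hn, ← hV]
      exact lt_of_le_of_ne (card_le_of_le hVS) fun h => hne (eq_of_le_of_card_ge hVS h.ge)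
    by_contra h
    have : 2 ^ n ≤ 2 ^ 2 := Nat.pow_le_pow_right two_pos (by omega)
    omega
  have : Group.IsNilpotent (S : Subgroup G) := S.isPGroup'.isNilpotent
  set A : Subgroup (S : Subgroup G) := V.subgroupOf S with hA
  have hAcard : Nat.card A = 2 ^ 2 := by
    rw [hA, Nat.card_congr (subgroupOfEquivOfLe hVS).toEquiv, hV]; norm_num
  have hAC : centralizer (A : Set (S : Subgroup G)) = A := by
    ext s
    constructor
    · intro hs
      have h := mem_centralizer_iff.1 hs ⟨x, hVS hxV⟩ (mem_subgroupOf.2 hxV)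
      exact mem_subgroupOf.2 (hCS s s.2 (congrArg Subtype.val h).symm)
    · intro hs
      exact mem_centralizer_iff.2 fun a ha =>
        Subtype.ext (hVc _ (mem_subgroupOf.1 ha) _ (mem_subgroupOf.1 hs))
  have hcl := Cfsg.Lib.MaxClass.of_self_centralizing n (S : Subgroup G) hn A hAcard hAC
  obtain ⟨M, hM, hMi⟩ := Cfsg.Lib.MaxClass.exists_cyclic_index_two n (S : Subgroup G) hn hn3 hcl
  have hMone : ∀ a b : (S : Subgroup G), a ∈ M → b ∈ M → orderOf a = 2 → orderOf b = 2 → a = b := by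
    intro a b ha hb h2a h2b
    have : IsCyclic M := hM
    classical
    letI := Fintype.ofFinite M
    have hcard : (Finset.univ.filter fun m : M => orderOf m = 2).card = Nat.totient 2 := by
      refine IsCyclic.card_orderOf_eq_totient ?_
      have h := orderOf_dvd_natCard (⟨a, ha⟩ : M)
      rw [Subgroup.orderOf_mk, h2a] at h
      rwa [← Nat.card_eq_fintype_card]
    rw [Nat.totient_two, Finset.card_eq_one] at hcard
    obtain ⟨c, hc⟩ := hcard
    have h1 : (⟨a, ha⟩ : M) ∈ Finset.univ.filter fun m : M => orderOf m = 2 :=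
      Finset.mem_filter.2 ⟨Finset.mem_univ _, by rw [Subgroup.orderOf_mk]; exact h2a⟩
    have h2 : (⟨b, hb⟩ : M) ∈ Finset.univ.filter fun m : M => orderOf m = 2 :=
      Finset.mem_filter.2 ⟨Finset.mem_univ _, by rw [Subgroup.orderOf_mk]; exact h2b⟩
    rw [hc, Finset.mem_singleton] at h1 h2
    exact congrArg Subtype.val (h1.trans h2.symm)
  have hMn : M.Normal := normal_of_index_eq_two hMi
  -- an involution of `M` is central in `S`
  have hcentral : ∀ a : (S : Subgroup G), a ∈ M → orderOf a = 2 → ∀ s, s * a = a * s := fun a ha h2 s => by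
    have h := hMone a (s * a * s⁻¹) ha (hMn.conj_mem a ha s) h2
      (by rw [← MulAut.conj_apply, MulEquiv.orderOf_eq, h2])
    exact (mul_inv_eq_iff_eq_mul.1 h.symm)
  obtain ⟨Q, hQ⟩ : ∃ Q : Subgroup G, Q = M.map (S : Subgroup G).subtype := ⟨_, rfl⟩
  have hQi : Q.index = 2 * (S : Subgroup G).index := by
    rw [hQ, Subgroup.index_map_subtype, hMi]
  refine Cfsg.Lib.Transfer.exists_index_two_not_mem Q (Nat.odd_iff.2 (Nat.two_dvd_ne_zero.1 S.not_dvd_index)) hQi hx ?_
  intro g hg
  rw [hQ] at hg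
  obtain ⟨a, ha, he⟩ := hg
  have h2 : orderOf a = 2 := by
    rw [← Subgroup.orderOf_coe, show (a : G) = g⁻¹ * x * g from he]
    rw [show g⁻¹ * x * g = MulAut.conj g⁻¹ x by simp, MulEquiv.orderOf_eq, hx]
  have hle : (g • S : Sylow 2 G).1 ≤ centralizer ({x} : Set G) := by
    intro s hs
    rw [Sylow.coe_subgroup_smul, mem_pointwise_smul_iff_inv_smul_mem] at hs
    simp only [MulAut.smul_def, ← map_inv, MulAut.conj_apply, inv_inv] at hs
    have h := congrArg Subtype.val (hcentral a ha h2 ⟨_, hs⟩)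
    simp only [Subgroup.coe_mul, show (a : G) = g⁻¹ * x * g from he] at h
    rw [mem_centralizer_singleton_iff]
    calc s * x = g * (g⁻¹ * s * g * (g⁻¹ * x * g)) * g⁻¹ := by group
      _ = x * s := by rw [h]; group
  have h4 := hTwo _ (g • S).isPGroup' hle
  have hlt : Nat.card V < Nat.card (S : Subgroup G) :=
    lt_of_le_of_ne (card_le_of_le hVS) fun h => hne (eq_of_le_of_card_ge hVS h.ge)
  rw [(g • S).card_eq_multiplicity, ← S.card_eq_multiplicity] at h4
  omega

theorem arith {x y z m ea eb ec : ℤ} (hm : 5 ≤ m) (hxa : ea = 1 ∧ 5 ≤ x ∨ ea = -1 ∧ 3 ≤ x)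
    (hyb : eb = 1 ∧ 5 ≤ y ∨ eb = -1 ∧ 3 ≤ y) (hzc : ec = 1 ∧ 5 ≤ z ∨ ec = -1 ∧ 3 ≤ z)
    (hy4 : (4 : ℤ) ∣ y - eb) (hx4 : (4 : ℤ) ∣ x - ea) (hz4 : (4 : ℤ) ∣ z - ec)
    (hrel : 1 + ea * x + eb * y + ec * z = 0)
    (hF : 3 * m * (x * y * z + ea * (y * z) + eb * (x * z) + ec * (x * y)) = 8 * (x * y * z)) : m = 5 := by
  have big : ∀ E T : ℤ, 0 < T → 8 * T < 15 * E → 3 * m * E = 8 * T → False := fun E T hT hE h => by
    nlinarith [mul_le_mul_of_nonneg_right hm (show (0 : ℤ) ≤ E by omega)]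
  have main : ∀ x y z : ℤ, 5 ≤ x → 3 ≤ y → 3 ≤ z → (4 : ℤ) ∣ y + 1 → (4 : ℤ) ∣ z + 1 → x = y + z - 1 →
      3 * m * (x * y * z + y * z - x * z - x * y) = 8 * (x * y * z) → m = 5 := by
    intro x y z hx hy hz dy dz hr h
    have hy7 : y = 3 ∨ 7 ≤ y := by omega
    have hz7 : z = 3 ∨ 7 ≤ z := by omega
    have hT : 0 < x * y * z := by positivity
    rcases hy7 with rfl | hy7 <;> rcases hz7 with rfl | hz7
    · subst hr; omega
    · refine (big _ _ hT ?_ h).elim
      subst hr
      nlinarith [mul_le_mul_of_nonneg_right hz7 (show (0 : ℤ) ≤ z by omega)]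
    · refine (big _ _ hT ?_ h).elim
      subst hr
      nlinarith [mul_le_mul_of_nonneg_right hy7 (show (0 : ℤ) ≤ y by omega)]
    · refine (big _ _ hT ?_ h).elim
      have h1 : 7 * (x * z) ≤ x * y * z := by nlinarith [mul_nonneg (show (0 : ℤ) ≤ x * z by positivity) (show (0 : ℤ) ≤ y - 7 by omega)]
      have h2 : 7 * (x * y) ≤ x * y * z := by nlinarith [mul_nonneg (show (0 : ℤ) ≤ x * y by positivity) (show (0 : ℤ) ≤ z - 7 by omega)]
      nlinarith [mul_pos (show (0 : ℤ) < y by omega) (show (0 : ℤ) < z by omega)]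
  have one : ∀ x y z : ℤ, 5 ≤ x → 5 ≤ y → 3 ≤ z → z = 1 + x + y →
      3 * m * (x * y * z + y * z + x * z - x * y) = 8 * (x * y * z) → False := by
    intro x y z hx hy hz hr h
    have hT : 0 < x * y * z := by positivity
    refine big _ _ hT ?_ h
    have h1 : x * y ≤ x * z := mul_le_mul_of_nonneg_left (by omega) (by omega)
    nlinarith [mul_pos (show (0 : ℤ) < y by omega) (show (0 : ℤ) < z by omega)]
  rcases hxa with ⟨rfl, hx⟩ | ⟨rfl, hx⟩ <;> rcases hyb with ⟨rfl, hy⟩ | ⟨rfl, hy⟩ <;>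
    rcases hzc with ⟨rfl, hz⟩ | ⟨rfl, hz⟩
  · omega
  · exact (one x y z hx hy hz (by omega) (by linarith)).elim
  · exact (one x z y hx hz hy (by omega) (by linarith)).elim
  · exact main x y z hx hy hz (by simpa using hy4) (by simpa using hz4) (by omega) (by linarith)
  · exact (one z y x hz hy hx (by omega) (by linarith)).elim
  · exact main y x z hy hx hz (by simpa using hx4) (by simpa using hz4) (by omega) (by linarith)
  · exact main z x y hz hx hy (by simpa using hx4) (by simpa using hy4) (by omega) (by linarith)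
  · omega

set_option maxHeartbeats 1000000 in
theorem simple_case [IsSimpleGroup G] (x : G) (hx : orderOf x = 2) (S₀ : Subgroup G)
    (hle : S₀ ≤ centralizer ({x} : Set G)) (hK : IsKleinFour S₀)
    (hodd : ¬ 2 ∣ S₀.relIndex (centralizer ({x} : Set G)))
    (hn : (S₀.subgroupOf (centralizer ({x} : Set G))).Normal) :
    Nonempty (G ≃* alternatingGroup (Fin 5)) := by
  classical
  have : Fact (Nat.Prime 2) := ⟨Nat.prime_two⟩
  set C := centralizer ({x} : Set G) with hC
  have h4 : Nat.card S₀ = 4 := hK.card_four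
  have hcomm : ∀ a ∈ S₀, ∀ b ∈ S₀, a * b = b * a := fun a ha b hb =>
    congrArg Subtype.val (mul_comm_of_exponent_two hK.exponent_two (⟨a, ha⟩ : S₀) ⟨b, hb⟩)
  have hsq : ∀ a ∈ S₀, a * a = 1 := fun a ha => by
    have h := Monoid.pow_exponent_eq_one (⟨a, ha⟩ : S₀)
    rw [hK.exponent_two, pow_two] at h
    exact congrArg Subtype.val h
  have hnc : ¬ ∀ a b : G, a * b = b * a := by
    intro hab
    have htop : S₀ = ⊤ := (Subgroup.Normal.eq_bot_or_eq_top
      ⟨fun n hn g => by rwa [hab g n, mul_inv_cancel_right]⟩).resolve_left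
        fun h => by rw [h, Subgroup.card_bot] at h4; omega
    have hz : (Subgroup.zpowers x).Normal := ⟨fun n hn g => by rwa [hab g n, mul_inv_cancel_right]⟩
    rcases hz.eq_bot_or_eq_top with h | h
    · rw [Subgroup.zpowers_eq_bot] at h
      rw [h, orderOf_one] at hx; omega
    · have := congrArg (fun H : Subgroup G => Nat.card H) (h.trans htop.symm)
      simp only [Nat.card_zpowers, hx, h4] at this
      omega
  -- every 2-subgroup of the centralizer lies in the four-group
  have hsub : ∀ R : Subgroup G, IsPGroup 2 R → R ≤ C → R ≤ S₀ := by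
    intro R hR hRC r hr
    set N := S₀.subgroupOf C with hN
    set c : C := ⟨r, hRC hr⟩ with hc
    obtain ⟨k, hk⟩ := hR ⟨r, hr⟩
    have hk' : (c : C ⧸ N) ^ 2 ^ k = 1 := by
      rw [← QuotientGroup.mk_pow, show c ^ 2 ^ k = 1 from Subtype.ext (by
        rw [SubmonoidClass.coe_pow]; exact congrArg Subtype.val hk), QuotientGroup.mk_one]
    have hco : Nat.Coprime (orderOf (c : C ⧸ N)) (2 ^ k) := by
      refine Nat.Coprime.coprime_dvd_left (orderOf_dvd_natCard _) (Nat.Coprime.pow_right k ?_)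
      exact ((Nat.Prime.coprime_iff_not_dvd Nat.prime_two).2 hodd).symm
    have h1 := Nat.eq_one_of_dvd_coprimes hco dvd_rfl (orderOf_dvd_of_pow_eq_one hk')
    rw [orderOf_eq_one_iff, QuotientGroup.eq_one_iff] at h1
    exact mem_subgroupOf.1 h1
  have hxS : x ∈ S₀ := by
    refine hsub (Subgroup.zpowers x) (IsPGroup.of_card (n := 1) (by rw [Nat.card_zpowers, hx, pow_one])) ?_
      (mem_zpowers x)
    rw [zpowers_le]
    exact mem_centralizer_singleton_iff.2 rfl
  have hp2 : IsPGroup 2 S₀ := IsPGroup.of_card (n := 2) (by rw [h4]; norm_num)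
  obtain ⟨S, hS⟩ := hp2.exists_le_sylow
  have heq : S₀ = S := by
    by_contra hne
    obtain ⟨K, hKn, hKi, -⟩ := index_two_cyclic S hS h4 hcomm hx hxS
      (fun s hs hc => hsub ((S : Subgroup G) ⊓ C) (S.isPGroup'.to_le inf_le_left) inf_le_right
        ⟨hs, mem_centralizer_singleton_iff.2 hc⟩)
      (fun R hR hRC => h4 ▸ card_le_of_le (hsub R hR hRC)) hne
    rcases hKn.eq_bot_or_eq_top with h | h
    · rw [h, Subgroup.index_bot] at hKi
      have := card_le_of_le (le_top : S₀ ≤ ⊤)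
      rw [h4, Subgroup.card_top, hKi] at this
      omega
    · rw [h, Subgroup.index_top] at hKi; omega
  subst heq
  letI := Fintype.ofFinite G
  have hexp : ∀ u ∈ (S : Subgroup G), u * u = 1 := hsq
  obtain ⟨g₀, hg₀⟩ : ∃ g₀, Nat.card G = 4 * g₀ := ⟨(S : Subgroup G).index, by
    rw [← h4]; exact ((S : Subgroup G).card_mul_index).symm⟩
  have hncomp : ¬ ∃ N : Subgroup G, N.Normal ∧ Nat.card N = g₀ := by
    rintro ⟨N, hN, hNc⟩
    rcases hN.eq_bot_or_eq_top with h | h
    · rw [h, Subgroup.card_bot] at hNc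
      subst hNc
      exact hnc fun a b => congrArg Subtype.val (mul_comm_of_exponent_two hK.exponent_two
        (⟨a, by rw [eq_top_of_card_eq (S : Subgroup G) (h4.trans (by omega))]; exact mem_top a⟩ : (S : Subgroup G))
        ⟨b, by rw [eq_top_of_card_eq (S : Subgroup G) (h4.trans (by omega))]; exact mem_top b⟩)
    · rw [h, Subgroup.card_top] at hNc
      have := Nat.card_pos (α := G)
      omega
  obtain ⟨-, hone⟩ := Cfsg.Lib.Blocks.klein_of_no_complement hg₀ hncomp S h4 hxS hx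
  set P : Subgroup G := (S : Subgroup G)
  -- the centralizer of the involution is the centralizer of the Sylow subgroup
  obtain ⟨a, haP, ha1, hax⟩ : ∃ a ∈ P, a ≠ 1 ∧ a ≠ x := by
    by_contra! h
    have hinj : Function.Injective (fun u : P => decide ((u : G) = 1)) := fun u v huv => by
      refine Subtype.ext ?_
      simp only [decide_eq_decide] at huv
      by_cases h1 : (u : G) = 1
      · rw [h1, huv.1 h1]
      · rw [h _ u.2 h1, h _ v.2 (fun h2 => h1 (huv.2 h2))]
    have := Nat.card_le_card_of_injective _ hinj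
    rw [h4, Nat.card_eq_fintype_card, Fintype.card_bool] at this
    omega
  have hall : ∀ u ∈ P, u = 1 ∨ u = x ∨ u = a ∨ u = x * a := by
    intro u hu
    by_contra! h
    obtain ⟨h1, h2, h3, h5⟩ := h
    have hx1 : x ≠ 1 := fun h => by rw [h, orderOf_one] at hx; omega
    have e : x * a ≠ 1 := fun e => hax ((eq_inv_of_mul_eq_one_right e).trans (inv_eq_of_mul_eq_one_right (hsq x hxS)))
    have e2 : x * a ≠ x := fun e => ha1 (mul_eq_left.1 e)
    have e3 : x * a ≠ a := fun e => hx1 (mul_eq_right.1 e)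
    have hsub5 : ({1, x, a, x * a, u} : Finset G) ⊆ Finset.univ.filter (fun g => g ∈ P) := by
      intro g hg
      simp only [Finset.mem_insert, Finset.mem_singleton] at hg
      refine Finset.mem_filter.2 ⟨Finset.mem_univ _, ?_⟩
      rcases hg with rfl | rfl | rfl | rfl | rfl
      exacts [one_mem P, hxS, haP, mul_mem hxS haP, hu]
    have := Finset.card_le_card hsub5
    rw [Finset.card_insert_of_notMem (by simp [hx1.symm, ha1.symm, e.symm, h1.symm]),
      Finset.card_insert_of_notMem (by simp [hax.symm, e2.symm, h2.symm]),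
      Finset.card_insert_of_notMem (by simp [e3.symm, h3.symm]),
      Finset.card_insert_of_notMem (by simp [h5.symm]), Finset.card_singleton,
      ← Fintype.card_subtype, ← Nat.card_eq_fintype_card, show Nat.card {g // g ∈ P} = 4 from h4] at this
    omega
  have hCP : ∀ c ∈ C, ∀ u ∈ P, c * u * c⁻¹ ∈ P := fun c hc u hu =>
    mem_subgroupOf.1 (hn.conj_mem ⟨u, hle hu⟩ (mem_subgroupOf.2 hu) ⟨c, hc⟩)
  have hCC : C = centralizer (P : Set G) := by
    refine le_antisymm (fun c hc => ?_) fun c hc =>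
      mem_centralizer_singleton_iff.2 (mem_centralizer_iff.1 hc x hxS).symm
    have hcx : c * x * c⁻¹ = x := mul_inv_eq_iff_eq_mul.2 (mem_centralizer_singleton_iff.1 hc)
    have hca : c * a * c⁻¹ = a := by
      rcases hall _ (hCP c hc a haP) with h | h | h | h
      · exact absurd (conj_eq_one_iff.1 h) ha1
      · exact absurd (mul_left_cancel (mul_right_cancel (h.trans hcx.symm))) hax
      · exact h
      · exfalso
        -- `c` would swap `a` and `x * a`, but the odd part of `c` acts as `c` does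
        obtain ⟨l, hl⟩ : ∃ l, (P.relIndex C) = l := ⟨_, rfl⟩
        have hpow : (⟨c, hc⟩ : C) ^ P.relIndex C ∈ P.subgroupOf C := by
          have := Subgroup.pow_index_mem (P.subgroupOf C) (⟨c, hc⟩ : C)
          exact this
        rw [mem_subgroupOf, SubmonoidClass.coe_pow] at hpow
        change c ^ P.relIndex C ∈ P at hpow
        have heven : ∀ k : ℕ, c ^ (2 * k) * a * (c ^ (2 * k))⁻¹ = a := by
          intro k
          induction k with
          | zero => simp
          | succ k ih =>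
            have h2 : c * (c * a * c⁻¹) * c⁻¹ = a := by
              rw [h, show c * (x * a) * c⁻¹ = (c * x * c⁻¹) * (c * a * c⁻¹) by group, hcx, h, ← mul_assoc,
                hsq x hxS, one_mul]
            calc c ^ (2 * (k + 1)) * a * (c ^ (2 * (k + 1)))⁻¹
                = c ^ (2 * k) * (c * (c * a * c⁻¹) * c⁻¹) * (c ^ (2 * k))⁻¹ := by
                  rw [mul_add, pow_add]; simp [pow_two, mul_assoc]
              _ = a := by rw [h2, ih]
        obtain ⟨k, hk⟩ : Odd (P.relIndex C) := Nat.odd_iff.2 (Nat.two_dvd_ne_zero.1 hodd)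
        have hodd' : c ^ P.relIndex C * a * (c ^ P.relIndex C)⁻¹ = a :=
          mul_inv_eq_iff_eq_mul.2 (hcomm _ hpow a haP)
        rw [hk, add_comm (2 * k) 1, pow_add, pow_one, mul_inv_rev, show c * c ^ (2 * k) * a * ((c ^ (2 * k))⁻¹ * c⁻¹) =
          c * (c ^ (2 * k) * a * (c ^ (2 * k))⁻¹) * c⁻¹ by group, heven, h] at hodd'
        exact (fun h => by rw [h, orderOf_one] at hx; omega : x ≠ 1) (mul_eq_right.1 hodd')
    refine mem_centralizer_iff.2 fun u hu => ?_
    have ca : Commute c a := mul_inv_eq_iff_eq_mul.1 hca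
    have cx : Commute c x := mul_inv_eq_iff_eq_mul.1 hcx
    rcases hall u hu with rfl | rfl | rfl | rfl
    · simp
    · exact cx.symm.eq
    · exact ca.symm.eq
    · exact (cx.mul_right ca).symm.eq
  -- the index of the normalizer
  set N := Subgroup.normalizer (P : Set G) with hN
  have hCN : C ≤ N := hCC ▸ Subgroup.centralizer_le_normalizer _
  have hno : ¬ N ≤ C := fun h => by
    rw [hCC] at h
    refine hncomp ⟨(MonoidHom.transferSylow S h).ker, inferInstance, ?_⟩
    have h1 := (MonoidHom.ker_transferSylow_isComplement' S h).card_mul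
    rw [hg₀, h4, mul_comm 4] at h1
    exact Nat.eq_of_mul_eq_mul_right (by norm_num) h1
  have hconj : ∀ n ∈ N, n * x * n⁻¹ = x ∨ n * x * n⁻¹ = a ∨ n * x * n⁻¹ = x * a := fun n hn' => by
    rcases hall _ ((mem_normalizer_iff.1 hn' x).1 hxS) with h | h | h | h
    · exact absurd (conj_eq_one_iff.1 h) (fun h => by rw [h, orderOf_one] at hx; omega)
    · exact Or.inl h
    · exact Or.inr (Or.inl h)
    · exact Or.inr (Or.inr h)
  have hNC : C.relIndex N = 3 := by
    have hle3 : C.relIndex N ≤ 3 := by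
      rw [Subgroup.relIndex, Subgroup.index_eq_card]
      have hinj : ∀ g h : N, (g : G) * x * (g : G)⁻¹ = h * x * (h : G)⁻¹ →
          (QuotientGroup.mk g : N ⧸ C.subgroupOf N) = QuotientGroup.mk h := fun g h e => by
        rw [QuotientGroup.eq, mem_subgroupOf, Subgroup.coe_mul, Subgroup.coe_inv, mem_centralizer_singleton_iff]
        calc (g : G)⁻¹ * h * x = (g : G)⁻¹ * (h * x * (h : G)⁻¹) * h := by group
          _ = x * ((g : G)⁻¹ * h) := by rw [← e]; group
      obtain ⟨r, hr⟩ : ∃ r : N ⧸ C.subgroupOf N → N, ∀ q, QuotientGroup.mk (r q) = q :=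
        ⟨_, Function.surjInv_eq QuotientGroup.mk_surjective⟩
      let f : N ⧸ C.subgroupOf N → {g : G // g ∈ ({x, a, x * a} : Finset G)} := fun q =>
        ⟨(r q : G) * x * (r q : G)⁻¹, by
          rcases hconj _ (r q).2 with h | h | h <;> rw [h] <;>
            simp only [Finset.mem_insert, Finset.mem_singleton, true_or, or_true]⟩
      have hf : Function.Injective f := fun q s hqs => by
        rw [← hr q, ← hr s]
        exact hinj _ _ (congrArg Subtype.val hqs)
      refine (Nat.card_le_card_of_injective f hf).trans ?_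
      rw [Nat.card_eq_fintype_card, Fintype.card_coe]
      exact Finset.card_le_three
    have hodd3 : ¬ 2 ∣ C.relIndex N := fun h => S.not_dvd_index (h.trans
      (((Subgroup.relIndex_dvd_index_of_le hCN)).trans
        (Subgroup.index_dvd_of_le (hle : (S : Subgroup G) ≤ C))))
    have h1 : C.relIndex N ≠ 1 := fun h => hno (Subgroup.relIndex_eq_one.1 h)
    omega
  have hNtop : N ≠ ⊤ := fun h => by
    rcases (Subgroup.normalizer_eq_top_iff.1 h : P.Normal).eq_bot_or_eq_top with e | e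
    · rw [e, Subgroup.card_bot] at h4; omega
    · exact hnc fun a b => hcomm a (e ▸ mem_top a) b (e ▸ mem_top b)
  obtain ⟨f, hf⟩ := Cfsg.Lib.Small.exists_hom_alternating_index hnc N hNtop
  have hcardA : Nat.card (alternatingGroup (Fin 5)) = 60 := by
    have : Nontrivial (Fin 5) := inferInstance
    rw [Nat.card_eq_fintype_card, card_alternatingGroup, Fintype.card_fin]
    rfl
  have hG : Nat.card G = 3 * Nat.card C * N.index := by
    rw [← N.card_mul_index, ← Subgroup.card_mul_index (C.subgroupOf N),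
      Nat.card_congr (subgroupOfEquivOfLe hCN).toEquiv, ← Subgroup.relIndex, hNC, mul_comm 3]
  have hC4 : 4 ≤ Nat.card C := h4 ▸ card_le_of_le (hle : P ≤ C)
  have hm5 : 5 ≤ N.index := by
    by_contra h
    have h1 := Nat.card_le_card_of_injective f hf
    have h2 : Nat.card (alternatingGroup (Fin N.index)) ≤ Nat.card (Equiv.Perm (Fin N.index)) :=
      Subgroup.card_le_card_group _
    rw [Nat.card_perm, Nat.card_fin] at h2
    have h3 : 1 ≤ N.index := Nat.one_le_iff_ne_zero.2 Subgroup.index_ne_zero_of_finite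
    have h4' : (N.index).factorial ≤ 24 := Nat.factorial_le (show N.index ≤ 4 by omega)
    have hi1 : N.index ≠ 1 := fun h => hNtop (Subgroup.index_eq_one.1 h)
    have h5 := h1.trans h2
    rcases (show N.index = 2 ∨ N.index = 3 ∨ N.index = 4 by omega) with e | e | e <;>
      rw [hG, e] at h5 <;> simp only [Nat.factorial] at h5 <;> omega
  -- the principal block
  obtain ⟨M, hM⟩ := Cfsg.Lib.Blocks.exists_isPModular (p := 2) Nat.prime_two
  obtain ⟨ε, hcard, hε1, hε⟩ := Cfsg.Lib.Blocks.klein_values (M := M) h4 hexp hM hone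
  set B := Finset.univ.filter (fun φ : Cfsg.IrrCharacter G => φ ∈ Cfsg.principalBlock M G) with hB
  have hpr : Cfsg.Lib.Chars.principal G ∈ B :=
    Finset.mem_filter.2 ⟨Finset.mem_univ _, Cfsg.Lib.Blocks.mem_blockOf_self hM (Cfsg.Lib.Chars.principal G)⟩
  obtain ⟨χ₁, χ₂, χ₃, n12, n13, n23, hT⟩ := Finset.card_eq_three.1
    (show (B.erase (Cfsg.Lib.Chars.principal G)).card = 3 by rw [Finset.card_erase_of_mem hpr, hcard])
  have hdata : ∀ φ ∈ B.erase (Cfsg.Lib.Chars.principal G),
      ((ε φ = 1 ∧ 5 ≤ (Cfsg.Lib.Chars.deg (φ : G → ℂ) : ℤ)) ∨ (ε φ = -1 ∧ 3 ≤ (Cfsg.Lib.Chars.deg (φ : G → ℂ) : ℤ))) ∧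
        (4 : ℤ) ∣ (Cfsg.Lib.Chars.deg (φ : G → ℂ) : ℤ) - ε φ ∧ (φ : G → ℂ) x = (ε φ : ℂ) := by
    intro φ hφ
    obtain ⟨hne, hφB⟩ := Finset.mem_erase.1 hφ
    obtain ⟨hs, hv⟩ := hε φ (Finset.mem_filter.1 hφB).2
    have hd := Cfsg.Lib.Blocks.klein_deg_congr h4 hexp hM hone hv
    have hpos := Cfsg.Lib.Chars.deg_irr_pos φ
    have h1 : Cfsg.Lib.Chars.deg (φ : G → ℂ) ≠ 1 := fun h1 => by
      obtain ⟨ψ, hψ⟩ := Cfsg.Lib.Chars.exists_hom_of_deg_one (Cfsg.Lib.Chars.isCharacter_of_irr φ.2)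
        (by rw [Cfsg.Lib.Chars.irr_apply_one_eq_deg, h1, Nat.cast_one])
      refine hne (Subtype.ext ?_)
      rw [hψ]
      funext g
      rw [Cfsg.Lib.Small.eq_one_of_monoidHom hnc ψ g, Units.val_one]
      rfl
    refine ⟨?_, hd, hv x (by rw [hx])⟩
    rcases hs with e | e <;> rw [e] at hd <;> [left; right] <;> refine ⟨e, ?_⟩ <;> omega
  have hB4 : B = {Cfsg.Lib.Chars.principal G, χ₁, χ₂, χ₃} := by
    rw [← Finset.insert_erase hpr, hT]
  have m1 : χ₁ ∈ B.erase (Cfsg.Lib.Chars.principal G) := by rw [hT]; simp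
  have m2 : χ₂ ∈ B.erase (Cfsg.Lib.Chars.principal G) := by rw [hT]; simp
  have m3 : χ₃ ∈ B.erase (Cfsg.Lib.Chars.principal G) := by rw [hT]; simp
  obtain ⟨o1, d1, v1⟩ := hdata _ m1
  obtain ⟨o2, d2, v2⟩ := hdata _ m2
  obtain ⟨o3, d3, v3⟩ := hdata _ m3
  have e1 := (Finset.mem_erase.1 m1).1
  have e2 := (Finset.mem_erase.1 m2).1
  have e3 := (Finset.mem_erase.1 m3).1
  set x₁ := Cfsg.Lib.Chars.deg (χ₁ : G → ℂ) with hx₁
  set x₂ := Cfsg.Lib.Chars.deg (χ₂ : G → ℂ) with hx₂
  set x₃ := Cfsg.Lib.Chars.deg (χ₃ : G → ℂ) with hx₃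
  have hprin : ∀ g : G, (Cfsg.Lib.Chars.principal G : G → ℂ) g = 1 := fun g => rfl
  have hrel : (1 : ℤ) + ε χ₁ * x₁ + ε χ₂ * x₂ + ε χ₃ * x₃ = 0 := by
    have hPB : Cfsg.IsPBlock M (Cfsg.principalBlock M G) :=
      Cfsg.Lib.Blocks.isPBlock_blockOf (Cfsg.Lib.Chars.principal G)
    have h := Cfsg.Lib.Blocks.block_orthogonality_regular hM hPB
      (show ¬ 2 ∣ orderOf (1 : G) by rw [orderOf_one]; norm_num) (show 2 ∣ orderOf x by rw [hx])
    rw [← hB, hB4, Finset.sum_insert (by simp [e1.symm, e2.symm, e3.symm]),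
      Finset.sum_insert (by simp [n12, n13]), Finset.sum_pair n23, hprin, hprin, v1, v2, v3] at h
    simp only [Cfsg.Lib.Chars.irr_apply_one_eq_deg, map_intCast, map_one, mul_one, ← hx₁, ← hx₂, ← hx₃] at h
    apply Int.cast_injective (α := ℂ)
    push_cast
    linear_combination h
  have hF := Cfsg.Lib.Blocks.klein_order_formula (M := M) h4 hexp hM hone hxS hx
  rw [← hB, hB4, Finset.sum_insert (by simp [e1.symm, e2.symm, e3.symm]),
    Finset.sum_insert (by simp [n12, n13]), Finset.sum_pair n23, hprin, hprin, v1, v2, v3, ← hCC, hG] at hF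
  simp only [Cfsg.Lib.Chars.irr_apply_one_eq_deg, ← hx₁, ← hx₂, ← hx₃] at hF
  have p1 : (x₁ : ℂ) ≠ 0 := Nat.cast_ne_zero.2 (Cfsg.Lib.Chars.deg_irr_pos χ₁).ne'
  have p2 : (x₂ : ℂ) ≠ 0 := Nat.cast_ne_zero.2 (Cfsg.Lib.Chars.deg_irr_pos χ₂).ne'
  have p3 : (x₃ : ℂ) ≠ 0 := Nat.cast_ne_zero.2 (Cfsg.Lib.Chars.deg_irr_pos χ₃).ne'
  have hc0 : (Nat.card C : ℂ) ≠ 0 := Nat.cast_ne_zero.2 Nat.card_pos.ne'
  have hF' : 3 * (N.index : ℤ) * (x₁ * x₂ * x₃ + ε χ₁ * (x₂ * x₃) + ε χ₂ * (x₁ * x₃) + ε χ₃ * (x₁ * x₂)) =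
      8 * (x₁ * x₂ * x₃) := by
    apply Int.cast_injective (α := ℂ)
    push_cast at hF ⊢
    field_simp at hF
    refine mul_left_cancel₀ (pow_ne_zero 3 hc0) ?_
    linear_combination -hF
  have hidx : N.index = 5 := by
    exact_mod_cast arith (m := (N.index : ℤ)) (by exact_mod_cast hm5) o1 o2 o3 d2 d1 d3 hrel hF'
  have h1 := Nat.card_le_card_of_injective f hf
  rw [hidx] at h1 hG
  rw [hcardA] at h1
  have h60 : Nat.card G = 60 := by omega
  exact Cfsg.Lib.Classical.SixtyGroup.iso_alt_five inferInstance h60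

end Cfsg.Lib.KleinCent
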