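import Cfsg.Agent.InvolCalc.Dihedral

/-!
Involution pairs with a given product, real elements, and small consequences.
-/

set_option autoImplicit false

namespace Cfsg.Lib.InvolCalc

open Classical in
theorem card_real {G : Type*} [Group G] {x : G} (hreal : IsConj x x⁻¹) :
    Nat.card {g : G // g * x * g⁻¹ = x⁻¹} = Nat.card (Subgroup.centralizer ({x} : Set G)) := by
  obtain ⟨g₀, hg₀⟩ := isConj_iff.mp hreal
  refine Nat.card_congr ((Equiv.mulLeft g₀⁻¹).subtypeEquiv fun g => ?_)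
  show _ ↔ g₀⁻¹ * g ∈ Subgroup.centralizer ({x} : Set G)
  rw [Subgroup.mem_centralizer_singleton_iff]
  constructor
  · intro h
    calc g₀⁻¹ * g * x = g₀⁻¹ * (g * x * g⁻¹) * g := by group
      _ = g₀⁻¹ * (g₀ * x * g₀⁻¹) * g := by rw [h, hg₀]
      _ = x * (g₀⁻¹ * g) := by group
  · intro h
    calc g * x * g⁻¹ = g₀ * (g₀⁻¹ * g * x) * g⁻¹ := by group
      _ = g₀ * (x * (g₀⁻¹ * g)) * g⁻¹ := by rw [h]
      _ = g₀ * x * g₀⁻¹ := by group
      _ = x⁻¹ := hg₀

variable {G : Type*} [Group G] [Finite G]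

theorem pair_invert {x : G} {u v : G} (hu : orderOf u = 2) (hv : orderOf v = 2) (h : u * v = x) :
    u * x * u⁻¹ = x⁻¹ := h ▸ flip_mul hu hv

theorem card_pairs_eq {x : G} (hx : x ^ 2 ≠ 1) :
    Nat.card {p : G × G // orderOf p.1 = 2 ∧ orderOf p.2 = 2 ∧ p.1 * p.2 = x} =
      Nat.card {t : G // orderOf t = 2 ∧ t * x * t⁻¹ = x⁻¹} := by
  refine Nat.card_congr
    { toFun := fun p => ⟨p.1.1, p.2.1, pair_invert p.2.1 p.2.2.1 p.2.2.2⟩
      invFun := fun t => ⟨(t.1, t.1 * x), t.2.1, ?_, ?_⟩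
      left_inv := fun p => Subtype.ext (Prod.ext rfl ?_)
      right_inv := fun t => rfl }
  · refine order_two_of_mul_self ?_ fun h => hx ?_
    · have h1 := t.2.2
      rw [inv_of_order_two t.2.1] at h1
      calc t.1 * x * (t.1 * x) = t.1 * x * t.1 * x := by group
        _ = 1 := by rw [h1, inv_mul_cancel]
    · rw [show x = t.1 from (inv_eq_of_mul_eq_one_right h).symm.trans (inv_of_order_two t.2.1), sq,
        sq_of_order_two t.2.1]
  · rw [← mul_assoc, sq_of_order_two t.2.1, one_mul]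
  · show p.1.1 * x = p.1.2
    have h := p.2.2.2
    calc p.1.1 * x = p.1.1 * (p.1.1 * p.1.2) := by rw [h]
      _ = p.1.2 := by rw [← mul_assoc, sq_of_order_two p.2.1, one_mul]

theorem card_pairs_involution {x : G} (hx : orderOf x = 2) :
    Nat.card {p : G × G // orderOf p.1 = 2 ∧ orderOf p.2 = 2 ∧ p.1 * p.2 = x} + 1 =
      Nat.card {t : G // orderOf t = 2 ∧ Commute t x} := by
  classical
  rw [← Finite.card_option]
  refine Nat.card_congr (Equiv.ofBijective (fun o : Option _ => o.elim (⟨x, hx, Commute.refl x⟩ : {t : G // orderOf t = 2 ∧ Commute t x})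
    fun p => ⟨p.1.1, p.2.1, ?_⟩) ⟨?_, ?_⟩)
  · have h := pair_invert p.2.1 p.2.2.1 p.2.2.2
    rw [inv_of_order_two hx] at h
    exact mul_inv_eq_iff_eq_mul.mp h
  · rintro (_ | ⟨⟨u, v⟩, hu, hv, huv⟩) (_ | ⟨⟨u', v'⟩, hu', hv', huv'⟩) h
    · rfl
    · have h1 : x = u' := congrArg Subtype.val h
      subst h1
      exact absurd (mul_eq_left.mp huv') (ne_one_of_order_two hv')
    · have h1 : u = x := congrArg Subtype.val h
      subst h1
      exact absurd (mul_eq_left.mp huv) (ne_one_of_order_two hv)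
    · have h1 : u = u' := congrArg Subtype.val h
      subst h1
      have h2 : v = v' := mul_left_cancel (huv.trans huv'.symm)
      subst h2
      rfl
  · rintro ⟨t, ht, htx⟩
    rcases eq_or_ne t x with rfl | hne
    · exact ⟨none, rfl⟩
    refine ⟨some ⟨(t, t * x), ht, ?_, ?_⟩, rfl⟩
    · refine order_two_of_mul_self ?_ fun h => hne ?_
      · rw [mul_assoc, ← mul_assoc x, ← htx.eq, mul_assoc t x x, sq_of_order_two hx, mul_one,
          sq_of_order_two ht]
      · rw [← inv_of_order_two hx, eq_inv_of_mul_eq_one_left h]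
    · show t * (t * x) = x
      rw [← mul_assoc, sq_of_order_two ht, one_mul]

theorem pairs_bound (x : G) :
    Nat.card {p : G × G // orderOf p.1 = 2 ∧ orderOf p.2 = 2 ∧ p.1 * p.2 = x} ≤
        Nat.card (Subgroup.centralizer ({x} : Set G)) ∧
      (¬ IsConj x x⁻¹ →
        Nat.card {p : G × G // orderOf p.1 = 2 ∧ orderOf p.2 = 2 ∧ p.1 * p.2 = x} = 0) ∧
      (orderOf x = 2 → Nat.card {p : G × G // orderOf p.1 = 2 ∧ orderOf p.2 = 2 ∧ p.1 * p.2 = x} + 2 ≤
        Nat.card (Subgroup.centralizer ({x} : Set G))) := by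
  classical
  have hz : ¬ IsConj x x⁻¹ →
      Nat.card {p : G × G // orderOf p.1 = 2 ∧ orderOf p.2 = 2 ∧ p.1 * p.2 = x} = 0 := fun h => by
    haveI : IsEmpty {p : G × G // orderOf p.1 = 2 ∧ orderOf p.2 = 2 ∧ p.1 * p.2 = x} :=
      ⟨fun p => h (isConj_iff.mpr ⟨_, pair_invert p.2.1 p.2.2.1 p.2.2.2⟩)⟩
    exact Nat.card_of_isEmpty
  refine ⟨?_, hz, fun hx => ?_⟩
  · by_cases hreal : IsConj x x⁻¹
    · rw [← card_real hreal]
      refine Nat.card_le_card_of_injective
        (fun p => ⟨p.1.1, pair_invert p.2.1 p.2.2.1 p.2.2.2⟩) fun p q h => ?_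
      have h1 : p.1.1 = q.1.1 := congrArg Subtype.val h
      refine Subtype.ext (Prod.ext h1 ?_)
      have h2 := p.2.2.2.trans q.2.2.2.symm
      rw [h1] at h2
      exact mul_left_cancel h2
    · rw [hz hreal]; exact Nat.zero_le _
  · rw [show ∀ n, n + 2 = n + 1 + 1 from fun n => rfl, card_pairs_involution hx, ← Finite.card_option]
    refine Nat.card_le_card_of_injective (fun o : Option _ => o.elim (1 : Subgroup.centralizer ({x} : Set G))
      fun t => ⟨t.1, Subgroup.mem_centralizer_singleton_iff.mpr t.2.2.eq⟩) ?_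
    rintro (_ | ⟨a, ha⟩) (_ | ⟨b, hb⟩) h
    · rfl
    · exact absurd (congrArg Subtype.val h).symm (ne_one_of_order_two hb.1)
    · exact absurd (congrArg Subtype.val h) (ne_one_of_order_two ha.1)
    · have h1 : a = b := congrArg Subtype.val h
      subst h1
      rfl

theorem even_of_real {x : G} (hx : x ≠ 1) (hreal : IsConj x x⁻¹) : Even (Nat.card G) := by
  by_contra hodd
  rw [Nat.not_even_iff_odd] at hodd
  obtain ⟨g, hg⟩ := isConj_iff.mp hreal
  obtain ⟨k, hk⟩ := hodd
  have hg2 : g ^ 2 * x * (g ^ 2)⁻¹ = x := by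
    calc g ^ 2 * x * (g ^ 2)⁻¹ = g * (g * x * g⁻¹) * g⁻¹ := by rw [sq]; group
      _ = g * x⁻¹ * g⁻¹ := by rw [hg]
      _ = (g * x * g⁻¹)⁻¹ := by group
      _ = x := by rw [hg, inv_inv]
  have hc : Commute (g ^ 2) x := mul_inv_eq_iff_eq_mul.mp hg2
  have hgk : g = (g ^ 2) ^ (k + 1) := by
    rw [← pow_mul, show 2 * (k + 1) = Nat.card G + 1 by omega, pow_succ, pow_card_eq_one', one_mul]
  have hcg : Commute g x := hgk ▸ hc.pow_left _
  rw [hcg.eq, mul_inv_cancel_right] at hg
  have h2 : x ^ 2 = 1 := by rw [sq]; conv_lhs => arg 2; rw [hg]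
                            exact mul_inv_cancel x
  have h3 : orderOf x = 2 := orderOf_eq_prime h2 hx
  have := orderOf_dvd_natCard x
  rw [h3] at this
  omega

theorem exists_inverting {x : G} (hx : x ≠ 1) (hreal : IsConj x x⁻¹)
    (hodd : Odd (Nat.card (Subgroup.centralizer ({x} : Set G)))) :
    ∃ t : G, orderOf t = 2 ∧ t * x * t⁻¹ = x⁻¹ := by
  have hxC : x ∈ Subgroup.centralizer ({x} : Set G) := Subgroup.mem_centralizer_singleton_iff.mpr rfl
  have hxodd : Odd (orderOf x) := hodd.of_dvd_nat (Subgroup.orderOf_dvd_natCard _ hxC)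
  obtain ⟨g, hg⟩ := isConj_iff.mp hreal
  have hpow : ∀ k : ℕ, g ^ k * x * (g ^ k)⁻¹ = if Even k then x else x⁻¹ := by
    intro k
    induction k with
    | zero => simp
    | succ k ih =>
      rw [pow_succ', show g * g ^ k * x * (g * g ^ k)⁻¹ = g * (g ^ k * x * (g ^ k)⁻¹) * g⁻¹ by group, ih]
      by_cases h : Even k
      · rw [if_pos h, if_neg (by rw [Nat.even_add_one, not_not]; exact h), hg]
      · rw [if_neg h, if_pos (Nat.even_add_one.mpr h), ← conj_inv, hg, inv_inv]
  obtain ⟨e, m, hm, hem⟩ := Nat.exists_eq_two_pow_mul_odd (orderOf_pos g).ne'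
  set t := g ^ m
  have ht : t * x * t⁻¹ = x⁻¹ := by rw [hpow, if_neg (Nat.not_even_iff_odd.mpr hm)]
  have hto : t ^ (2 ^ e) = 1 := by rw [← pow_mul, mul_comm, ← hem, pow_orderOf_eq_one]
  have ht2 : t * t = 1 := by
    have hmem : t * t ∈ Subgroup.centralizer ({x} : Set G) := by
      rw [Subgroup.mem_centralizer_singleton_iff, ← mul_inv_eq_iff_eq_mul, ← pow_add, hpow,
        if_pos ⟨m, rfl⟩]
    have h1 : orderOf (t * t) ∣ 2 ^ e := orderOf_dvd_of_pow_eq_one (by
      rw [(Commute.refl t).mul_pow, hto, one_mul])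
    have h2 : Odd (orderOf (t * t)) := hodd.of_dvd_nat (Subgroup.orderOf_dvd_natCard _ hmem)
    exact orderOf_eq_one_iff.mp
      (Nat.eq_one_of_dvd_coprimes ((Nat.coprime_two_left.mpr h2).pow_left e) h1 (dvd_refl _))
  refine ⟨t, order_two_of_mul_self ht2 fun h1 => hx ?_, ht⟩
  rw [h1, one_mul, inv_one, mul_one] at ht
  refine orderOf_eq_one_iff.mp (Nat.eq_one_of_dvd_coprimes (Nat.coprime_two_left.mpr hxodd)
    (orderOf_dvd_of_pow_eq_one ?_) (dvd_refl _))
  rw [sq]
  conv_lhs => arg 2; rw [ht]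
  exact mul_inv_cancel x

theorem exists_strongly_real (H : Subgroup G)
    (hH : Nat.card G < Nat.card H * (Nat.card {t : G // orderOf t = 2} + 1)) :
    ∃ h : G, h ∈ H ∧ h ≠ 1 ∧ ∃ t : G, orderOf t = 2 ∧ t * h * t⁻¹ = h⁻¹ := by
  classical
  let f : Option {t : G // orderOf t = 2} → G ⧸ H := fun o => QuotientGroup.mk (o.elim 1 Subtype.val)
  have hni : ¬ Function.Injective f := fun h => by
    have h1 := Nat.card_le_card_of_injective f h
    rw [Finite.card_option] at h1
    have h2 := Subgroup.card_eq_card_quotient_mul_card_subgroup H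
    have h3 := Nat.mul_le_mul_right (Nat.card H) h1
    rw [mul_comm] at hH
    omega
  simp only [Function.Injective, not_forall] at hni
  obtain ⟨a, b, hab, hne⟩ := hni
  have key : ∀ t : {t : G // orderOf t = 2}, ∀ o : Option {t : G // orderOf t = 2},
      f (some t) = f o → o ≠ some t → ∃ h : G, h ∈ H ∧ h ≠ 1 ∧ ∃ t : G, orderOf t = 2 ∧ t * h * t⁻¹ = h⁻¹ := by
    rintro t (_ | s) h hne
    · refine ⟨t.1, ?_, ne_one_of_order_two t.2, t.1, t.2, by group; rw [zpow_neg_one, inv_of_order_two t.2]⟩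
      have := QuotientGroup.eq.mp h
      simpa using this
    · have hmem := QuotientGroup.eq.mp h
      change t.1⁻¹ * s.1 ∈ H at hmem
      rw [inv_of_order_two t.2] at hmem
      refine ⟨_, hmem, fun h1 => hne (congrArg some (Subtype.ext ?_)), t.1, t.2, flip_mul t.2 s.2⟩
      rw [← inv_of_order_two t.2, eq_inv_of_mul_eq_one_right h1]
  rcases a with _ | t
  · rcases b with _ | s
    · exact absurd rfl hne
    · exact key s none hab.symm hne
  · exact key t b hab (Ne.symm hne)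

end Cfsg.Lib.InvolCalc
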