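/-
Groups with elementary abelian involution centralisers: the action on the cosets of `N(T)`.
-/
import Cfsg.Agent.InvolCalc.StronglyEmbedded
import Cfsg.Agent.S1225
import Cfsg.Agent.S1226
import Mathlib

set_option autoImplicit false
set_option linter.style.haveILetI false
set_option linter.unusedSectionVars false

namespace Cfsg.Lib.ElemCent

open Subgroup Cfsg.Lib.InvolCalc Cfsg.Lib.StrongEmb

universe u

variable {G : Type u} [Group G] [Finite G]

/-- The standing hypothesis. -/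
structure Setup (T : Sylow 2 G) : Prop where
  nc : ¬ IsCyclic (T : Subgroup G)
  nn : ¬ (T : Subgroup G).Normal
  cent : ∀ t : G, orderOf t = 2 → IsMulCommutative (Subgroup.centralizer ({t} : Set G)) ∧
    ∀ c ∈ Subgroup.centralizer ({t} : Set G), c ^ 2 = 1

variable {T : Sylow 2 G} (S : Setup T)

/-- The normalizer of `T`. -/
abbrev Nor (T : Sylow 2 G) : Subgroup G := Subgroup.normalizer ((T : Subgroup G) : Set G)

/-- The two point stabiliser. -/
abbrev Dd (T : Sylow 2 G) (u : G) : Subgroup G := Nor T ⊓ (Nor T).map (MulAut.conj u).toMonoidHom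

include S

theorem strong : Cfsg.IsStronglyEmbedded (Nor T) := Cfsg.Agent.S1226.result T S.nc S.nn S.cent

omit S in
theorem le_nor : (T : Subgroup G) ≤ Nor T := Subgroup.le_normalizer

theorem T_ne_bot : (T : Subgroup G) ≠ ⊥ := fun h => S.nn (by rw [h]; infer_instance)

theorem exists_inv_T : ∃ z ∈ (T : Subgroup G), orderOf z = 2 := by
  haveI : Nontrivial (T : Subgroup G) := (Subgroup.nontrivial_iff_ne_bot _).2 (T_ne_bot S)
  obtain ⟨k, hk, hkc⟩ := T.isPGroup'.nontrivial_iff_card.mp inferInstance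
  exact exists_involution_of_even (even_iff_two_dvd.2 (hkc ▸ dvd_pow_self 2 (by omega)))

theorem comm_sq : (∀ a ∈ (T : Subgroup G), ∀ b ∈ (T : Subgroup G), a * b = b * a) ∧
    ∀ a ∈ (T : Subgroup G), a * a = 1 := by
  haveI : Fact (Nat.Prime 2) := ⟨Nat.prime_two⟩
  haveI : Nontrivial (T : Subgroup G) := (Subgroup.nontrivial_iff_ne_bot _).2 (T_ne_bot S)
  obtain ⟨⟨⟨z, hzT⟩, hzc⟩, hz⟩ : ∃ z : Subgroup.center (T : Subgroup G), orderOf z = 2 := by
    haveI := T.isPGroup'.center_nontrivial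
    obtain ⟨i, hi, hic⟩ :=
      ((T.isPGroup').to_subgroup (Subgroup.center _)).nontrivial_iff_card.mp inferInstance
    exact exists_prime_orderOf_dvd_card' 2 (hic ▸ dvd_pow_self 2 (by omega))
  rw [Subgroup.orderOf_mk, Subgroup.orderOf_mk] at hz
  have hzcomm : ∀ a ∈ (T : Subgroup G), a ∈ Subgroup.centralizer ({z} : Set G) := fun a ha =>
    Subgroup.mem_centralizer_singleton_iff.2 (congrArg Subtype.val (Subgroup.mem_center_iff.1 hzc ⟨a, ha⟩))
  exact ⟨fun a ha b hb => congrArg Subtype.val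
    ((S.cent z hz).1.is_comm.comm ⟨a, hzcomm a ha⟩ ⟨b, hzcomm b hb⟩),
    fun a ha => by rw [← pow_two]; exact (S.cent z hz).2 a (hzcomm a ha)⟩

theorem order_two {a : G} (ha : a ∈ (T : Subgroup G)) (h1 : a ≠ 1) : orderOf a = 2 :=
  order_two_of_mul_self ((comm_sq S).2 a ha) h1

theorem cent_eq {t : G} (ht : t ∈ (T : Subgroup G)) (hto : orderOf t = 2) :
    Subgroup.centralizer ({t} : Set G) = (T : Subgroup G) := by
  refine T.is_maximal' (fun c => ⟨1, ?_⟩)
    (fun a ha => Subgroup.mem_centralizer_singleton_iff.2 ((comm_sq S).1 a ha t ht))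
  exact Subtype.ext (by simpa using (S.cent t hto).2 c c.2)

omit S in
theorem mem_T_of_pow {a : G} (ha : a ∈ Nor T) {k : ℕ} (hk : a ^ 2 ^ k = 1) : a ∈ (T : Subgroup G) := by
  haveI : Fact (Nat.Prime 2) := ⟨Nat.prime_two⟩
  obtain ⟨i, -, hi⟩ := (Nat.dvd_prime_pow Nat.prime_two).1 (orderOf_dvd_of_pow_eq_one hk)
  have hp : IsPGroup 2 (Subgroup.zpowers a) := IsPGroup.of_card (n := i) (by rw [Nat.card_zpowers, hi])
  have hle : Subgroup.zpowers a ≤ Nor T := by rwa [Subgroup.zpowers_le]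
  rw [← T.is_maximal' (hp.to_sup_of_normal_right' T.isPGroup' hle) le_sup_right]
  exact Subgroup.mem_sup_left (Subgroup.mem_zpowers a)

omit S in
theorem mem_T_of_order {a : G} (ha : a ∈ Nor T) (ho : orderOf a = 2) : a ∈ (T : Subgroup G) :=
  mem_T_of_pow ha (k := 1) (by rw [pow_one, ← ho]; exact pow_orderOf_eq_one a)

theorem card_involutions :
    Nat.card {t : G // orderOf t = 2 ∧ t ∈ Nor T} = Nat.card T - 1 := by
  classical
  haveI : Fintype G := Fintype.ofFinite G
  rw [Nat.card_congr (Equiv.subtypeEquivRight (q := fun t : G => t ∈ (T : Subgroup G) ∧ t ≠ 1) fun t =>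
    ⟨fun h => ⟨mem_T_of_order h.2 h.1, ne_one_of_order_two h.1⟩,
      fun h => ⟨order_two S h.1 h.2, le_nor h.1⟩⟩)]
  rw [Nat.card_eq_fintype_card, Fintype.card_subtype,
    show (Finset.univ.filter fun t : G => t ∈ (T : Subgroup G) ∧ t ≠ 1) =
      (Finset.univ.filter fun t : G => t ∈ (T : Subgroup G)).erase 1 from by ext t; simp [and_comm],
    Finset.card_erase_of_mem (by simp), ← Fintype.card_subtype, ← Nat.card_eq_fintype_card]

theorem four_le : 4 ≤ Nat.card T := by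
  haveI : Fact (Nat.Prime 2) := ⟨Nat.prime_two⟩
  obtain ⟨k, hk⟩ := T.isPGroup'.exists_card_eq
  rcases k with _ | _ | k
  · exact absurd (Subgroup.eq_bot_of_card_eq _ (by simpa using hk)) (T_ne_bot S)
  · exact absurd (isCyclic_of_prime_card (p := 2) (by simpa using hk)) S.nc
  · rw [hk, pow_add]; have : 1 ≤ 2 ^ k := Nat.one_le_two_pow; omega

omit S in
theorem mem_Dd_iff {u : G} (hu : orderOf u = 2) {d : G} :
    d ∈ Dd T u ↔ d • (QuotientGroup.mk 1 : G ⧸ Nor T) = QuotientGroup.mk 1 ∧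
      d • (QuotientGroup.mk u : G ⧸ Nor T) = QuotientGroup.mk u := by
  rw [mem_inf, mem_conj_iff, MulAction.Quotient.smul_mk, MulAction.Quotient.smul_mk, smul_eq_mul,
    smul_eq_mul, QuotientGroup.eq, QuotientGroup.eq, mul_one, mul_one, inv_mem_iff, ← inv_mem_iff (x := u⁻¹ * d * u)]
  simp [mul_assoc]

section

variable {u : G} (hu : orderOf u = 2) (huH : u ∉ Nor T)
include hu huH

omit S hu in
theorem mk_ne : (QuotientGroup.mk 1 : G ⧸ Nor T) ≠ QuotientGroup.mk u := fun h => huH (by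
  have := QuotientGroup.eq.1 h
  rwa [inv_one, one_mul] at this)

theorem inter_T {d : G} (hd : d ∈ Dd T u) (hdT : d ∈ (T : Subgroup G)) : d = 1 := by
  by_contra h1
  obtain ⟨ha, hb⟩ := (mem_Dd_iff hu).1 hd
  exact mk_ne huH (eq_of_fixed (strong S) (order_two S hdT h1) ha hb)

theorem card_Dd : Nat.card (Dd T u) = Nat.card T - 1 := by
  obtain ⟨z, hzT, hz⟩ := exists_inv_T S
  rw [← card_involutions S]
  have hcj : ∀ d : Dd T u, orderOf ((d : G) * z * (d : G)⁻¹) = 2 ∧ (d : G) * z * (d : G)⁻¹ ∈ Nor T :=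
    fun d => ⟨by rw [show (d : G) * z * (d : G)⁻¹ = MulAut.conj (d : G) z from rfl, MulEquiv.orderOf_eq, hz],
      mul_mem (mul_mem d.2.1 (le_nor hzT)) (inv_mem d.2.1)⟩
  refine Nat.card_eq_of_bijective (fun d => (⟨_, hcj d⟩ : {t : G // orderOf t = 2 ∧ t ∈ Nor T})) ⟨?_, ?_⟩
  · intro d e h
    have h' : (d : G) * z * (d : G)⁻¹ = (e : G) * z * (e : G)⁻¹ := congrArg Subtype.val h
    have h2 : (e : G)⁻¹ * d ∈ Subgroup.centralizer ({z} : Set G) := by
      rw [mem_centralizer_singleton_iff]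
      calc (e : G)⁻¹ * d * z = (e : G)⁻¹ * ((d : G) * z * (d : G)⁻¹) * d := by group
        _ = z * ((e : G)⁻¹ * d) := by rw [h']; group
    rw [cent_eq S hzT hz] at h2
    have := inter_T S hu huH (mul_mem (inv_mem e.2) d.2) h2
    exact Subtype.ext (inv_mul_eq_one.1 this).symm
  · rintro ⟨t, ht, htH⟩
    obtain ⟨⟨d, hd, hde⟩, -⟩ :=
      Cfsg.Agent.S1225.result (Nor T) (strong S) u hu huH z t hz (le_nor hzT) ht htH
    exact ⟨⟨d, hd⟩, Subtype.ext hde⟩

theorem inverts {d : G} (hd : d ∈ Dd T u) : u * d * u⁻¹ = d⁻¹ := by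
  classical
  set x : G ⧸ Nor T := QuotientGroup.mk 1 with hx
  set y : G ⧸ Nor T := QuotientGroup.mk u with hy
  have huu := sq_of_order_two hu
  have hux : u • x = y := by rw [hx, MulAction.Quotient.smul_mk, smul_eq_mul, mul_one]
  have huy : u • y = x := by rw [← hux, smul_smul, huu, one_smul]
  have hmem : ∀ i : {i : G // orderOf i = 2 ∧ i • x = y}, u * (i : G) ∈ Dd T u := by
    rintro ⟨i, hi, hix⟩
    show u * i ∈ Dd T u
    rw [mem_Dd_iff hu, ← hx, ← hy, mul_smul, mul_smul, hix, huy]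
    refine ⟨rfl, ?_⟩
    have hiy : i • y = x := by rw [← hix, smul_smul, sq_of_order_two hi, one_smul]
    rw [hiy, hux]
  have hinj : Function.Injective fun i : {i : G // orderOf i = 2 ∧ i • x = y} =>
      (⟨u * (i : G), hmem i⟩ : Dd T u) := fun i j h =>
    Subtype.ext (mul_left_cancel (congrArg Subtype.val h))
  obtain ⟨⟨i, hi, hix⟩, he⟩ := (hinj.bijective_of_nat_card_le (by
    rw [card_Dd S hu huH, card_swap (strong S) x y (mk_ne huH), card_involutions S])).2 ⟨d, hd⟩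
  have he' : u * i = d := congrArg Subtype.val he
  subst he'
  rw [mul_inv_rev, inv_of_order_two hu, inv_of_order_two hi, ← mul_assoc u u, huu, one_mul]

theorem Dd_comm {a b : G} (ha : a ∈ Dd T u) (hb : b ∈ Dd T u) : a * b = b * a := by
  have h1 := inverts S hu huH (mul_mem ha hb)
  rw [show u * (a * b) * u⁻¹ = (u * a * u⁻¹) * (u * b * u⁻¹) by group, inverts S hu huH ha,
    inverts S hu huH hb, mul_inv_rev] at h1
  have := congrArg (fun w => w⁻¹) h1
  simpa using this.symm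

theorem card_Nor : Nat.card (Nor T) = Nat.card T * (Nat.card T - 1) := by
  obtain ⟨z, hzT, hz⟩ := exists_inv_T S
  have hcj : ∀ p : T × Dd T u, (p.2 : G) * (p.1 : G) ∈ Nor T := fun p => mul_mem p.2.2.1 (le_nor p.1.2)
  rw [← card_Dd S hu huH, ← Nat.card_prod]
  refine (Nat.card_eq_of_bijective (fun p => (⟨_, hcj p⟩ : Nor T)) ⟨?_, ?_⟩).symm
  · rintro ⟨t, d⟩ ⟨t', d'⟩ h
    have h' : (d : G) * t = (d' : G) * t' := congrArg Subtype.val h
    have h2 : (d' : G)⁻¹ * d = (t' : G) * (t : G)⁻¹ := by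
      rw [eq_mul_inv_iff_mul_eq, mul_assoc, h']; group
    have h3 := inter_T S hu huH (mul_mem (inv_mem d'.2) d.2) (h2 ▸ mul_mem t'.2 (inv_mem t.2))
    have hd : d = d' := Subtype.ext (inv_mul_eq_one.1 h3).symm
    subst hd
    exact Prod.ext (Subtype.ext (mul_left_cancel h')) rfl
  · rintro ⟨h, hh⟩
    have hz' : orderOf (h * z * h⁻¹) = 2 := by
      rw [show h * z * h⁻¹ = MulAut.conj h z from rfl, MulEquiv.orderOf_eq, hz]
    obtain ⟨⟨d, hd, hde⟩, -⟩ := Cfsg.Agent.S1225.result (Nor T) (strong S) u hu huH z (h * z * h⁻¹) hz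
      (le_nor hzT) hz' (mul_mem (mul_mem hh (le_nor hzT)) (inv_mem hh))
    have h2 : d⁻¹ * h ∈ (T : Subgroup G) := by
      rw [← cent_eq S hzT hz, mem_centralizer_singleton_iff]
      calc d⁻¹ * h * z = d⁻¹ * (h * z * h⁻¹) * h := by group
        _ = z * (d⁻¹ * h) := by rw [← hde]; group
    exact ⟨(⟨_, h2⟩, ⟨d, hd⟩), Subtype.ext (mul_inv_cancel_left d h)⟩

theorem exists_Dd_ne_one : ∃ d ∈ Dd T u, d ≠ 1 := by
  haveI : Nontrivial (Dd T u) := by
    rw [← Finite.one_lt_card_iff_nontrivial, card_Dd S hu huH]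
    have := four_le S
    omega
  obtain ⟨⟨d, hd⟩, hne⟩ := exists_ne (1 : Dd T u)
  exact ⟨d, hd, fun h => hne (Subtype.ext h)⟩

omit hu huH in
/-- A nontrivial element of `Nor T` outside `T` is not conjugated to its inverse by `T`. -/
theorem not_inverted {t d : G} (ht : t ∈ (T : Subgroup G)) (hd : d ∈ Nor T) (hdT : d ∉ (T : Subgroup G)) :
    t * d * t⁻¹ ≠ d⁻¹ := by
  intro h
  have hc : t * (d * t⁻¹ * d⁻¹) ∈ (T : Subgroup G) :=
    mul_mem ht ((Subgroup.mem_normalizer_iff.1 hd t⁻¹).1 (inv_mem ht))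
  rw [show t * (d * t⁻¹ * d⁻¹) = t * d * t⁻¹ * d⁻¹ by group, h] at hc
  have h4 : d ^ 2 ^ 2 = 1 := by
    have h5 := (comm_sq S).2 _ hc
    have : d⁻¹ * d⁻¹ * (d⁻¹ * d⁻¹) = (d ^ 2 ^ 2)⁻¹ := by group
    rw [this] at h5
    exact inv_eq_one.1 h5
  exact hdT (mem_T_of_pow hd h4)

theorem fix_two {d : G} (hd : d ∈ Dd T u) (hd1 : d ≠ 1) {c : G ⧸ Nor T} (hc : d • c = c) :
    c = QuotientGroup.mk 1 ∨ c = QuotientGroup.mk u := by
  classical
  haveI : Fintype G := Fintype.ofFinite G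
  set x : G ⧸ Nor T := QuotientGroup.mk 1 with hx
  set y : G ⧸ Nor T := QuotientGroup.mk u with hy
  by_contra hno
  push Not at hno
  let F := {z : G ⧸ Nor T // d • z = z}
  obtain ⟨hdx, hdy⟩ := (mem_Dd_iff hu).1 hd
  let a : F := ⟨x, hdx⟩
  let b : F := ⟨y, hdy⟩
  let e : F := ⟨c, hc⟩
  -- an involution inverting `d` has no fixed point in `F`
  have hnofix : ∀ v : G, orderOf v = 2 → v * d * v⁻¹ = d⁻¹ → ∀ z : F, v • (z : G ⧸ Nor T) ≠ z := by
    rintro v hv hvd ⟨z, hz⟩ hvz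
    obtain ⟨g, rfl⟩ := QuotientGroup.mk_surjective z
    have hm : ∀ w : G, w • (QuotientGroup.mk g : G ⧸ Nor T) = QuotientGroup.mk g → g⁻¹ * w * g ∈ Nor T := by
      intro w hw
      rw [MulAction.Quotient.smul_mk, smul_eq_mul, QuotientGroup.eq] at hw
      simpa [mul_assoc] using inv_mem hw
    have hvo : orderOf (g⁻¹ * v * g) = 2 := by
      rw [show g⁻¹ * v * g = MulAut.conj g⁻¹ v by simp, MulEquiv.orderOf_eq, hv]
    refine not_inverted S (mem_T_of_order (hm v hvz) hvo) (hm d hz) (fun hT => ?_) ?_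
    · have hne : g⁻¹ * d * g ≠ 1 := fun h => hd1 (by
        have := congrArg (fun w => g * w * g⁻¹) h
        simpa [mul_assoc] using this)
      have hdo : orderOf d = 2 := by
        rw [← order_two S hT hne, show g⁻¹ * d * g = MulAut.conj g⁻¹ d by simp, MulEquiv.orderOf_eq]
      exact hd1 (inter_T S hu huH hd (mem_T_of_order hd.1 hdo))
    · rw [← show g⁻¹ * (v * d * v⁻¹) * g = g⁻¹ * v * g * (g⁻¹ * d * g) * (g⁻¹ * v * g)⁻¹ by group, hvd]
      group
  -- any two points of `F` are swapped by an involution inverting `d`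
  have hswap : ∀ z w : F, z ≠ w → ∃ v : G, orderOf v = 2 ∧ v * d * v⁻¹ = d⁻¹ ∧
      v • (z : G ⧸ Nor T) = w := by
    intro z w hzw
    obtain ⟨g, hg⟩ := QuotientGroup.mk_surjective (z : G ⧸ Nor T)
    obtain ⟨t, htH, ht⟩ := exists_involution_of_even (strong S).2.1
    have hzw' : (z : G ⧸ Nor T) ≠ w := fun h => hzw (Subtype.ext h)
    have hfx : ∀ g' : G, (g' * t * g'⁻¹) • (QuotientGroup.mk g' : G ⧸ Nor T) = QuotientGroup.mk g' :=
      fun g' => by
        rw [MulAction.Quotient.smul_mk, smul_eq_mul, QuotientGroup.eq]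
        simpa [mul_assoc] using inv_mem htH
    have hord : ∀ g' : G, orderOf (g' * t * g'⁻¹) = 2 := fun g' => by
      rw [show g' * t * g'⁻¹ = MulAut.conj g' t from rfl, MulEquiv.orderOf_eq, ht]
    obtain ⟨g', hg'⟩ := QuotientGroup.mk_surjective (w : G ⧸ Nor T)
    obtain ⟨v, hv, hvz, -, -⟩ := exists_swap (strong S) hzw' (hord g) (hg ▸ hfx g) (hord g') (hg' ▸ hfx g')
    refine ⟨v, hv, ?_, hvz⟩
    set v' := g⁻¹ * v * g with hv'
    have hv'o : orderOf v' = 2 := by
      rw [hv', show g⁻¹ * v * g = MulAut.conj g⁻¹ v by simp, MulEquiv.orderOf_eq, hv]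
    have hv'x : (v' : G) • x = g⁻¹ • (w : G ⧸ Nor T) := by
      rw [hv', mul_smul, mul_smul]
      congr 1
      rw [hx, MulAction.Quotient.smul_mk, smul_eq_mul, mul_one, hg, hvz]
    have hv'H : v' ∉ Nor T := by
      intro hmem
      have : v' • x = x := by
        rw [hx, MulAction.Quotient.smul_mk, smul_eq_mul, QuotientGroup.eq, mul_one, mul_one, inv_mem_iff]
        exact hmem
      rw [this] at hv'x
      apply hzw'
      rw [← hg, show (QuotientGroup.mk g : G ⧸ Nor T) = g • x by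
        rw [hx, MulAction.Quotient.smul_mk, smul_eq_mul, mul_one], hv'x, smul_inv_smul]
    have hd' : g⁻¹ * d * g ∈ Dd T v' := by
      rw [mem_Dd_iff hv'o, show (QuotientGroup.mk v' : G ⧸ Nor T) = v' • x by
        rw [hx, MulAction.Quotient.smul_mk, smul_eq_mul, mul_one], hv'x, ← hx, mul_smul, mul_smul,
        show g • x = (z : G ⧸ Nor T) by
          rw [hx, MulAction.Quotient.smul_mk, smul_eq_mul, mul_one, hg],
        z.2, mul_smul, mul_smul, smul_inv_smul, w.2]
      exact ⟨by rw [← hg, MulAction.Quotient.smul_mk, smul_eq_mul, inv_mul_cancel], rfl⟩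
    have := inverts S hv'o hv'H hd'
    rw [hv', show g⁻¹ * v * g * (g⁻¹ * d * g) * (g⁻¹ * v * g)⁻¹ = g⁻¹ * (v * d * v⁻¹) * g by group,
      show (g⁻¹ * d * g)⁻¹ = g⁻¹ * d⁻¹ * g by group] at this
    exact mul_left_cancel (mul_right_cancel this)
  have hab : a ≠ b := fun h => mk_ne huH (congrArg Subtype.val h)
  -- the centraliser of `d` has odd order and is transitive on `F`
  let C := Subgroup.centralizer ({d} : Set G)
  have hCodd : ¬ Even (Nat.card C) := by
    intro he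
    obtain ⟨i, hiC, hi⟩ := exists_involution_of_even he
    have hd2 := (S.cent i hi).2 d
      (mem_centralizer_singleton_iff.2 (mem_centralizer_singleton_iff.1 hiC).symm)
    exact hd1 (inter_T S hu huH hd (mem_T_of_pow hd.1 (k := 1) (by rwa [pow_one])))
  have hact : ∀ g ∈ C, ∀ z : F, d • (g • (z : G ⧸ Nor T)) = g • (z : G ⧸ Nor T) := by
    intro g hg z
    rw [smul_smul, ← mem_centralizer_singleton_iff.1 hg, ← smul_smul, z.2]
  letI : MulAction C F :=
    { smul := fun g z => ⟨(g : G) • (z : G ⧸ Nor T), hact g g.2 z⟩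
      one_smul := fun z => Subtype.ext (one_smul G (z : G ⧸ Nor T))
      mul_smul := fun g h z => Subtype.ext (mul_smul (g : G) (h : G) (z : G ⧸ Nor T)) }
  have hprod : ∀ v w : G, v * d * v⁻¹ = d⁻¹ → w * d * w⁻¹ = d⁻¹ → w * v ∈ C := by
    intro v w hv hw
    rw [mem_centralizer_singleton_iff]
    calc w * v * d = w * (v * d * v⁻¹) * v := by group
      _ = (w * d * w⁻¹)⁻¹ * (w * v) := by rw [hv]; group
      _ = d * (w * v) := by rw [hw, inv_inv]
  have htrans : ∀ z : F, z ∈ MulAction.orbit C a := by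
    intro z
    rcases eq_or_ne z a with rfl | hza
    · exact MulAction.mem_orbit_self _
    obtain ⟨w, hwa, hwz⟩ : ∃ w : F, w ≠ a ∧ w ≠ z := by
      rcases eq_or_ne z b with rfl | hzb
      · exact ⟨e, fun h => hno.1 (congrArg Subtype.val h), fun h => hno.2 (congrArg Subtype.val h)⟩
      · exact ⟨b, hab.symm, hzb.symm⟩
    obtain ⟨v₁, -, h1, h1'⟩ := hswap a w hwa.symm
    obtain ⟨v₂, -, h2, h2'⟩ := hswap w z hwz
    exact ⟨⟨v₂ * v₁, hprod v₁ v₂ h1 h2⟩, Subtype.ext
      (show (v₂ * v₁) • (a : G ⧸ Nor T) = (z : G ⧸ Nor T) by rw [mul_smul, h1', h2'])⟩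
  have hcard : Nat.card F ∣ Nat.card C := by
    have h := MulAction.card_orbit_mul_card_stabilizer_eq_card_group C a
    rw [show MulAction.orbit C a = Set.univ from Set.eq_univ_of_forall htrans] at h
    simp only [← Nat.card_eq_fintype_card] at h
    rw [Nat.card_univ] at h
    exact Dvd.intro _ h
  -- but `u` pairs off the points of `F`
  have huF : ∀ z : F, d • (u • (z : G ⧸ Nor T)) = u • (z : G ⧸ Nor T) := by
    intro z
    have h3 : d⁻¹ • (z : G ⧸ Nor T) = z := inv_smul_eq_iff.2 z.2.symm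
    have h4 : d * u = u * d⁻¹ := by
      rw [← eq_mul_inv_iff_mul_eq, inverts S hu huH (inv_mem hd), inv_inv]
    rw [smul_smul, h4, ← smul_smul, h3]
  let σ : Equiv.Perm F :=
    { toFun := fun z => ⟨u • (z : G ⧸ Nor T), huF z⟩
      invFun := fun z => ⟨u • (z : G ⧸ Nor T), huF z⟩
      left_inv := fun z => Subtype.ext (by
        show u • u • (z : G ⧸ Nor T) = z
        rw [smul_smul, sq_of_order_two hu, one_smul])
      right_inv := fun z => Subtype.ext (by
        show u • u • (z : G ⧸ Nor T) = z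
        rw [smul_smul, sq_of_order_two hu, one_smul]) }
  have hFodd : ¬ 2 ∣ Nat.card F := fun h => hCodd (even_iff_two_dvd.2 (h.trans hcard))
  rw [Nat.card_eq_fintype_card] at hFodd
  haveI : Fact (Nat.Prime 2) := ⟨Nat.prime_two⟩
  obtain ⟨z, hz⟩ := Equiv.Perm.exists_fixed_point_of_prime (n := 1) hFodd (σ := σ)
    (Equiv.ext fun z => Subtype.ext (by
      show u • u • (z : G ⧸ Nor T) = z
      rw [smul_smul, sq_of_order_two hu, one_smul]))
  exact hnofix u hu (inverts S hu huH hd) z (congrArg Subtype.val hz)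

theorem regular {c : G ⧸ Nor T} (hc : c ≠ QuotientGroup.mk 1) :
    ∃ t ∈ (T : Subgroup G), t • (QuotientGroup.mk u : G ⧸ Nor T) = c := by
  classical
  set x : G ⧸ Nor T := QuotientGroup.mk 1 with hx
  set y : G ⧸ Nor T := QuotientGroup.mk u with hy
  obtain ⟨t, htH, ht⟩ := exists_involution_of_even (strong S).2.1
  obtain ⟨g, hg⟩ := QuotientGroup.mk_surjective c
  have htx : t • x = x := by
    rw [hx, MulAction.Quotient.smul_mk, smul_eq_mul, QuotientGroup.eq, mul_one, mul_one, inv_mem_iff]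
    exact htH
  obtain ⟨v, hv, hvc, -, -⟩ := exists_swap (strong S) hc.symm ht htx
    (show orderOf (g * t * g⁻¹) = 2 by
      rw [show g * t * g⁻¹ = MulAut.conj g t from rfl, MulEquiv.orderOf_eq, ht])
    (show (g * t * g⁻¹) • c = c by
      rw [← hg, MulAction.Quotient.smul_mk, smul_eq_mul, QuotientGroup.eq]
      simpa [mul_assoc] using inv_mem htH)
  have hvH : v ∉ Nor T := by
    intro h
    apply hc
    rw [← hvc, hx, MulAction.Quotient.smul_mk, smul_eq_mul, mul_one, QuotientGroup.eq, mul_one, inv_mem_iff]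
    exact h
  obtain ⟨d', hd', hd'1⟩ := exists_Dd_ne_one S hv hvH
  -- every element of `Nor T` outside `T` fixes a point of the orbit of `u`
  let A := ↥(T : Subgroup G) × {d : Dd T u // (d : G) ≠ 1}
  have hf : ∀ p : A, (p.1 : G) * p.2.1 * (p.1 : G)⁻¹ ∈ Nor T ∧
      (p.1 : G) * p.2.1 * (p.1 : G)⁻¹ ∉ (T : Subgroup G) := by
    intro p
    refine ⟨mul_mem (mul_mem (le_nor p.1.2) p.2.1.2.1) (inv_mem (le_nor p.1.2)), fun h => p.2.2 ?_⟩
    refine inter_T S hu huH p.2.1.2 ?_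
    have := mul_mem (mul_mem (inv_mem p.1.2) h) p.1.2
    simpa [mul_assoc] using this
  let f : A → {n : Nor T // (n : G) ∉ (T : Subgroup G)} := fun p => ⟨⟨_, (hf p).1⟩, (hf p).2⟩
  have hfix : ∀ p : A, ((p.1 : G) * p.2.1 * (p.1 : G)⁻¹) • ((p.1 : G) • y) = (p.1 : G) • y := by
    intro p
    rw [smul_smul, inv_mul_cancel_right, mul_smul, hy, ((mem_Dd_iff hu).1 p.2.1.2).2]
  have hTx : ∀ s ∈ (T : Subgroup G), s • x = x := by
    intro s hs
    rw [hx, MulAction.Quotient.smul_mk, smul_eq_mul, QuotientGroup.eq, mul_one, mul_one, inv_mem_iff]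
    exact le_nor hs
  have hyx : ∀ s ∈ (T : Subgroup G), s • y ≠ x := fun s hs h => mk_ne huH (by
    rw [← hTx s hs] at h
    exact (MulAction.injective s h).symm)
  have hinj : Function.Injective f := by
    intro p p' h
    have h' : (p.1 : G) * p.2.1 * (p.1 : G)⁻¹ = (p'.1 : G) * p'.2.1 * (p'.1 : G)⁻¹ :=
      congrArg Subtype.val (congrArg Subtype.val h)
    set s := (p.1 : G)⁻¹ * p'.1 with hs
    have hsT : s ∈ (T : Subgroup G) := mul_mem (inv_mem p.1.2) p'.1.2
    have hd : (p.2.1 : G) • (s • y) = s • y := by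
      have h2 : (p.2.1 : G) = (p.1 : G)⁻¹ * ((p'.1 : G) * p'.2.1 * (p'.1 : G)⁻¹) * p.1 := by
        rw [← h']; group
      rw [h2, hs, smul_smul, show (p.1 : G)⁻¹ * ((p'.1 : G) * p'.2.1 * (p'.1 : G)⁻¹) * p.1 * ((p.1 : G)⁻¹ * p'.1) =
        (p.1 : G)⁻¹ * ((p'.1 : G) * p'.2.1) by group, mul_smul, mul_smul, hy,
        ((mem_Dd_iff hu).1 p'.2.1.2).2, mul_smul]
    have hsy : s • y = y := (fix_two S hu huH p.2.1.2 p.2.2 hd).resolve_left (hyx s hsT)
    have hs1 : s = 1 := by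
      by_contra h1
      exact mk_ne huH (eq_of_fixed (strong S) (order_two S hsT h1) (hTx s hsT) hsy)
    have e1 : p.1 = p'.1 := Subtype.ext (inv_mul_eq_one.1 hs1)
    refine Prod.ext e1 (Subtype.ext (Subtype.ext ?_))
    rw [← e1] at h'
    exact mul_left_cancel (mul_right_cancel h')
  have hcard : Nat.card {n : Nor T // (n : G) ∉ (T : Subgroup G)} ≤ Nat.card A := by
    haveI : Fintype G := Fintype.ofFinite G
    have hq := four_le S
    have e1 : Nat.card {n : Nor T // (n : G) ∉ (T : Subgroup G)} = Nat.card (Nor T) - Nat.card T := by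
      rw [Nat.card_eq_fintype_card, Fintype.card_subtype_compl]
      rw [← Nat.card_eq_fintype_card, ← Nat.card_eq_fintype_card]
      congr 1
      exact Nat.card_congr ⟨fun n => ⟨n.1, n.2⟩, fun t => ⟨⟨t.1, le_nor t.2⟩, t.2⟩,
        fun _ => rfl, fun _ => rfl⟩
    have e2 : Nat.card {d : Dd T u // (d : G) ≠ 1} = Nat.card (Dd T u) - 1 := by
      rw [Nat.card_eq_fintype_card, Fintype.card_congr (Equiv.subtypeEquivRight
        (q := fun d : Dd T u => ¬ d = 1) fun d => not_congr (by simp)),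
        Fintype.card_subtype_compl, Fintype.card_subtype_eq, Nat.card_eq_fintype_card]
    rw [e1, card_Nor S hu huH, Nat.card_prod, e2, card_Dd S hu huH]
    rw [← Nat.mul_sub_one, show Nat.card (T : Subgroup G) = Nat.card T from rfl]
  obtain ⟨p, hp⟩ := (hinj.bijective_of_nat_card_le hcard).2 ⟨⟨d', hd'.1⟩, fun h => hd'1 (inter_T S hv hvH hd' h)⟩
  have hp' : (p.1 : G) * p.2.1 * (p.1 : G)⁻¹ = d' := congrArg Subtype.val (congrArg Subtype.val hp)
  have h5 := hfix p
  rw [hp'] at h5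
  refine ⟨p.1, p.1.2, ?_⟩
  rcases fix_two S hv hvH hd' hd'1 h5 with h6 | h6
  · exact absurd h6 (hyx _ p.1.2)
  · rw [h6, ← hvc, hx, MulAction.Quotient.smul_mk, smul_eq_mul, mul_one]

end

end Cfsg.Lib.ElemCent
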