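/-
Groups with elementary abelian involution centralisers are `PSL(2, 2^n)`.
-/
import Cfsg.Agent.InvolCalc.ElemCent
import Cfsg.Agent.InvolCalc.ElemCentField
import Cfsg.Agent.S1229
import Mathlib

set_option autoImplicit false
set_option linter.style.haveILetI false

namespace Cfsg.Lib.ElemCent

open Subgroup Cfsg.Lib.InvolCalc Cfsg.Lib.StrongEmb OnePoint
open scoped MatrixGroups

universe u

/-- `SL(2, F)` acting on the projective line, as permutations. -/
noncomputable def slPerm (F : Type) [Field F] : Matrix.SpecialLinearGroup (Fin 2) F →* Equiv.Perm (OnePoint F) :=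
  letI := Classical.decEq F
  (MulAction.toPermHom (GL (Fin 2) F) (OnePoint F)).comp Matrix.SpecialLinearGroup.toGL

theorem slPerm_infty {F : Type} [Field F] [DecidableEq F] (g : Matrix.SpecialLinearGroup (Fin 2) F) :
    slPerm F g ∞ = if (g : Matrix (Fin 2) (Fin 2) F) 1 0 = 0 then ∞ else
      ((((g : Matrix (Fin 2) (Fin 2) F) 0 0 / (g : Matrix (Fin 2) (Fin 2) F) 1 0 : F)) : OnePoint F) := by
  rw [slPerm, Subsingleton.elim (Classical.decEq F) ‹DecidableEq F›]
  show (Matrix.SpecialLinearGroup.toGL g) • (∞ : OnePoint F) = _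
  rw [smul_infty_eq_ite]
  rfl

theorem slPerm_some {F : Type} [Field F] [DecidableEq F] (g : Matrix.SpecialLinearGroup (Fin 2) F) (k : F) :
    slPerm F g (k : OnePoint F) =
      if (g : Matrix (Fin 2) (Fin 2) F) 1 0 * k + (g : Matrix (Fin 2) (Fin 2) F) 1 1 = 0 then ∞ else
        (((((g : Matrix (Fin 2) (Fin 2) F) 0 0 * k + (g : Matrix (Fin 2) (Fin 2) F) 0 1) /
          ((g : Matrix (Fin 2) (Fin 2) F) 1 0 * k + (g : Matrix (Fin 2) (Fin 2) F) 1 1) : F)) : OnePoint F) := by
  rw [slPerm, Subsingleton.elim (Classical.decEq F) ‹DecidableEq F›]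
  show (Matrix.SpecialLinearGroup.toGL g) • (k : OnePoint F) = _
  rw [smul_some_eq_ite]
  rfl

theorem eq_one_of_fix {F : Type} [Field F] [CharP F 2] [DecidableEq F] (g : Matrix.SpecialLinearGroup (Fin 2) F)
    (hi : slPerm F g ∞ = ∞) (h0 : slPerm F g ((0 : F) : OnePoint F) = ((0 : F) : OnePoint F))
    (h1 : slPerm F g ((1 : F) : OnePoint F) = ((1 : F) : OnePoint F)) : g = 1 := by
  rw [slPerm_infty] at hi
  rw [slPerm_some] at h0 h1
  have h10 : (g : Matrix (Fin 2) (Fin 2) F) 1 0 = 0 := by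
    by_contra h
    rw [if_neg h] at hi
    exact coe_ne_infty _ hi
  simp only [h10, zero_mul, zero_add, mul_zero, mul_one] at h0 h1
  have hdet := g.2
  rw [Matrix.det_fin_two, h10, mul_zero, sub_zero] at hdet
  have h11 : (g : Matrix (Fin 2) (Fin 2) F) 1 1 ≠ 0 := fun h => by rw [h, mul_zero] at hdet; exact zero_ne_one hdet
  rw [if_neg h11, coe_eq_coe, div_eq_iff h11, zero_mul] at h0
  rw [if_neg h11, coe_eq_coe, div_eq_iff h11, one_mul, h0, add_zero] at h1
  rw [← h1] at hdet
  have h00 : (g : Matrix (Fin 2) (Fin 2) F) 0 0 = 1 := by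
    rcases mul_self_eq_one_iff.1 hdet with h | h
    · exact h
    · rw [h, CharTwo.neg_eq]
  have h11' : (g : Matrix (Fin 2) (Fin 2) F) 1 1 = 1 := h1 ▸ h00
  ext i j
  fin_cases i <;> fin_cases j
  · exact h00
  · exact h0
  · exact h10
  · exact h11'

theorem psl_equiv {F : Type} [Field F] [CharP F 2] :
    Nonempty (Matrix.SpecialLinearGroup (Fin 2) F ≃* Matrix.ProjectiveSpecialLinearGroup (Fin 2) F) := by
  have hc : Subgroup.center (Matrix.SpecialLinearGroup (Fin 2) F) = ⊥ := by
    rw [Subgroup.eq_bot_iff_forall]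
    intro g hg
    obtain ⟨r, hr, hrg⟩ := Matrix.SpecialLinearGroup.mem_center_iff.1 hg
    rw [Fintype.card_fin, pow_two] at hr
    have hr1 : r = 1 := by
      rcases mul_self_eq_one_iff.1 hr with h | h
      · exact h
      · rw [h, CharTwo.neg_eq]
    apply Subtype.ext
    rw [← hrg, hr1, map_one]
    rfl
  exact ⟨(QuotientGroup.quotientBot (G := Matrix.SpecialLinearGroup (Fin 2) F)).symm.trans
    (QuotientGroup.quotientMulEquivOfEq hc.symm)⟩

variable {G : Type u} [Group G] [Finite G] {T : Sylow 2 G}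

theorem psl (S : Setup T) :
    ∃ (F : Type) (_ : Field F) (_ : Fintype F), Fintype.card F = Nat.card T ∧
      Nonempty (G ≃* Matrix.ProjectiveSpecialLinearGroup (Fin 2) F) := by
  classical
  obtain ⟨h3, hfree, hreg⟩ := Cfsg.Agent.S1229.result T S.nc S.nn S.cent
  set o : G ⧸ Nor T := QuotientGroup.mk 1 with ho
  obtain ⟨u, hu, huH⟩ : ∃ u : G, orderOf u = 2 ∧ u ∉ Nor T := by
    obtain ⟨z, hzT, hz⟩ := exists_inv_T S
    obtain ⟨g, hg⟩ : ∃ g : G, g ∉ Nor T := by
      by_contra h
      push Not at h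
      exact (strong S).1 ((Subgroup.eq_top_iff' _).2 h)
    exact ⟨g * z * g⁻¹, by rw [show g * z * g⁻¹ = MulAut.conj g z from rfl, MulEquiv.orderOf_eq, hz],
      fun h => hg (conj_eq (strong S) hz (le_nor hzT) h)⟩
  set w : G ⧸ Nor T := QuotientGroup.mk u with hw
  have how : o ≠ w := mk_ne huH
  have huu := sq_of_order_two hu
  have huo : u • o = w := by rw [ho, MulAction.Quotient.smul_mk, smul_eq_mul, mul_one]
  have huw : u • w = o := by rw [← huo, smul_smul, huu, one_smul]
  have hHo : ∀ g : G, g • o = o ↔ g ∈ Nor T := fun g => by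
    rw [ho, MulAction.Quotient.smul_mk, smul_eq_mul, QuotientGroup.eq, mul_one, mul_one, inv_mem_iff]
  have hTo : ∀ t ∈ (T : Subgroup G), t • o = o := fun t ht => (hHo t).2 (le_nor ht)
  have hTw : ∀ t ∈ (T : Subgroup G), t • w ≠ o := fun t ht h =>
    how (MulAction.injective t ((hTo t ht).trans h.symm))
  have hsemi : ∀ s ∈ (T : Subgroup G), ∀ t ∈ (T : Subgroup G), s • w = t • w → s = t := fun s hs t ht h =>
    (hreg w (t • w) how.symm (hTw t ht)).unique ⟨hs, h⟩ ⟨ht, rfl⟩
  -- the fixed point of `u`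
  obtain ⟨⟨c, hc⟩⟩ := (Nat.card_eq_one_iff_unique.1 (card_fixed (strong S) hu)).2
  have hco : c ≠ o := fun h => how (by rw [h] at hc; rw [← huo, hc])
  have hcw : c ≠ w := fun h => how (by rw [h, huw] at hc; exact hc)
  obtain ⟨t0, ⟨ht0T, ht0w⟩, -⟩ := hreg w c how.symm hco
  -- the field
  letI : CommGroup (T : Subgroup G) :=
    { (inferInstance : Group (T : Subgroup G)) with
      mul_comm := fun a b => Subtype.ext ((comm_sq S).1 a a.2 b b.2) }
  let φ : Dd T u → AddMonoid.End (Additive (T : Subgroup G)) := fun d =>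
    { toFun := fun a => Additive.ofMul ⟨(d : G) * (Additive.toMul a : (T : Subgroup G)) * (d : G)⁻¹,
        (Subgroup.mem_normalizer_iff.1 d.2.1 _).1 (Additive.toMul a).2⟩
      map_zero' := by
        refine congrArg Additive.ofMul (Subtype.ext ?_)
        show (d : G) * 1 * (d : G)⁻¹ = 1
        group
      map_add' := fun a b => by
        refine congrArg Additive.ofMul (Subtype.ext ?_)
        show (d : G) * (((Additive.toMul a : (T : Subgroup G)) : G) * ((Additive.toMul b : (T : Subgroup G)) : G)) *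
          (d : G)⁻¹ = _
        simp [mul_assoc] }
  have hφ : ∀ (d : Dd T u) (t : (T : Subgroup G)),
      ((Additive.toMul (φ d (Additive.ofMul t)) : (T : Subgroup G)) : G) = (d : G) * t * (d : G)⁻¹ :=
    fun d t => rfl
  have htrans : ∀ a : Additive (T : Subgroup G), a ≠ 0 → ∀ b, b ≠ 0 → ∃ d, φ d a = b := by
    intro a ha b hb
    have hne : ∀ x : Additive (T : Subgroup G), x ≠ 0 → orderOf ((Additive.toMul x : (T : Subgroup G)) : G) = 2 :=
      fun x hx => order_two S (Additive.toMul x).2 fun h => hx (by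
        rw [← ofMul_toMul x, show Additive.toMul x = 1 from Subtype.ext h, ofMul_one])
    obtain ⟨⟨d, hd, hde⟩, -⟩ := Cfsg.Agent.S1225.result (Nor T) (strong S) u hu huH _ _ (hne a ha)
      (le_nor (Additive.toMul a).2) (hne b hb) (le_nor (Additive.toMul b).2)
    exact ⟨⟨d, hd⟩, Additive.toMul.injective (Subtype.ext hde)⟩
  have ht00 : Additive.ofMul (⟨t0, ht0T⟩ : (T : Subgroup G)) ≠ 0 := fun h => hcw (by
    have h' : t0 = 1 := congrArg (fun x => ((Additive.toMul x : (T : Subgroup G)) : G)) h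
    rw [← ht0w, h', one_smul])
  obtain ⟨F, _, _, _, hF, χ, lam, hχ1, hχd⟩ := exists_field (A := Additive (T : Subgroup G)) (D := Dd T u)
    (fun a => Additive.toMul.injective (Subtype.ext ((comm_sq S).2 _ (Additive.toMul a).2)))
    (Additive.ofMul ⟨t0, ht0T⟩) ht00 φ
    (fun d e => AddMonoidHom.ext fun a => Additive.toMul.injective (Subtype.ext (by
      show (d : G) * ((e : G) * _ * (e : G)⁻¹) * (d : G)⁻¹ = (e : G) * ((d : G) * _ * (d : G)⁻¹) * (e : G)⁻¹
      rw [show (d : G) * ((e : G) * ((Additive.toMul a : (T : Subgroup G)) : G) * (e : G)⁻¹) * (d : G)⁻¹ =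
        ((d : G) * e) * ((Additive.toMul a : (T : Subgroup G)) : G) * ((d : G) * e)⁻¹ by group,
        Dd_comm S hu huH d.2 e.2]
      group)))
    htrans
  refine ⟨F, inferInstance, inferInstance, by rw [hF]; exact Nat.card_congr Additive.toMul, ?_⟩
  -- coordinates
  let pt : F → G := fun a => ((Additive.toMul (χ.symm a) : (T : Subgroup G)) : G)
  have hptT : ∀ a, pt a ∈ (T : Subgroup G) := fun a => (Additive.toMul (χ.symm a)).2
  have hpt_add : ∀ a b, pt (a + b) = pt a * pt b := fun a b => by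
    show ((Additive.toMul (χ.symm (a + b)) : (T : Subgroup G)) : G) = _
    rw [map_add, toMul_add]; rfl
  have hpt0 : pt 0 = 1 := by
    show ((Additive.toMul (χ.symm 0) : (T : Subgroup G)) : G) = _
    rw [map_zero]; rfl
  have hpt_inj : Function.Injective pt := fun a b h =>
    χ.symm.injective (Additive.toMul.injective (Subtype.ext h))
  have hpt1 : pt 1 = t0 := by
    show ((Additive.toMul (χ.symm 1) : (T : Subgroup G)) : G) = _
    rw [← hχ1, χ.symm_apply_apply]; rfl
  have hptd : ∀ (d : Dd T u) a, pt (lam d * a) = (d : G) * pt a * (d : G)⁻¹ := fun d a => by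
    show ((Additive.toMul (χ.symm (lam d * a)) : (T : Subgroup G)) : G) = _
    rw [show lam d * a = χ (φ d (χ.symm a)) by rw [hχd, χ.apply_symm_apply], χ.symm_apply_apply]
    exact hφ d _
  let f : OnePoint F → G ⧸ Nor T := fun z => OnePoint.elim z o (fun a => pt a • w)
  have hf : Function.Bijective f := by
    constructor
    · intro a b h
      cases a <;> cases b
      · rfl
      · exact absurd h.symm (hTw _ (hptT _))
      · exact absurd h (hTw _ (hptT _))
      · exact congrArg _ (hpt_inj (hsemi _ (hptT _) _ (hptT _) h))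
    · intro x
      rcases eq_or_ne x o with rfl | hx
      · exact ⟨∞, rfl⟩
      · obtain ⟨t, ⟨ht, htx⟩, -⟩ := hreg w x how.symm hx
        refine ⟨((χ (Additive.ofMul ⟨t, ht⟩) : F) : OnePoint F), ?_⟩
        show pt _ • w = x
        rw [show pt (χ (Additive.ofMul ⟨t, ht⟩)) = t by
          show ((Additive.toMul (χ.symm (χ _)) : (T : Subgroup G)) : G) = t
          rw [χ.symm_apply_apply]; rfl]
        exact htx
  let ψ := Equiv.ofBijective f hf
  let ι : G →* Equiv.Perm (OnePoint F) :=
    (Equiv.permCongrHom ψ.symm).toMonoidHom.comp (MulAction.toPermHom G (G ⧸ Nor T))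
  have hι : ∀ (g : G) (z z' : OnePoint F), g • f z = f z' → ι g z = z' := fun g z z' h => by
    show ψ.symm (g • ψ z) = z'
    exact (congrArg ψ.symm h).trans (ψ.symm_apply_apply z')
  have hι' : ∀ (g : G) (z : OnePoint F), f (ι g z) = g • f z := fun g z => by
    show ψ (ψ.symm (g • ψ z)) = _
    rw [ψ.apply_symm_apply]; rfl
  have hιinj : Function.Injective ι := by
    refine (injective_iff_map_eq_one ι).2 fun g hg => hfree g (f ∞) (f ((0 : F) : OnePoint F))
      (f ((1 : F) : OnePoint F)) (fun h => coe_ne_infty (0 : F) (hf.1 h).symm)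
      (fun h => coe_ne_infty (1 : F) (hf.1 h).symm)
      (fun h => zero_ne_one (OnePoint.coe_injective (hf.1 h))) ?_ ?_ ?_ <;>
      · rw [← hι', hg]; rfl
  -- generators act as fractional linear maps
  have hK1 : ∀ t ∈ (T : Subgroup G), ι t ∈ (slPerm F).range := by
    intro t ht
    obtain ⟨b, rfl⟩ : ∃ b, pt b = t := ⟨χ (Additive.ofMul ⟨t, ht⟩), by
      show ((Additive.toMul (χ.symm (χ _)) : (T : Subgroup G)) : G) = t
      rw [χ.symm_apply_apply]; rfl⟩
    let M : Matrix.SpecialLinearGroup (Fin 2) F := ⟨!![1, b; 0, 1], by simp [Matrix.det_fin_two]⟩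
    have hM : (M : Matrix (Fin 2) (Fin 2) F) = !![1, b; 0, 1] := rfl
    refine ⟨M, Equiv.ext fun z => (hι _ _ _ ?_).symm⟩
    cases z with
    | infty =>
      rw [slPerm_infty, hM, if_pos (by simp)]
      exact hTo _ (hptT b)
    | coe a =>
      rw [slPerm_some, hM]
      simp only [Matrix.of_apply, Matrix.cons_val', Matrix.cons_val_zero, Matrix.cons_val_one,
        zero_mul, zero_add, one_ne_zero, if_false, one_mul, div_one, Matrix.cons_val_fin_one]
      show pt b • pt a • w = pt (a + b) • w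
      rw [smul_smul, ← hpt_add, add_comm]
  have hK2 : ∀ d ∈ Dd T u, ι d ∈ (slPerm F).range := by
    intro d hd
    obtain ⟨hdo, hdw⟩ := (mem_Dd_iff hu).1 hd
    have hl0 : lam ⟨d, hd⟩ ≠ 0 := fun h => by
      have := hptd ⟨d, hd⟩ 1
      rw [h, zero_mul, hpt0, hpt1] at this
      apply hcw
      have ht1 : t0 = 1 := by
        have h5 : d⁻¹ * (d * t0 * d⁻¹) * d = d⁻¹ * 1 * d := congrArg (fun x => d⁻¹ * x * d) this.symm
        rwa [mul_one, inv_mul_cancel, show d⁻¹ * (d * t0 * d⁻¹) * d = t0 by group] at h5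
      rw [← ht0w, ht1, one_smul]
    obtain ⟨s, hs⟩ := FiniteField.isSquare_of_char_two (F := F) (ringChar.eq F 2) (lam ⟨d, hd⟩)
    have hs0 : s ≠ 0 := fun h => hl0 (by rw [hs, h, mul_zero])
    let M : Matrix.SpecialLinearGroup (Fin 2) F := ⟨!![s, 0; 0, s⁻¹], by simp [Matrix.det_fin_two, hs0]⟩
    have hM : (M : Matrix (Fin 2) (Fin 2) F) = !![s, 0; 0, s⁻¹] := rfl
    refine ⟨M, Equiv.ext fun z => (hι _ _ _ ?_).symm⟩
    cases z with
    | infty =>
      rw [slPerm_infty, hM, if_pos (by simp)]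
      exact hdo
    | coe a =>
      rw [slPerm_some, hM]
      simp only [Matrix.of_apply, Matrix.cons_val', Matrix.cons_val_zero, Matrix.cons_val_one,
        zero_mul, zero_add, add_zero, inv_eq_zero, hs0, if_false, Matrix.cons_val_fin_one, div_inv_eq_mul]
      rw [mul_right_comm, ← hs]
      show d • pt a • w = pt (lam ⟨d, hd⟩ * a) • w
      rw [hptd]
      have hdw2 : d • w = w := hdw
      conv_rhs => rw [← hdw2]
      rw [smul_smul, smul_smul, inv_mul_cancel_right]
  have hK3 : ι u ∈ (slPerm F).range := by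
    let M : Matrix.SpecialLinearGroup (Fin 2) F := ⟨!![0, 1; 1, 0], by simp [Matrix.det_fin_two, CharTwo.neg_eq]⟩
    have hM : (M : Matrix (Fin 2) (Fin 2) F) = !![0, 1; 1, 0] := rfl
    refine ⟨M, Equiv.ext fun z => (hι _ _ _ ?_).symm⟩
    cases z with
    | infty =>
      rw [slPerm_infty, hM]
      simp only [Matrix.of_apply, Matrix.cons_val', Matrix.cons_val_zero, Matrix.cons_val_one,
        one_ne_zero, if_false, zero_div, Matrix.cons_val_fin_one]
      show u • o = pt 0 • w
      rw [hpt0, one_smul, huo]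
    | coe a =>
      rw [slPerm_some, hM]
      simp only [Matrix.of_apply, Matrix.cons_val', Matrix.cons_val_zero, Matrix.cons_val_one,
        zero_mul, zero_add, add_zero, one_mul, Matrix.cons_val_fin_one]
      split_ifs with ha
      · subst ha
        show u • pt 0 • w = o
        rw [hpt0, one_smul, huw]
      · obtain ⟨d, hd⟩ := htrans _ ht00 (χ.symm a) (fun h => ha (by simpa using congrArg χ h))
        have hla : lam d = a := by
          have := hχd d (Additive.ofMul ⟨t0, ht0T⟩)
          rwa [hd, χ.apply_symm_apply, hχ1, mul_one, eq_comm] at this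
        show u • pt a • w = pt (1 / a) • w
        have hl : lam ⟨(d : G)⁻¹, inv_mem d.2⟩ = 1 / a := by
          rw [eq_div_iff ha, ← hla]
          apply χ.symm.injective
          apply Additive.toMul.injective
          apply Subtype.ext
          show pt (lam ⟨(d : G)⁻¹, inv_mem d.2⟩ * lam d) = pt 1
          rw [← mul_one (lam d), hptd, hptd]
          group
        obtain ⟨-, hdw⟩ := (mem_Dd_iff hu).1 d.2
        obtain ⟨-, hdw'⟩ := (mem_Dd_iff hu).1 (inv_mem d.2)
        have e1 : pt a • w = (d : G) • c := by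
          rw [← hla, ← mul_one (lam d), hptd, hpt1, ← ht0w]
          have hdw2 : (d : G) • w = w := hdw
          conv_lhs => rw [← hdw2]
          rw [smul_smul, smul_smul, inv_mul_cancel_right]
        have e2 : pt (1 / a) • w = (d : G)⁻¹ • c := by
          rw [← hl, ← mul_one (lam _), hptd, hpt1, ← ht0w]
          have hdw2 : (d : G)⁻¹ • w = w := hdw'
          conv_lhs => rw [← hdw2]
          rw [smul_smul, smul_smul, inv_mul_cancel_right]
        rw [e1, e2, ← inverts S hu huH d.2, mul_smul, mul_smul, inv_of_order_two hu, hc]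
  have hH : ∀ g ∈ Nor T, ι g ∈ (slPerm F).range := by
    intro g hg
    have hgw : g • w ≠ o := fun h => how (MulAction.injective g (((hHo g).2 hg).trans h.symm))
    obtain ⟨t, ⟨ht, htw⟩, -⟩ := hreg w (g • w) how.symm hgw
    have hd : t⁻¹ * g ∈ Dd T u := (mem_Dd_iff hu).2
      ⟨(hHo _).2 (mul_mem (inv_mem (le_nor ht)) hg), by rw [mul_smul]; exact inv_smul_eq_iff.2 htw.symm⟩
    have := mul_mem (hK1 t ht) (hK2 _ hd)
    rwa [← map_mul, mul_inv_cancel_left] at this
  have hrange : ι.range ≤ (slPerm F).range := by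
    rintro _ ⟨g, rfl⟩
    by_cases hgo : g • o = o
    · exact hH g ((hHo g).1 hgo)
    · obtain ⟨t, ⟨ht, htw⟩, -⟩ := hreg w (g • o) how.symm hgo
      have h1 : (t * u)⁻¹ * g ∈ Nor T := (hHo _).1 (by
        rw [mul_smul]
        exact inv_smul_eq_iff.2 (by rw [mul_smul, huo, htw]))
      have := mul_mem (mul_mem (hK1 t ht) hK3) (hH _ h1)
      rwa [← map_mul, ← map_mul, mul_inv_cancel_left] at this
  have hσinj : Function.Injective (slPerm F) :=
    (injective_iff_map_eq_one _).2 fun g hg => eq_one_of_fix g (by rw [hg]; rfl) (by rw [hg]; rfl) (by rw [hg]; rfl)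
  have hrange' : (slPerm F).range ≤ ι.range := by
    rintro _ ⟨g, rfl⟩
    have hne : ∀ z z' : OnePoint F, z ≠ z' → f (slPerm F g z) ≠ f (slPerm F g z') := fun z z' h e =>
      h ((slPerm F g).injective (hf.1 e))
    have h01 : ((0 : F) : OnePoint F) ≠ ((1 : F) : OnePoint F) := fun h => zero_ne_one (OnePoint.coe_injective h)
    obtain ⟨k, k1, k2, k3⟩ := h3 (f ∞) (f ((0 : F) : OnePoint F)) (f ((1 : F) : OnePoint F))
      (f (slPerm F g ∞)) (f (slPerm F g ((0 : F) : OnePoint F))) (f (slPerm F g ((1 : F) : OnePoint F)))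
      (fun h => coe_ne_infty (0 : F) (hf.1 h).symm) (fun h => coe_ne_infty (1 : F) (hf.1 h).symm)
      (fun h => h01 (hf.1 h))
      (hne _ _ (coe_ne_infty (0 : F)).symm) (hne _ _ (coe_ne_infty (1 : F)).symm) (hne _ _ h01)
    obtain ⟨g', hg'⟩ := hrange ⟨k, rfl⟩
    have key : ∀ z, k • f z = f (slPerm F g z) → slPerm F (g'⁻¹ * g) z = z := fun z h => by
      rw [map_mul, map_inv, Equiv.Perm.mul_apply, Equiv.Perm.inv_def, Equiv.symm_apply_eq, hg', hι k z _ h]
    have := eq_one_of_fix (g'⁻¹ * g) (key _ k1) (key _ k2) (key _ k3)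
    rw [← inv_mul_eq_one.1 this, hg']
    exact ⟨k, rfl⟩
  obtain ⟨e⟩ := psl_equiv (F := F)
  exact ⟨(((MonoidHom.ofInjective hιinj).trans
    (MulEquiv.subgroupCongr (le_antisymm hrange hrange'))).trans (MonoidHom.ofInjective hσinj).symm).trans e⟩

end Cfsg.Lib.ElemCent
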