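/-
Brauer-Fowler counting.
-/
import Cfsg.Agent.InvolCalc.Counting
import Mathlib.Algebra.BigOperators.GroupWithZero.Action

set_option linter.style.haveILetI false
set_option linter.unusedSectionVars false

namespace Cfsg.Lib.BrauerFowler

open Subgroup Cfsg.Lib.InvolCalc

universe u

variable {G : Type u} [Group G] [Finite G]

/-- the extended centraliser -/
def extCentralizer (x : G) : Subgroup G where
  carrier := {g | g * x * g⁻¹ = x ∨ g * x * g⁻¹ = x⁻¹}
  one_mem' := Or.inl (by group)
  mul_mem' := by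
    intro a b ha hb
    have e : a * b * x * (a * b)⁻¹ = a * (b * x * b⁻¹) * a⁻¹ := by group
    have e' : a * x⁻¹ * a⁻¹ = (a * x * a⁻¹)⁻¹ := by group
    show a * b * x * (a * b)⁻¹ = x ∨ a * b * x * (a * b)⁻¹ = x⁻¹
    rw [e]
    rcases ha with ha | ha <;> rcases hb with hb | hb
    · exact Or.inl (by rw [hb, ha])
    · exact Or.inr (by rw [hb, e', ha])
    · exact Or.inr (by rw [hb, ha])
    · exact Or.inl (by rw [hb, e', ha, inv_inv])
  inv_mem' := by
    intro a ha
    show a⁻¹ * x * a⁻¹⁻¹ = x ∨ a⁻¹ * x * a⁻¹⁻¹ = x⁻¹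
    rcases ha with ha | ha
    · left
      conv_lhs => rw [← ha]
      group
    · right
      have e : (a * x * a⁻¹)⁻¹ = x := by rw [ha, inv_inv]
      conv_lhs => rw [← e]
      group

theorem card_extCentralizer {x : G} (hx : x ≠ x⁻¹) (hr : IsConj x x⁻¹) :
    Nat.card (extCentralizer x) = 2 * Nat.card (centralizer ({x} : Set G)) := by
  have h1 : centralizer ({x} : Set G) ≤ extCentralizer x := fun g hg => Or.inl (by
    rw [(mem_centralizer_singleton_iff.1 hg), mul_inv_cancel_right])
  obtain ⟨g₀, hg₀⟩ := isConj_iff.1 hr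
  have h2 : (centralizer ({x} : Set G)).relIndex (extCentralizer x) = 2 := by
    show ((centralizer ({x} : Set G)).subgroupOf (extCentralizer x)).index = 2
    rw [Subgroup.index_eq_two_iff]
    refine ⟨⟨g₀, Or.inr hg₀⟩, fun ⟨g, hg⟩ => ?_⟩
    rw [mem_subgroupOf, mem_subgroupOf]
    show Xor' (g * g₀ ∈ centralizer ({x} : Set G)) (g ∈ centralizer ({x} : Set G))
    have e : g * g₀ * x * (g * g₀)⁻¹ = g * (g₀ * x * g₀⁻¹) * g⁻¹ := by group
    rw [mem_centralizer_singleton_iff, mem_centralizer_singleton_iff, ← mul_inv_eq_iff_eq_mul,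
      ← mul_inv_eq_iff_eq_mul, e, hg₀, show g * x⁻¹ * g⁻¹ = (g * x * g⁻¹)⁻¹ by group]
    rcases hg with hg | hg
    · exact Or.inr ⟨hg, fun h => hx (by rw [hg] at h; exact h.symm)⟩
    · exact Or.inl ⟨by rw [hg, inv_inv], fun h => hx (hg ▸ h).symm⟩
  have := relIndex_mul_relIndex ⊥ _ _ bot_le h1
  rw [relIndex_bot_left, relIndex_bot_left, h2] at this
  omega

theorem exists_small_index (heven : Even (Nat.card G)) (hZ : Odd (Nat.card (center G))) :
    ∃ H : Subgroup G, H ≠ ⊤ ∧ (H.index = 2 ∨
      2 * H.index * (Nat.card {t : G // orderOf t = 2}) ^ 2 <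
        Nat.card G * (Nat.card G + Nat.card {t : G // orderOf t = 2})) := by
  classical
  haveI : Fintype G := Fintype.ofFinite G
  haveI : Fact (Nat.Prime 2) := ⟨Nat.prime_two⟩
  by_contra hno
  push Not at hno
  set g := Nat.card G with hg
  set n := Nat.card {t : G // orderOf t = 2} with hn
  set B := g * (g + n) with hB
  let P : G → ℕ := fun x => Nat.card {p : G × G // orderOf p.1 = 2 ∧ orderOf p.2 = 2 ∧ p.1 * p.2 = x}
  have hg0 : 0 < g := Nat.card_pos
  have hn0 : 0 < n := by
    obtain ⟨t, ht⟩ := exists_prime_orderOf_dvd_card' 2 heven.two_dvd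
    haveI : Nonempty {t : G // orderOf t = 2} := ⟨⟨t, ht⟩⟩
    exact Nat.card_pos
  have hbound : ∀ H : Subgroup G, H ≠ ⊤ → Nat.card H * B ≤ 2 * n ^ 2 * g := by
    intro H hH
    have h := (hno H hH).2
    have e := H.card_mul_index
    calc Nat.card H * B ≤ Nat.card H * (2 * H.index * n ^ 2) := Nat.mul_le_mul_left _ h
      _ = _ := by rw [hg, ← e]; ring
  have hinv : ∀ x : G, orderOf x = 2 → P x * B + 2 * B ≤ 2 * n ^ 2 * g := by
    intro x hx
    have h1 : centralizer ({x} : Set G) ≠ ⊤ := by
      intro h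
      have hc : x ∈ center G := mem_center_iff.2 fun y =>
        mem_centralizer_singleton_iff.1 (h ▸ mem_top y : y ∈ centralizer ({x} : Set G))
      have h2 : 2 ∣ Nat.card (center G) := hx ▸ Subgroup.orderOf_dvd_natCard _ hc
      exact (Nat.not_even_iff_odd.2 hZ) (even_iff_two_dvd.2 h2)
    calc P x * B + 2 * B = (P x + 2) * B := by ring
      _ ≤ Nat.card (centralizer ({x} : Set G)) * B := Nat.mul_le_mul_right _ ((pairs_bound x).2.2 hx)
      _ ≤ _ := hbound _ h1
  have hoth : ∀ x : G, x ≠ 1 → orderOf x ≠ 2 → P x * B ≤ n ^ 2 * g := by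
    intro x hx1 hx2
    by_cases hr : IsConj x x⁻¹
    swap
    · rw [show P x = 0 from (pairs_bound x).2.1 hr]; simp
    have hxx : x ≠ x⁻¹ := fun h => hx2 (order_two_of_mul_self (by nth_rw 2 [h]; rw [mul_inv_cancel]) hx1)
    by_cases htop : extCentralizer x = ⊤
    · exfalso
      have h2 := card_extCentralizer hxx hr
      rw [htop, Subgroup.card_top] at h2
      have h3 : (centralizer ({x} : Set G)).index = 2 := by
        have h4 := (centralizer ({x} : Set G)).card_mul_index
        rw [h2, mul_comm] at h4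
        exact Nat.eq_of_mul_eq_mul_right Nat.card_pos h4
      exact (hno _ (fun h => by rw [h, Subgroup.index_top] at h3; omega)).1 h3
    have h1 := hbound _ htop
    rw [card_extCentralizer hxx hr] at h1
    have h2 : P x ≤ Nat.card (centralizer ({x} : Set G)) := (pairs_bound x).1
    have h3 := Nat.mul_le_mul_right B h2
    have h4 : 2 * (Nat.card (centralizer ({x} : Set G)) * B) ≤ 2 * (n ^ 2 * g) := by
      calc 2 * (Nat.card (centralizer ({x} : Set G)) * B) = 2 * Nat.card (centralizer ({x} : Set G)) * B := by ring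
        _ ≤ _ := h1.trans (le_of_eq (by ring))
    omega
  have htot : ∑ x, P x = n * n := by
    rw [hn, ← Nat.card_prod, ← Nat.card_sigma]
    exact Nat.card_congr
      { toFun := fun q => (⟨q.2.1.1, q.2.2.1⟩, ⟨q.2.1.2, q.2.2.2.1⟩)
        invFun := fun q => ⟨q.1.1 * q.2.1, (q.1.1, q.2.1), q.1.2, q.2.2, rfl⟩
        left_inv := fun ⟨x, ⟨a, b⟩, h1, h2, h3⟩ => by cases h3; rfl
        right_inv := fun q => rfl }
  have hP1 : P 1 = n := by
    rw [hn]
    exact Nat.card_congr
      { toFun := fun q => ⟨q.1.1, q.2.1⟩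
        invFun := fun t => ⟨(t.1, t.1), t.2, t.2, sq_of_order_two t.2⟩
        left_inv := fun ⟨⟨a, b⟩, h1, h2, h3⟩ => Subtype.ext (Prod.ext rfl (by
          show a = b
          rw [← inv_of_order_two (show orderOf a = 2 from h1)]; exact inv_eq_of_mul_eq_one_right h3))
        right_inv := fun t => rfl }
  -- the weighted sum
  let w : G → ℕ := fun x => if x = 1 then 0 else if orderOf x = 2 then 2 * B else 0
  let b : G → ℕ := fun x => if x = 1 then n * B else if orderOf x = 2 then 2 * n ^ 2 * g else n ^ 2 * g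
  have hle : ∑ x, (P x * B + w x) ≤ ∑ x, b x := by
    refine Finset.sum_le_sum fun x _ => ?_
    by_cases h1 : x = 1
    · subst h1; simp [w, b, hP1]
    by_cases h2 : orderOf x = 2
    · simpa [w, b, h1, h2] using hinv x h2
    · simpa [w, b, h1, h2] using hoth x h1 h2
  set I := Finset.univ.filter (fun x : G => orderOf x = 2) with hI
  have hIc : I.card = n := by rw [hn, Nat.card_eq_fintype_card, Fintype.card_subtype]
  have hw : ∑ x, w x = n * (2 * B) := by
    rw [← hIc, ← smul_eq_mul, ← Finset.sum_const, Finset.sum_filter]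
    refine Finset.sum_congr rfl fun x _ => ?_
    by_cases h1 : x = 1
    · subst h1; simp [w]
    · simp [w, h1]
  have hb : ∑ x, b x + n ^ 2 * g = n * B + g * (n ^ 2 * g) + n * (n ^ 2 * g) := by
    have e : ∀ x : G, b x + (if x = 1 then n ^ 2 * g else 0) =
        (if x = 1 then n * B else 0) + (n ^ 2 * g + if orderOf x = 2 then n ^ 2 * g else 0) := by
      intro x
      by_cases h1 : x = 1
      · subst h1; simp [b]
      by_cases h2 : orderOf x = 2
      · simp [b, h1, h2]; ring
      · simp [b, h1, h2]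
    have hs := Finset.sum_congr rfl (fun x (_ : x ∈ (Finset.univ : Finset G)) => e x)
    rw [Finset.sum_add_distrib, Finset.sum_add_distrib, Finset.sum_add_distrib, Finset.sum_ite_eq',
      Finset.sum_ite_eq', ← Finset.sum_filter, Finset.sum_const, Finset.sum_const] at hs
    simp only [Finset.mem_univ, if_true, smul_eq_mul, ← hI, hIc, Finset.card_univ] at hs
    rw [← Nat.card_eq_fintype_card, ← hg] at hs
    omega
  rw [Finset.sum_add_distrib, ← Finset.sum_mul, htot, hw] at hle
  have key : n * n * B + n * (2 * B) + n ^ 2 * g ≤ n * B + g * (n ^ 2 * g) + n * (n ^ 2 * g) := by omega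
  have e1 : g * (n ^ 2 * g) + n * (n ^ 2 * g) = n * n * B := by rw [hB]; ring
  nlinarith [Nat.mul_pos hn0 (Nat.mul_pos hg0 hn0)]

end Cfsg.Lib.BrauerFowler
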