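/-
Groups with bounded centralisers of suitable involutions have bounded order.
-/
import Cfsg.Agent.InvolCalc.BrauerFowler
import Cfsg.Agent.Chars.Count
import Cfsg.Agent.Components.Cores
import Cfsg.Agent.Coprime.SolvableBasics
import Mathlib

set_option autoImplicit false
set_option linter.unusedSectionVars false

namespace Cfsg.Lib.BrauerFowler

open Subgroup

universe u

variable {G : Type u} [Group G] [Finite G]

/-- In the coset of an involution modulo an odd normal subgroup all involutions are conjugate. -/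
lemma conj_of_coset_odd {O : Subgroup G} (hO : Odd (Nat.card O)) {w z : G} (hw : w * w = 1)
    (hz : z * z = 1) (hzw : z * w ∈ O) : ∃ v : G, v * w * v⁻¹ = z := by
  obtain ⟨k, hk⟩ : Odd (orderOf (z * w)) :=
    hO.of_dvd_nat (by rw [← orderOf_mk (H := O) (z * w) hzw]; exact orderOf_dvd_natCard _)
  have hzi : z⁻¹ = z := inv_eq_of_mul_eq_one_right hz
  have hwi : w⁻¹ = w := inv_eq_of_mul_eq_one_right hw
  have h0 : MulAut.conj w (z * w) = (z * w)⁻¹ := by
    rw [MulAut.conj_apply, mul_inv_rev, hwi, hzi, mul_assoc, mul_assoc z, hw, mul_one]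
  refine ⟨(z * w) ^ (k + 1), ?_⟩
  have h1 : MulAut.conj w ((z * w) ^ (k + 1))⁻¹ = (z * w) ^ (k + 1) := by
    rw [map_inv, map_pow, h0, inv_pow, inv_inv]
  rw [MulAut.conj_apply, hwi] at h1
  calc (z * w) ^ (k + 1) * w * ((z * w) ^ (k + 1))⁻¹
      = (z * w) ^ (k + 1) * (w * ((z * w) ^ (k + 1))⁻¹ * w) * w := by
        simp only [mul_assoc, hw, mul_one]
    _ = (z * w) ^ (orderOf (z * w)) * (z * w) * w := by
        rw [h1, ← pow_add, ← pow_succ, show k + 1 + (k + 1) = orderOf (z * w) + 1 by omega]
    _ = z := by rw [pow_orderOf_eq_one, one_mul, mul_assoc, hw, mul_one]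

/-- An odd normal subgroup is bounded by the centralisers of a four group. -/
theorem card_odd_normal_le {O : Subgroup G} [O.Normal] (hO : Odd (Nat.card O)) {a b : G}
    (ha : a * a = 1) (ha1 : a ≠ 1) (hb : b * b = 1) (hb1 : b ≠ 1) (hab : a * b = b * a)
    (hne : a ≠ b) {c : ℕ}
    (hca : Nat.card (centralizer ({a} : Set G)) ≤ c)
    (hcb : Nat.card (centralizer ({b} : Set G)) ≤ c)
    (hcab : Nat.card (centralizer ({a * b} : Set G)) ≤ c) :
    Nat.card O ≤ c ^ 4 := by
  classical
  letI := Fintype.ofFinite G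
  set w := a * b with hw
  have hw2 : w * w = 1 := by
    calc w * w = a * (b * a) * b := by rw [hw]; group
      _ = a * (a * b) * b := by rw [← hab, hw]
      _ = (a * a) * (b * b) := by simp only [mul_assoc]
      _ = 1 := by rw [ha, hb, one_mul]
  have hw1 : w ≠ 1 := fun h => hne (by
    rw [eq_inv_of_mul_eq_one_right h, inv_eq_of_mul_eq_one_right ha])
  have hodd : ∀ x : G, x * x = 1 → x ∈ O → x = 1 := by
    intro x hx hxO
    by_contra h1
    have h2 : orderOf x = 2 := orderOf_eq_prime (by rw [pow_two]; exact hx) h1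
    exact Nat.not_even_iff_odd.2 hO (even_iff_two_dvd.2
      (by rw [← h2, ← orderOf_mk (H := O) x hxO]; exact orderOf_dvd_natCard _))
  set q := QuotientGroup.mk' O with hq
  have hqO : ∀ x y : G, x * x = 1 → (x * y ∈ O ↔ q x = q y) := by
    intro x y hx
    rw [hq, QuotientGroup.mk'_apply, QuotientGroup.mk'_apply, QuotientGroup.eq,
      inv_eq_of_mul_eq_one_right hx]
  set cl : G → Finset G := fun x => Finset.univ.filter fun s => s * s = 1 ∧ q s = q x with hcl
  have hbig : ∀ x : G, x * x = 1 → Nat.card (centralizer ({x} : Set G)) ≤ c →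
      Nat.card O ≤ (cl x).card * c := by
    intro x hx hxc
    set A := Finset.univ.filter fun o : G => o ∈ O with hA
    have hAc : A.card = Nat.card O := by
      rw [hA, ← Fintype.card_subtype, ← Nat.card_eq_fintype_card]
    rw [← hAc]
    refine le_trans (Finset.card_le_mul_card_image_of_maps_to (f := fun o => o * x * o⁻¹)
      (t := cl x) ?_ c ?_) (le_of_eq (mul_comm _ _))
    · intro o ho
      have ho' : q o = 1 := (QuotientGroup.eq_one_iff o).2 (Finset.mem_filter.1 ho).2
      refine Finset.mem_filter.2 ⟨Finset.mem_univ _, ?_, ?_⟩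
      · calc o * x * o⁻¹ * (o * x * o⁻¹) = o * (x * x) * o⁻¹ := by group
          _ = 1 := by rw [hx]; group
      · rw [map_mul, map_mul, map_inv, ho', one_mul, inv_one, mul_one]
    · intro s _
      by_cases hne' : (A.filter fun o => o * x * o⁻¹ = s).Nonempty
      · obtain ⟨o₀, ho₀⟩ := hne'
        have h₀ := (Finset.mem_filter.1 ho₀).2
        refine le_trans ?_ hxc
        rw [Nat.card_eq_fintype_card, ← Finset.card_univ]
        refine Finset.card_le_card_of_injOn
          (fun o => if h : o₀⁻¹ * o ∈ centralizer ({x} : Set G) then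
            (⟨_, h⟩ : centralizer ({x} : Set G)) else 1)
          (fun _ _ => Finset.mem_univ _) ?_
        intro o ho o' ho' h
        have hm : ∀ u : G, u * x * u⁻¹ = s → o₀⁻¹ * u ∈ centralizer ({x} : Set G) := by
          intro u hu
          rw [mem_centralizer_singleton_iff]
          calc o₀⁻¹ * u * x = o₀⁻¹ * (u * x * u⁻¹) * u := by group
            _ = o₀⁻¹ * (o₀ * x * o₀⁻¹) * u := by rw [hu, h₀]
            _ = _ := by group
        simp only [dif_pos (hm o (Finset.mem_filter.1 ho).2),
          dif_pos (hm o' (Finset.mem_filter.1 ho').2)] at h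
        exact mul_left_cancel (congrArg Subtype.val h)
      · rw [Finset.not_nonempty_iff_eq_empty.1 hne', Finset.card_empty]
        exact Nat.zero_le _
  have hsmall : (cl w).card ≤ Nat.card O := by
    rw [Nat.card_eq_fintype_card, ← Finset.card_univ]
    refine Finset.card_le_card_of_injOn
      (fun s => if h : s * w ∈ O then (⟨_, h⟩ : O) else 1) (fun _ _ => Finset.mem_univ _) ?_
    intro s hs s' hs' h
    have hm : ∀ u ∈ cl w, u * w ∈ O := fun u hu =>
      (hqO u w (Finset.mem_filter.1 hu).2.1).2 (Finset.mem_filter.1 hu).2.2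
    simp only [dif_pos (hm s hs), dif_pos (hm s' hs')] at h
    exact mul_right_cancel (congrArg Subtype.val h)
  have hmid : ∀ s ∈ cl a, ∀ t ∈ cl b, ∃ z ∈ cl w, z * s = s * z ∧ z * t = t * z := by
    intro s hs t ht
    obtain ⟨hs2, hsq⟩ := (Finset.mem_filter.1 hs).2
    obtain ⟨ht2, htq⟩ := (Finset.mem_filter.1 ht).2
    set u := s * t with hu
    have huq : q u = q w := by rw [hu, map_mul, hsq, htq, ← map_mul]
    have hqw : q w ≠ 1 := fun h => hw1 (hodd w hw2 ((QuotientGroup.eq_one_iff w).1 h))
    obtain ⟨m, hm⟩ : Even (orderOf u) := by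
      by_contra h
      obtain ⟨j, hj⟩ := Nat.not_even_iff_odd.1 h
      apply hqw
      have h1 := congrArg q (pow_orderOf_eq_one u)
      rw [map_pow, huq, map_one, hj, pow_succ, pow_mul, pow_two, ← map_mul, hw2, map_one, one_pow,
        one_mul] at h1
      exact h1
    set z := u ^ m with hz
    have hz2 : z * z = 1 := by rw [hz, ← pow_add, ← hm, pow_orderOf_eq_one]
    have hz1 : z ≠ 1 := fun h => by
      have hpos := orderOf_pos u
      have := Nat.le_of_dvd (by omega) (orderOf_dvd_of_pow_eq_one h)
      omega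
    have hzq : q z = q w := by
      rcases Nat.even_or_odd m with ⟨j, hj⟩ | ⟨j, hj⟩
      · exfalso
        refine hz1 (hodd z hz2 ((QuotientGroup.eq_one_iff z).1 ?_))
        show q z = 1
        rw [hz, map_pow, huq, hj, ← two_mul, pow_mul, pow_two, ← map_mul, hw2, map_one, one_pow]
      · rw [hz, map_pow, huq, hj, pow_succ, pow_mul, pow_two, ← map_mul, hw2, map_one, one_pow,
          one_mul]
    have hzi : z⁻¹ = z := inv_eq_of_mul_eq_one_right hz2
    have hsi : s⁻¹ = s := inv_eq_of_mul_eq_one_right hs2
    have hti : t⁻¹ = t := inv_eq_of_mul_eq_one_right ht2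
    have hsz : s * z * s = z := by
      have h1 : MulAut.conj s u = u⁻¹ := by
        rw [MulAut.conj_apply, hu, mul_inv_rev, hsi, hti, ← mul_assoc, hs2, one_mul]
      have h2 : MulAut.conj s (u ^ m) = (u ^ m)⁻¹ := by rw [map_pow, h1, inv_pow]
      rw [MulAut.conj_apply, hsi, ← hz, hzi] at h2
      exact h2
    have hs' : z * s = s * z := by
      calc z * s = s * z * s * s := by rw [hsz]
        _ = s * z := by rw [mul_assoc, hs2, mul_one]
    refine ⟨z, Finset.mem_filter.2 ⟨Finset.mem_univ _, hz2, hzq⟩, hs', ?_⟩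
    have hzu : z * u = u * z := by rw [hz, ← pow_succ, ← pow_succ']
    have ht' : t = s * u := by rw [hu, ← mul_assoc, hs2, one_mul]
    calc z * t = z * (s * u) := congrArg (z * ·) ht'
      _ = s * (z * u) := by rw [← mul_assoc, hs', mul_assoc]
      _ = (s * u) * z := (congrArg (s * ·) hzu).trans (mul_assoc s u z).symm
      _ = t * z := congrArg (· * z) ht'.symm
  have hcount : (cl a).card * (cl b).card ≤ (cl w).card * (c * c) := by
    rw [← Finset.card_product]
    refine le_trans (Finset.card_le_card (t := (cl w).biUnion fun z =>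
      (Finset.univ.filter fun s : G => s ∈ centralizer ({z} : Set G)) ×ˢ
        (Finset.univ.filter fun s : G => s ∈ centralizer ({z} : Set G))) ?_) ?_
    · rintro ⟨s, t⟩ hst
      obtain ⟨hs, ht⟩ := Finset.mem_product.1 hst
      obtain ⟨z, hz, hzs, hzt⟩ := hmid s hs t ht
      refine Finset.mem_biUnion.2 ⟨z, hz, Finset.mem_product.2
        ⟨Finset.mem_filter.2 ⟨Finset.mem_univ _, ?_⟩, Finset.mem_filter.2 ⟨Finset.mem_univ _, ?_⟩⟩⟩
      · exact mem_centralizer_singleton_iff.2 hzs.symm
      · exact mem_centralizer_singleton_iff.2 hzt.symm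
    · refine Finset.card_biUnion_le_card_mul _ _ _ fun z hz => ?_
      obtain ⟨hz2, hzq⟩ := (Finset.mem_filter.1 hz).2
      obtain ⟨v, hv⟩ := conj_of_coset_odd hO hw2 hz2 ((hqO z w hz2).2 hzq)
      have hle : (Finset.univ.filter fun s : G => s ∈ centralizer ({z} : Set G)).card ≤ c := by
        rw [← Fintype.card_subtype, ← Nat.card_eq_fintype_card]
        refine le_trans (le_of_eq (Nat.card_congr ?_)) hcab
        refine (MulAut.conj v⁻¹).toEquiv.subtypeEquiv fun s => ?_
        simp only [MulEquiv.toEquiv_eq_coe, MulEquiv.coe_toEquiv, MulAut.conj_apply, inv_inv,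
          mem_centralizer_singleton_iff]
        rw [← hv]
        constructor
        · intro h
          calc v⁻¹ * s * v * w = v⁻¹ * (s * (v * w * v⁻¹)) * v := by group
            _ = v⁻¹ * ((v * w * v⁻¹) * s) * v := by rw [h]
            _ = _ := by group
        · intro h
          calc s * (v * w * v⁻¹) = v * ((v⁻¹ * s * v) * w) * v⁻¹ := by group
            _ = v * (w * (v⁻¹ * s * v)) * v⁻¹ := by rw [h]
            _ = _ := by group
      rw [Finset.card_product]
      exact Nat.mul_le_mul hle hle
  have h1 := Nat.mul_le_mul (hbig a ha hca) (hbig b hb hcb)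
  have hpos : 0 < Nat.card O := Nat.card_pos
  refine Nat.le_of_mul_le_mul_left ?_ hpos
  calc Nat.card O * Nat.card O ≤ (cl a).card * (cl b).card * (c * c) := by
        refine h1.trans (le_of_eq ?_); ring
    _ ≤ (cl w).card * (c * c) * (c * c) := Nat.mul_le_mul_right _ hcount
    _ ≤ Nat.card O * (c * c) * (c * c) :=
        Nat.mul_le_mul_right _ (Nat.mul_le_mul_right _ hsmall)
    _ = Nat.card O * c ^ 4 := by ring

/-- A centraliser in the quotient by a normal subgroup. -/
theorem card_centralizer_quotient_le {O : Subgroup G} [O.Normal] {x : G} {c : ℕ}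
    (hc : Nat.card (centralizer ({x} : Set G)) ≤ c) :
    Nat.card (centralizer ({(x : G ⧸ O)} : Set (G ⧸ O))) ≤ Nat.card O * c := by
  classical
  letI := Fintype.ofFinite G
  set T := Finset.univ.filter fun g : G => g * x * g⁻¹ * x⁻¹ ∈ O with hT
  have h1 : Nat.card (centralizer ({(x : G ⧸ O)} : Set (G ⧸ O))) ≤ T.card := by
    rw [← Fintype.card_coe T, ← Nat.card_eq_fintype_card]
    have hmem : ∀ y : centralizer ({(x : G ⧸ O)} : Set (G ⧸ O)), (y : G ⧸ O).out ∈ T := by
      intro y
      refine Finset.mem_filter.2 ⟨Finset.mem_univ _, ?_⟩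
      rw [← QuotientGroup.eq_one_iff, QuotientGroup.mk_mul, QuotientGroup.mk_mul,
        QuotientGroup.mk_mul, QuotientGroup.mk_inv, QuotientGroup.mk_inv, QuotientGroup.out_eq',
        mem_centralizer_singleton_iff.1 y.2, mul_inv_cancel_right, mul_inv_cancel]
    refine Nat.card_le_card_of_injective (fun y => (⟨_, hmem y⟩ : T)) fun y y' h => ?_
    refine Subtype.ext ?_
    rw [← QuotientGroup.out_eq' (y : G ⧸ O), ← QuotientGroup.out_eq' (y' : G ⧸ O)]
    exact congrArg _ (congrArg Subtype.val h)
  refine h1.trans ?_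
  rw [mul_comm]
  refine le_trans (Finset.card_le_mul_card_image_of_maps_to (f := fun g => g * x * g⁻¹)
    (t := Finset.univ.filter fun y : G => y * x⁻¹ ∈ O)
    (fun g hg => Finset.mem_filter.2 ⟨Finset.mem_univ _, (Finset.mem_filter.1 hg).2⟩) c ?_) ?_
  · intro s _
    by_cases hne' : (T.filter fun o => o * x * o⁻¹ = s).Nonempty
    · obtain ⟨o₀, ho₀⟩ := hne'
      have h₀ := (Finset.mem_filter.1 ho₀).2
      refine le_trans ?_ hc
      rw [Nat.card_eq_fintype_card, ← Finset.card_univ]
      refine Finset.card_le_card_of_injOn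
        (fun o => if h : o₀⁻¹ * o ∈ centralizer ({x} : Set G) then
          (⟨_, h⟩ : centralizer ({x} : Set G)) else 1)
        (fun _ _ => Finset.mem_univ _) ?_
      intro o ho o' ho' h
      have hm : ∀ u : G, u * x * u⁻¹ = s → o₀⁻¹ * u ∈ centralizer ({x} : Set G) := by
        intro u hu
        rw [mem_centralizer_singleton_iff]
        calc o₀⁻¹ * u * x = o₀⁻¹ * (u * x * u⁻¹) * u := by group
          _ = o₀⁻¹ * (o₀ * x * o₀⁻¹) * u := by rw [hu, h₀]
          _ = _ := by group
      simp only [dif_pos (hm o (Finset.mem_filter.1 ho).2),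
        dif_pos (hm o' (Finset.mem_filter.1 ho').2)] at h
      exact mul_left_cancel (congrArg Subtype.val h)
    · rw [Finset.not_nonempty_iff_eq_empty.1 hne', Finset.card_empty]
      exact Nat.zero_le _
  · refine Nat.mul_le_mul_left _ ?_
    rw [← Fintype.card_subtype, ← Nat.card_eq_fintype_card]
    exact le_of_eq (Nat.card_congr ((Equiv.mulRight x⁻¹).subtypeEquiv fun g => Iff.rfl))

/-- A family of normal subgroups of small index separating the involutions bounds a group
without odd normal subgroups, through the two-part of its order. -/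
theorem card_le_pow_of_separated (b : ℕ) (hb : 0 < b)
    (hodd : ∀ I : Subgroup G, I.Normal → Odd (Nat.card I) → I = ⊥)
    (hsep : ∀ i : G, orderOf i = 2 → ∃ K : Subgroup G, K.Normal ∧ K.index ≤ b ∧ i ∉ K) :
    Nat.card G ≤ b ^ (Nat.card G).factorization 2 := by
  classical
  haveI := Fact.mk Nat.prime_two
  suffices h : ∀ k : ℕ, ∀ I : Subgroup G, I.Normal → (Nat.card I).factorization 2 ≤ k →
      Nat.card I ≤ b ^ k by
    have := h _ ⊤ inferInstance (le_of_eq (congrArg (fun n : ℕ => n.factorization 2) card_top))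
    rwa [card_top] at this
  intro k
  induction k with
  | zero =>
    intro I hI hk
    have : Odd (Nat.card I) := Nat.not_even_iff_odd.1 fun h => by
      have := Nat.prime_two.factorization_pos_of_dvd Nat.card_pos.ne' (even_iff_two_dvd.1 h)
      omega
    rw [hodd I hI this, card_bot, pow_zero]
  | succ k ih =>
    intro I hI hk
    by_cases hev : 2 ∣ Nat.card I
    swap
    · rw [hodd I hI (Nat.not_even_iff_odd.1 (mt even_iff_two_dvd.1 hev)), card_bot]
      exact Nat.one_le_pow _ _ hb
    obtain ⟨i, hi⟩ := exists_prime_orderOf_dvd_card' 2 hev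
    obtain ⟨K, hK, hKb, hiK⟩ := hsep (i : G) (by rw [orderOf_coe, hi])
    have hidx : (I ⊓ K).relIndex I ∣ Nat.card I := relIndex_dvd_card _ _
    have hmul : Nat.card (I ⊓ K : Subgroup G) * (I ⊓ K).relIndex I = Nat.card I := by
      rw [← relIndex_bot_left, relIndex_mul_relIndex _ _ _ bot_le inf_le_left, relIndex_bot_left]
    have heq : (I ⊓ K).relIndex I = K.relIndex I := by rw [inf_comm, inf_relIndex_right]
    have hle : K.relIndex I ≤ b := by
      refine le_trans (Nat.le_of_dvd (Nat.pos_of_ne_zero index_ne_zero_of_finite) ?_) hKb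
      exact relIndex_dvd_index_of_normal K I
    have heven : 2 ∣ K.relIndex I := by
      have hne : ((i : I) : I ⧸ K.subgroupOf I) ≠ 1 := by
        rw [Ne, QuotientGroup.eq_one_iff]
        exact hiK
      have h2 : orderOf ((i : I) : I ⧸ K.subgroupOf I) = 2 := by
        refine orderOf_eq_prime ?_ hne
        rw [← QuotientGroup.mk_pow, ← hi, pow_orderOf_eq_one, QuotientGroup.mk_one]
      rw [← h2]
      exact orderOf_dvd_natCard _
    have hfac : (Nat.card (I ⊓ K : Subgroup G)).factorization 2 ≤ k := by
      have h1 := congrArg (fun n : ℕ => n.factorization 2) hmul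
      rw [heq] at h1
      have hne : K.relIndex I ≠ 0 := fun h => by
        rw [heq, h, mul_zero] at hmul
        exact Nat.card_pos.ne' hmul.symm
      simp only [Nat.factorization_mul Nat.card_pos.ne' hne, Finsupp.add_apply] at h1
      have := Nat.prime_two.factorization_pos_of_dvd hne heven
      omega
    calc Nat.card I = Nat.card (I ⊓ K : Subgroup G) * K.relIndex I := by rw [← heq, hmul]
      _ ≤ b ^ k * b := Nat.mul_le_mul (ih _ inferInstance hfac) hle
      _ = b ^ (k + 1) := (pow_succ b k).symm

/-- Without odd normal subgroups, bounded centralisers of central involutions of a Sylow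
subgroup bound the group. -/
theorem card_le_of_trivial_core (a c : ℕ) (hG : (Nat.card G).factorization 2 ≤ a)
    (hodd : ∀ I : Subgroup G, I.Normal → Odd (Nat.card I) → I = ⊥) (P : Sylow 2 G)
    (hc : ∀ x ∈ (P : Subgroup G), orderOf x = 2 → (∀ u ∈ (P : Subgroup G), u * x = x * u) →
      Nat.card (centralizer ({x} : Set G)) ≤ c) :
    Nat.card G ≤ (c + 1) * (((c ^ 2 + c + 2).factorial ^ a).factorial) := by
  classical
  haveI := Fact.mk Nat.prime_two
  set b := (c ^ 2 + c + 2).factorial with hbdef
  have hb : 0 < b := Nat.factorial_pos _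
  by_cases hGodd : Odd (Nat.card G)
  · have h1 := hodd ⊤ inferInstance (by rwa [card_top])
    rw [← card_top (G := G), h1, card_bot]
    exact Nat.mul_pos (Nat.succ_pos _) (Nat.factorial_pos _)
  obtain ⟨N, hNmin⟩ : ∃ N : Subgroup G, Minimal (fun N => N.Normal ∧ N ≠ ⊥) N := by
    refine Set.Finite.exists_minimal (s := {N : Subgroup G | N.Normal ∧ N ≠ ⊥}) (Set.toFinite _)
      ⟨⊤, inferInstance, fun h => hGodd ?_⟩
    rw [← card_top (G := G), h, card_bot]
    exact odd_one
  obtain ⟨⟨hNn, hN1⟩, hmin⟩ := hNmin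
  haveI := hNn
  have hNev : 2 ∣ Nat.card N := by
    by_contra h
    exact hN1 (hodd N hNn (Nat.not_even_iff_odd.1 (mt even_iff_two_dvd.1 h)))
  -- a central involution of the Sylow subgroup inside `N`
  obtain ⟨x, hxN, hxP, hxo, hxc⟩ : ∃ x ∈ N, x ∈ (P : Subgroup G) ∧ orderOf x = 2 ∧
      ∀ u ∈ (P : Subgroup G), u * x = x * u := by
    have hne : N.subgroupOf (P : Subgroup G) ≠ ⊥ := by
      obtain ⟨i, hi⟩ := exists_prime_orderOf_dvd_card' 2 hNev
      have hIp : IsPGroup 2 (zpowers (i : G)) :=
        IsPGroup.of_card (n := 1) (by rw [Nat.card_zpowers, orderOf_coe, hi, pow_one])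
      obtain ⟨Q, hQ⟩ := hIp.exists_le_sylow
      obtain ⟨g, hg⟩ := MulAction.exists_smul_eq G P Q
      have hiQ := hQ (mem_zpowers (i : G))
      rw [← hg, Sylow.coe_subgroup_smul, mem_pointwise_smul_iff_inv_smul_mem] at hiQ
      simp only [MulAut.smul_def, MulAut.inv_def, MulAut.conj_symm_apply] at hiQ
      intro hbot
      have hmem : (⟨g⁻¹ * (i : G) * g, hiQ⟩ : (P : Subgroup G)) ∈ N.subgroupOf (P : Subgroup G) := by
        show g⁻¹ * (i : G) * g ∈ N
        simpa using hNn.conj_mem _ i.2 g⁻¹
      rw [hbot, mem_bot, Subtype.ext_iff] at hmem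
      have hmem' : g⁻¹ * (i : G) * g = 1 := hmem
      have h1 : (i : G) = 1 := by
        calc (i : G) = g * (g⁻¹ * (i : G) * g) * g⁻¹ := by group
          _ = 1 := by rw [hmem', mul_one, mul_inv_cancel]
      rw [← orderOf_coe, h1, orderOf_one] at hi
      exact absurd hi (by norm_num)
    haveI : Group.IsNilpotent (P : Subgroup G) := P.2.isNilpotent
    have hne' := Cfsg.Lib.Coprime.inf_center_ne_bot (G := (P : Subgroup G)) (N.subgroupOf (P : Subgroup G)) hne
    set Z := N.subgroupOf (P : Subgroup G) ⊓ center (P : Subgroup G) with hZ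
    have hdvd : 2 ∣ Nat.card Z := by
      obtain ⟨k, hk⟩ := (P.2.to_subgroup Z).exists_card_eq
      rcases k with _ | k
      · exact absurd (eq_bot_of_card_eq _ (by rw [hk, pow_zero])) hne'
      · rw [hk]; exact dvd_pow_self 2 k.succ_ne_zero
    obtain ⟨z, hz⟩ := exists_prime_orderOf_dvd_card' 2 hdvd
    exact ⟨((z : (P : Subgroup G)) : G), z.2.1, (z : (P : Subgroup G)).2,
      by rw [orderOf_coe, orderOf_coe, hz],
      fun u hu => congrArg Subtype.val (mem_center_iff.1 z.2.2 ⟨u, hu⟩)⟩
  have hcx : Nat.card (centralizer ({x} : Set G)) ≤ c := hc x hxP hxo hxc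
  -- `N` is bounded
  have hNbound : Nat.card N ≤ b ^ a := by
    have hoddN : ∀ I : Subgroup N, I.Normal → Odd (Nat.card I) → I = ⊥ := by
      intro I hI ho
      have hle : I ≤ Cfsg.pPrimeCore 2 N :=
        Cfsg.Lib.Components.le_pPrimeCore (Nat.coprime_two_right.2 ho)
      haveI : (Cfsg.pPrimeCore 2 N).Characteristic := by
        refine characteristic_iff_map_le.2 fun φ => ?_
        haveI : (Cfsg.pPrimeCore 2 N).Normal := Cfsg.Lib.Components.pPrimeCore_normal' 2
        haveI := Subgroup.Normal.map (H := Cfsg.pPrimeCore 2 N) inferInstance φ.toMonoidHom φ.surjective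
        refine Cfsg.Lib.Components.le_pPrimeCore ?_
        rw [card_map_of_injective φ.injective]
        exact Cfsg.Lib.Components.coprime_card_pPrimeCore 2
      have hodd' : Odd (Nat.card ((Cfsg.pPrimeCore 2 N).map N.subtype)) := by
        rw [card_map_of_injective (subtype_injective _)]
        exact Nat.coprime_two_right.1 (Cfsg.Lib.Components.coprime_card_pPrimeCore 2)
      have h0 := hodd _ ConjAct.normal_of_characteristic_of_normal hodd'
      rw [map_eq_bot_iff_of_injective _ (subtype_injective _)] at h0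
      exact le_bot_iff.1 (h0 ▸ hle)
    have hfac : (Nat.card N).factorization 2 ≤ a :=
      le_trans ((Nat.factorization_le_iff_dvd Nat.card_pos.ne' Nat.card_pos.ne').2
        (card_subgroup_dvd_card N) 2) hG
    by_cases hZ : Odd (Nat.card (center N))
    swap
    · -- an abelian 2-group
      have hev : 2 ∣ Nat.card (center N) := even_iff_two_dvd.1 (Nat.not_odd_iff_even.1 hZ)
      haveI : ((center N).map N.subtype).Normal := ConjAct.normal_of_characteristic_of_normal
      have hle : N ≤ (center N).map N.subtype := hmin ⟨inferInstance, fun h => by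
        rw [map_eq_bot_iff_of_injective _ (subtype_injective _)] at h
        rw [h, card_bot] at hev
        omega⟩ (map_subtype_le _)
      have hab : ∀ u v : N, u * v = v * u := fun u v => by
        obtain ⟨w, hw, hwv⟩ := hle u.2
        have : w = u := Subtype.ext hwv
        exact (mem_center_iff.1 (this ▸ hw) v).symm
      letI : CommGroup N := { (inferInstance : Group N) with mul_comm := hab }
      let K : Subgroup G := (powMonoidHom 2 : N →* N).ker.map N.subtype
      haveI : K.Normal := ⟨fun y hy g => by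
        obtain ⟨w, hw, rfl⟩ := hy
        refine ⟨⟨g * (w : G) * g⁻¹, hNn.conj_mem _ w.2 g⟩, ?_, rfl⟩
        have hw' : ((w : G)) ^ 2 = 1 := congrArg Subtype.val hw
        refine Subtype.ext ?_
        show (g * (w : G) * g⁻¹) ^ 2 = 1
        rw [conj_pow, hw', mul_one, mul_inv_cancel]⟩
      have hle2 : N ≤ K := hmin ⟨inferInstance, fun h => by
        have hmem : x ∈ K := ⟨⟨x, hxN⟩, Subtype.ext (show x ^ 2 = 1 by
          rw [← hxo, pow_orderOf_eq_one]), rfl⟩
        rw [h, mem_bot] at hmem
        rw [hmem, orderOf_one] at hxo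
        omega⟩ (map_subtype_le _)
      have hp : IsPGroup 2 N := fun u => by
        obtain ⟨w, hw, hwu⟩ := hle2 u.2
        refine ⟨1, ?_⟩
        rw [pow_one, ← (Subtype.ext hwu : w = u)]
        exact hw
      obtain ⟨k, hk⟩ := hp.exists_card_eq
      rw [hk, Nat.prime_two.factorization_pow, Finsupp.single_eq_same] at hfac
      rw [hk]
      refine le_trans (Nat.pow_le_pow_right (by norm_num) hfac) (Nat.pow_le_pow_left ?_ a)
      exact le_trans (by omega : 2 ≤ c ^ 2 + c + 2) (Nat.self_le_factorial _)
    · set n := Nat.card {t : N // orderOf t = 2} with hn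
      have hcN : Nat.card (centralizer ({⟨x, hxN⟩} : Set N)) ≤ c := by
        refine le_trans (Nat.card_le_card_of_injective
          (fun g => (⟨((g : N) : G), mem_centralizer_singleton_iff.2
            (congrArg Subtype.val (mem_centralizer_singleton_iff.1 g.2))⟩ :
              centralizer ({x} : Set G))) fun g g' h => ?_) hcx
        exact Subtype.ext (Subtype.ext (congrArg (fun t => t.1) h))
      have hcn : Nat.card N ≤ n * c := by
        rw [← Cfsg.Lib.Chars.card_isConj_mul (⟨x, hxN⟩ : N)]
        refine Nat.mul_le_mul ?_ hcN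
        refine Nat.card_le_card_of_injective
          (fun t => (⟨t.1, ?_⟩ : {t : N // orderOf t = 2})) fun t t' h => ?_
        · obtain ⟨g, hg⟩ := isConj_iff.1 t.2
          rw [← hg, show g * ⟨x, hxN⟩ * g⁻¹ = MulAut.conj g ⟨x, hxN⟩ from rfl, MulEquiv.orderOf_eq,
            Subgroup.orderOf_mk, hxo]
        · exact Subtype.ext (congrArg (fun u => u.1) h)
      obtain ⟨H, hH, hidx⟩ := exists_small_index (G := N) (even_iff_two_dvd.2 hNev) hZ
      rw [← hn] at hidx
      have hn0 : 0 < n := by
        rcases Nat.eq_zero_or_pos n with h | h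
        · rw [h, zero_mul] at hcn; exact absurd hcn (not_le.2 Nat.card_pos)
        · exact h
      have hHb : H.index ≤ c ^ 2 + c + 2 := by
        rcases hidx with h | h
        · omega
        · have h' : 2 * H.index * n ^ 2 < (c ^ 2 + c) * n ^ 2 :=
            calc 2 * H.index * n ^ 2 < Nat.card N * (Nat.card N + n) := h
              _ ≤ n * c * (n * c + n) := Nat.mul_le_mul hcn (Nat.add_le_add_right hcn n)
              _ = (c ^ 2 + c) * n ^ 2 := by ring
          have := Nat.lt_of_mul_lt_mul_right h'
          omega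
      set C0 := H.normalCore with hC0
      have hC0b : C0.index ≤ b := by
        rw [hC0, normalCore_eq_ker, index_ker]
        refine le_trans (Nat.le_of_dvd (Nat.card_pos) (card_subgroup_dvd_card _)) ?_
        rw [Nat.card_perm, ← index_eq_card]
        exact Nat.factorial_le hHb
      refine le_trans (card_le_pow_of_separated (G := N) b hb hoddN fun i hi => ?_)
        (Nat.pow_le_pow_right hb hfac)
      by_contra hcon
      push Not at hcon
      have hall : ∀ g : G, i ∈ C0.map (MulAut.conjNormal g : MulAut N).toMonoidHom := fun g =>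
        hcon _ (Subgroup.Normal.map inferInstance _ (MulEquiv.surjective _))
          (le_of_eq_of_le (index_map_of_bijective (MulEquiv.bijective _) C0) hC0b)
      set J : Subgroup N := ⨅ g : G, C0.map (MulAut.conjNormal g : MulAut N).toMonoidHom with hJ
      have hJn : (J.map N.subtype).Normal := by
        refine ⟨fun y hy g => ?_⟩
        obtain ⟨w, hw, rfl⟩ := hy
        refine ⟨MulAut.conjNormal g w, ?_, MulAut.conjNormal_apply g w⟩
        refine mem_iInf.2 fun h => ?_
        obtain ⟨v, hv, hvw⟩ := mem_iInf.1 hw (g⁻¹ * h)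
        refine ⟨v, hv, ?_⟩
        rw [← hvw]
        show MulAut.conjNormal h v = MulAut.conjNormal g (MulAut.conjNormal (g⁻¹ * h) v)
        rw [← MulAut.mul_apply, ← map_mul, mul_inv_cancel_left]
      have hJN : J.map N.subtype ≠ ⊥ := fun h => by
        rw [map_eq_bot_iff_of_injective _ (subtype_injective _)] at h
        have := mem_iInf.2 hall
        rw [← hJ, h, mem_bot] at this
        rw [this, orderOf_one] at hi
        omega
      have hle := hmin ⟨hJn, hJN⟩ (map_subtype_le _)
      refine hH (eq_top_iff.2 fun y _ => normalCore_le H ?_)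
      obtain ⟨w, hw, hwy⟩ := hle y.2
      obtain ⟨v, hv, hvw⟩ := mem_iInf.1 hw 1
      rw [map_one] at hvw
      have : v = y := hvw.trans (Subtype.ext hwy)
      exact this ▸ hv
  have hker : (MulAut.conjNormal : G →* MulAut N).ker ≤ centralizer ({x} : Set G) := fun g hg => by
    rw [mem_centralizer_singleton_iff]
    have h := congrArg (fun φ : MulAut N => ((φ ⟨x, hxN⟩ : N) : G)) hg
    simp only [MulAut.conjNormal_apply, MulAut.one_apply] at h
    exact mul_inv_eq_iff_eq_mul.1 h
  calc Nat.card G = Nat.card (MulAut.conjNormal : G →* MulAut N).ker *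
        (MulAut.conjNormal : G →* MulAut N).ker.index := (card_mul_index _).symm
    _ ≤ (c + 1) * (b ^ a).factorial := by
        refine Nat.mul_le_mul ((card_le_of_le hker).trans (hcx.trans (Nat.le_succ c))) ?_
        rw [index_ker]
        refine le_trans (Nat.le_of_dvd Nat.card_pos (card_subgroup_dvd_card _)) ?_
        refine le_trans (Nat.card_le_card_of_injective
          (fun φ : MulAut N => φ.toEquiv) fun φ ψ h => MulEquiv.toEquiv_injective h) ?_
        rw [show Nat.card (N ≃ N) = Nat.card (Equiv.Perm N) from rfl, Nat.card_perm]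
        exact Nat.factorial_le hNbound

/-- A four group with bounded centralisers, and bounded centralisers of the central
involutions of a Sylow subgroup, bound the group. -/
theorem card_le_of_centralizers (a c : ℕ) (hG : (Nat.card G).factorization 2 ≤ a) (P : Sylow 2 G)
    {e f : G} (he : e * e = 1) (he1 : e ≠ 1) (hf : f * f = 1) (hf1 : f ≠ 1)
    (hef : e * f = f * e) (hne : e ≠ f)
    (hce : Nat.card (centralizer ({e} : Set G)) ≤ c)
    (hcf : Nat.card (centralizer ({f} : Set G)) ≤ c)
    (hcef : Nat.card (centralizer ({e * f} : Set G)) ≤ c)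
    (hc : ∀ x ∈ (P : Subgroup G), orderOf x = 2 → (∀ u ∈ (P : Subgroup G), u * x = x * u) →
      Nat.card (centralizer ({x} : Set G)) ≤ c) :
    Nat.card G ≤ c ^ 4 * ((c ^ 5 + 1) * ((((c ^ 5) ^ 2 + c ^ 5 + 2).factorial ^ a).factorial)) := by
  classical
  haveI := Fact.mk Nat.prime_two
  set O := Cfsg.pPrimeCore 2 G with hO
  haveI hOn : O.Normal := Cfsg.Lib.Components.pPrimeCore_normal' 2
  have hOodd : Odd (Nat.card O) :=
    Nat.coprime_two_right.1 (Cfsg.Lib.Components.coprime_card_pPrimeCore 2)
  have hO4 : Nat.card O ≤ c ^ 4 := card_odd_normal_le hOodd he he1 hf hf1 hef hne hce hcf hcef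
  rw [show Nat.card G = Nat.card O * Nat.card (G ⧸ O) by
    rw [← index_eq_card, card_mul_index]]
  refine Nat.mul_le_mul hO4 ?_
  have hfac : (Nat.card (G ⧸ O)).factorization 2 ≤ a :=
    le_trans ((Nat.factorization_le_iff_dvd Nat.card_pos.ne' Nat.card_pos.ne').2
      (card_quotient_dvd_card O) 2) hG
  refine card_le_of_trivial_core a (c ^ 5) hfac ?_
    (P.mapSurjective (QuotientGroup.mk'_surjective O)) ?_
  · intro I hI ho
    set J := I.comap (QuotientGroup.mk' O) with hJ
    haveI : J.Normal := hI.comap _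
    have hcard : Nat.card J = Nat.card O * Nat.card I := by
      have hle : O ≤ J := fun y hy => by
        rw [hJ, mem_comap, QuotientGroup.mk'_apply, (QuotientGroup.eq_one_iff y).2 hy]
        exact one_mem _
      have e1 := J.card_mul_index
      rw [hJ, index_comap_of_surjective _ (QuotientGroup.mk'_surjective O), ← hJ] at e1
      have e2 := I.card_mul_index
      have e3 := O.card_mul_index
      rw [index_eq_card, ← e2, ← mul_assoc] at e3
      exact mul_right_cancel₀ index_ne_zero_of_finite (e1.trans e3.symm)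
    have hJO : J ≤ O := Cfsg.Lib.Components.le_pPrimeCore
      (Nat.coprime_two_right.2 (by rw [hcard]; exact hOodd.mul ho))
    refine eq_bot_of_card_le _ ?_
    have := card_le_of_le hJO
    rw [hcard] at this
    exact Nat.le_of_mul_le_mul_left (this.trans (mul_one _).ge) Nat.card_pos
  · rintro y ⟨x, hxP, rfl⟩ hyo hyc
    have hPO : ∀ u ∈ (P : Subgroup G), u ∈ O → u = 1 := by
      intro u hu huO
      obtain ⟨k, hk⟩ := (IsPGroup.iff_orderOf.1 P.2) ⟨u, hu⟩
      rw [orderOf_mk] at hk
      rcases k with _ | k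
      · exact orderOf_eq_one_iff.1 hk
      · exfalso
        refine Nat.not_even_iff_odd.2 hOodd (even_iff_two_dvd.2 ?_)
        refine (hk ▸ dvd_pow_self 2 k.succ_ne_zero : 2 ∣ orderOf u).trans ?_
        rw [← orderOf_mk (H := O) u huO]
        exact orderOf_dvd_natCard _
    have hxo : orderOf x = 2 := by
      refine orderOf_eq_prime (hPO _ (pow_mem hxP 2) ?_) fun h => ?_
      · have h := pow_orderOf_eq_one (QuotientGroup.mk' O x)
        rw [hyo, ← map_pow] at h
        exact (QuotientGroup.eq_one_iff _).1 h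
      · rw [h, map_one, orderOf_one] at hyo
        omega
    have hxc : ∀ u ∈ (P : Subgroup G), u * x = x * u := by
      intro u hu
      have h := hyc _ ⟨u, hu, rfl⟩
      rw [← map_mul, ← map_mul] at h
      have h2 := QuotientGroup.eq.1 h.symm
      exact (inv_mul_eq_one.1 (hPO _ (mul_mem (inv_mem (mul_mem hxP hu)) (mul_mem hu hxP)) h2)).symm
    calc _ ≤ Nat.card O * c := card_centralizer_quotient_le (hc x hxP hxo hxc)
      _ ≤ c ^ 4 * c := Nat.mul_le_mul_right _ hO4
      _ = c ^ 5 := (pow_succ c 4).symm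

end Cfsg.Lib.BrauerFowler
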