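/-
Involution classes when a Sylow 2-subgroup is a four-group.
-/
import Cfsg.Agent.Transfer.Control
import Mathlib.GroupTheory.SpecificGroups.KleinFour

set_option linter.style.haveILetI false
set_option linter.unusedSectionVars false

namespace Cfsg.Lib.KleinSylow

open Subgroup

variable {G : Type*} [Group G] [Finite G] (P : Sylow 2 G)

theorem comm_of_klein (hP : IsKleinFour (P : Subgroup G)) : IsMulCommutative (P : Subgroup G) :=
  ⟨⟨fun a b => mul_comm_of_exponent_two hP.exponent_two a b⟩⟩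

/-- classes of involutions come from the four-group -/
theorem surj (hP : IsKleinFour (P : Subgroup G)) :
    Function.Surjective (fun x : {x : (P : Subgroup G) // x ≠ 1} =>
      (⟨ConjClasses.mk (x.1 : G), (x.1 : G), by
        haveI : Fact (Nat.Prime 2) := ⟨Nat.prime_two⟩
        rw [orderOf_coe]
        exact orderOf_eq_prime (orderOf_dvd_iff_pow_eq_one.1 ((Monoid.order_dvd_exponent _).trans (dvd_of_eq hP.exponent_two))) x.2, rfl⟩ :
        {C : ConjClasses G // ∃ t : G, orderOf t = 2 ∧ ConjClasses.mk t = C})) := by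
  haveI : Fact (Nat.Prime 2) := ⟨Nat.prime_two⟩
  rintro ⟨C, t, ht, rfl⟩
  obtain ⟨R, hR⟩ := (IsPGroup.of_card (n := 1) (show Nat.card (zpowers t) = 2 ^ 1 by
    rw [Nat.card_zpowers, ht, pow_one])).exists_le_sylow
  obtain ⟨g, hg⟩ := MulAction.exists_smul_eq G R P
  have hm : g * t * g⁻¹ ∈ (P : Subgroup G) := by
    rw [← hg, Sylow.coe_subgroup_smul]
    exact ⟨t, hR (mem_zpowers t), rfl⟩
  refine ⟨⟨⟨_, hm⟩, fun h => ?_⟩, Subtype.ext ?_⟩
  · have h' : g * t * g⁻¹ = 1 := congrArg Subtype.val h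
    rw [mul_inv_eq_one, mul_eq_left] at h'
    rw [h', orderOf_one] at ht
    omega
  · exact ConjClasses.mk_eq_mk_iff_isConj.2 (isConj_iff.2 ⟨g, rfl⟩ : IsConj t (g * t * g⁻¹)).symm

theorem card_ne_one (hP : IsKleinFour (P : Subgroup G)) :
    Nat.card {x : (P : Subgroup G) // x ≠ 1} = 3 := by
  classical
  haveI := Fintype.ofFinite (P : Subgroup G)
  rw [Nat.card_eq_fintype_card, Fintype.card_subtype_compl, Fintype.card_subtype_eq, ← Nat.card_eq_fintype_card,
    hP.card_four]

/-- The dichotomy. -/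
theorem dichotomy (hP : IsKleinFour (P : Subgroup G)) :
    (normalizer ((P : Subgroup G) : Set G) ≤ centralizer ((P : Subgroup G) : Set G) ∧
      Nat.card {C : ConjClasses G // ∃ t : G, orderOf t = 2 ∧ ConjClasses.mk t = C} = 3) ∨
    (¬ normalizer ((P : Subgroup G) : Set G) ≤ centralizer ((P : Subgroup G) : Set G) ∧
      Nat.card {C : ConjClasses G // ∃ t : G, orderOf t = 2 ∧ ConjClasses.mk t = C} = 1) := by
  classical
  haveI : Fact (Nat.Prime 2) := ⟨Nat.prime_two⟩
  have hcomm := comm_of_klein P hP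
  by_cases hNC : normalizer ((P : Subgroup G) : Set G) ≤ centralizer ((P : Subgroup G) : Set G)
  · refine Or.inl ⟨hNC, ?_⟩
    rw [← card_ne_one P hP]
    refine (Nat.card_eq_of_bijective _ ⟨?_, surj P hP⟩).symm
    intro a b h
    have h' : ConjClasses.mk (a.1 : G) = ConjClasses.mk (b.1 : G) := congrArg Subtype.val h
    obtain ⟨g, hg⟩ := isConj_iff.1 (ConjClasses.mk_eq_mk_iff_isConj.1 h')
    obtain ⟨n, hn, he⟩ := Cfsg.Lib.Transfer.abelian_sylow_fusion P hcomm a.1 g a.1.2 (by rw [hg]; exact b.1.2)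
    rw [hg, ← hNC hn _ a.1.2, mul_inv_cancel_right] at he
    exact Subtype.ext (Subtype.ext he.symm)
  · refine Or.inr ⟨hNC, ?_⟩
    obtain ⟨n, hn, hn'⟩ := SetLike.not_le_iff_exists.1 hNC
    rw [mem_centralizer_iff] at hn'
    push Not at hn'
    obtain ⟨x, hx, hxn⟩ := hn'
    set y := n * x * n⁻¹ with hy
    have hyP : y ∈ (P : Subgroup G) := (mem_normalizer_iff.1 hn x).1 hx
    have hxy : x ≠ y := fun h => hxn (by
      conv_lhs => arg 1; rw [h, hy]
      rw [inv_mul_cancel_right])
    have hx1 : x ≠ 1 := fun h => hxn (by rw [h, one_mul, mul_one])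
    set z := n * y * n⁻¹ with hz
    have hzP : z ∈ (P : Subgroup G) := (mem_normalizer_iff.1 hn y).1 hyP
    -- an odd power of `n` centralises `P`
    obtain ⟨m, hmodd, hm⟩ : ∃ m, Odd m ∧ n ^ m ∈ (P : Subgroup G) := by
      obtain ⟨i, m, hm, he⟩ := Nat.exists_eq_two_pow_mul_odd (orderOf_pos n).ne'
      refine ⟨m, hm, ?_⟩
      have hp : IsPGroup 2 (zpowers (n ^ m)) := by
        refine IsPGroup.of_card (n := i) ?_
        rw [Nat.card_zpowers, orderOf_pow, he, Nat.gcd_mul_left_left, Nat.mul_div_cancel _ hm.pos]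
      have hle : zpowers (n ^ m) ≤ normalizer ((P : Subgroup G) : Set G) := by
        rw [zpowers_le]; exact pow_mem hn m
      have := P.is_maximal' (hp.to_sup_of_normal_right' P.isPGroup' hle) le_sup_right
      rw [← this]
      exact mem_sup_left (mem_zpowers _)
    have hzx : z ≠ x := by
      intro h
      obtain ⟨k, rfl⟩ := hmodd
      have hper : ∀ j : ℕ, n ^ (2 * j) * x * (n ^ (2 * j))⁻¹ = x := by
        intro j
        induction j with
        | zero => simp
        | succ j ihj =>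
          calc n ^ (2 * (j + 1)) * x * (n ^ (2 * (j + 1)))⁻¹
              = n ^ (2 * j) * (n * (n * x * n⁻¹) * n⁻¹) * (n ^ (2 * j))⁻¹ := by
                rw [show 2 * (j + 1) = 2 * j + 1 + 1 by omega, pow_succ, pow_succ]; group
            _ = x := by rw [← hy, ← hz, h, ihj]
      have h1 : n ^ (2 * k + 1) * x * (n ^ (2 * k + 1))⁻¹ = y := by
        rw [pow_succ', show n * n ^ (2 * k) * x * (n * n ^ (2 * k))⁻¹ = n * (n ^ (2 * k) * x * (n ^ (2 * k))⁻¹) * n⁻¹ by
          group, hper k]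
      have h2 : (n ^ (2 * k + 1)) * x = x * (n ^ (2 * k + 1)) :=
        congrArg Subtype.val (hcomm.is_comm.comm ⟨_, hm⟩ ⟨x, hx⟩)
      rw [h2, mul_inv_cancel_right] at h1
      exact hxy h1
    have hzy : z ≠ y := fun h => hxy (by
      have := congrArg (fun w => n⁻¹ * w * n) h
      simp only [hz] at this
      rw [show n⁻¹ * (n * y * n⁻¹) * n = y by group] at this
      rw [this, hy]; group)
    have hy1 : y ≠ 1 := fun h => hx1 (by rw [hy, mul_inv_eq_one, mul_eq_left] at h; exact h)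
    have hz1 : z ≠ 1 := fun h => hy1 (by rw [hz, mul_inv_eq_one, mul_eq_left] at h; exact h)
    have hall : ∀ a : {w : (P : Subgroup G) // w ≠ 1}, IsConj x (a.1 : G) := by
      intro a
      haveI := Fintype.ofFinite {w : (P : Subgroup G) // w ≠ 1}
      set S : Finset {w : (P : Subgroup G) // w ≠ 1} :=
        {⟨⟨x, hx⟩, fun h => hx1 (congrArg Subtype.val h)⟩, ⟨⟨y, hyP⟩, fun h => hy1 (congrArg Subtype.val h)⟩,
          ⟨⟨z, hzP⟩, fun h => hz1 (congrArg Subtype.val h)⟩} with hS
      have hSc : S.card = 3 := by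
        rw [hS]
        exact Finset.card_eq_three.2 ⟨_, _, _, fun h => hxy (congrArg (fun w => (w.1 : G)) h),
          fun h => hzx (congrArg (fun w => (w.1 : G)) h).symm, fun h => hzy (congrArg (fun w => (w.1 : G)) h).symm, rfl⟩
      have hSu : S = Finset.univ := Finset.eq_univ_of_card _ (by rw [hSc, ← Nat.card_eq_fintype_card, card_ne_one P hP])
      have ha : a ∈ S := hSu ▸ Finset.mem_univ a
      simp only [hS, Finset.mem_insert, Finset.mem_singleton] at ha
      rcases ha with rfl | rfl | rfl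
      · exact IsConj.refl x
      · exact isConj_iff.2 ⟨n, rfl⟩
      · exact (isConj_iff.2 ⟨n, rfl⟩ : IsConj x y).trans (isConj_iff.2 ⟨n, rfl⟩)
    rw [Nat.card_eq_one_iff_unique]
    refine ⟨⟨fun A B => ?_⟩, ⟨_, x, ?_, rfl⟩⟩
    · obtain ⟨a, rfl⟩ := surj P hP A
      obtain ⟨b, rfl⟩ := surj P hP B
      exact Subtype.ext (ConjClasses.mk_eq_mk_iff_isConj.2 ((hall a).symm.trans (hall b)))
    · rw [show x = ((⟨x, hx⟩ : (P : Subgroup G)) : G) from rfl, orderOf_coe]
      exact orderOf_eq_prime (orderOf_dvd_iff_pow_eq_one.1 ((Monoid.order_dvd_exponent _).trans (dvd_of_eq hP.exponent_two)))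
        fun h => hx1 (congrArg Subtype.val h)

end Cfsg.Lib.KleinSylow
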