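import Cfsg.Agent.InvolCalc.ZStarApps
import Mathlib.GroupTheory.Nilpotent
import Mathlib.GroupTheory.Perm.Cycle.Type

/-!
An automorphism of prime order coprime to the group order which fixes the centralizer of an
involution element by element: two fixed conjugates of the involution differ by an element of the
normal core of the fixed-point subgroup.
-/

set_option autoImplicit false
set_option linter.unusedSectionVars false

namespace Cfsg.Lib.CoprimeFixedCentralizer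

open Subgroup MulAction

variable {G : Type*} [Group G] [Finite G]

/-- the subgroup of fixed points -/
def fixed (α : MulAut G) : Subgroup G where
  carrier := {g | α g = g}
  one_mem' := map_one α
  mul_mem' := fun {a b} (ha : α a = a) (hb : α b = b) => by
    show α (a * b) = a * b
    rw [map_mul, ha, hb]
  inv_mem' := fun {a} (ha : α a = a) => by
    show α a⁻¹ = a⁻¹
    rw [map_inv, ha]

theorem mem_fixed {α : MulAut G} {g : G} : g ∈ fixed α ↔ α g = g := Iff.rfl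

/-- in a finite `p`-group a proper subgroup is properly contained in its normalizer -/
theorem exists_normalizing {q : ℕ} [Fact q.Prime] {Q H : Subgroup G} (hQ : IsPGroup q Q) (hHQ : H ≤ Q)
    (hne : H ≠ Q) : ∃ s ∈ Q, s ∉ H ∧ s ∈ normalizer (H : Set G) := by
  haveI : Group.IsNilpotent ↥Q := hQ.isNilpotent
  have hlt : H.subgroupOf Q < ⊤ := lt_top_iff_ne_top.2 fun h => hne
    (le_antisymm hHQ (subgroupOf_eq_top.1 h))
  obtain ⟨s, hs, hs'⟩ := SetLike.exists_of_lt (normalizerCondition_of_isNilpotent _ hlt)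
  refine ⟨s, s.2, fun h => hs' (mem_subgroupOf.2 h), ?_⟩
  refine mem_normalizer_iff.2 fun x => ⟨fun hx => ?_, fun hx => ?_⟩
  · exact mem_subgroupOf.1 ((mem_normalizer_iff.1 hs ⟨x, hHQ hx⟩).1 (mem_subgroupOf.2 hx))
  · have hxQ : x ∈ Q := by
      have := Q.mul_mem (Q.mul_mem (Q.inv_mem s.2) (hHQ hx)) s.2
      simpa [mul_assoc] using this
    exact mem_subgroupOf.1 ((mem_normalizer_iff.1 hs ⟨x, hxQ⟩).2 (mem_subgroupOf.2 hx))

variable {α : MulAut G} {r : ℕ} [Fact r.Prime]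

/-- if `g⁻¹ α(g)` is fixed then `g` is fixed -/
theorem fixed_of_cocycle (hα : α ^ r = 1) (hcop : ¬ r ∣ Nat.card G) {g : G}
    (hy : g⁻¹ * α g ∈ fixed α) : g ∈ fixed α := by
  set y := g⁻¹ * α g with hydef
  have hg : α g = g * y := by rw [hydef]; group
  have hit : ∀ i : ℕ, (α ^ i) g = g * y ^ i := by
    intro i
    induction i with
    | zero => simp
    | succ i ih =>
      rw [pow_succ', MulAut.mul_apply, ih, map_mul, map_pow, mem_fixed.1 hy, hg, mul_assoc, ← pow_succ']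
  have h1 : y ^ r = 1 := by
    have h := hit r
    rw [hα, MulAut.one_apply] at h
    exact left_eq_mul.1 h
  have h2 : y = 1 := by
    have hd := orderOf_dvd_of_pow_eq_one h1
    rcases (Nat.dvd_prime Fact.out).1 hd with h | h
    · exact orderOf_eq_one_iff.1 h
    · exact absurd (h ▸ orderOf_dvd_natCard y) hcop
  rw [mem_fixed, hg, h2, mul_one]

theorem mem_of_conj_mem (hα : α ^ r = 1) (hcop : ¬ r ∣ Nat.card G) {a g : G}
    (ha : centralizer ({a} : Set G) ≤ fixed α) (hga : g * a * g⁻¹ ∈ fixed α) : g ∈ fixed α := by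
  refine fixed_of_cocycle hα hcop (ha (mem_centralizer_singleton_iff.2 ?_))
  have haf : α a = a := ha (mem_centralizer_singleton_iff.2 rfl)
  have h := mem_fixed.1 hga
  rw [map_mul, map_mul, map_inv, haf] at h
  calc g⁻¹ * α g * a = g⁻¹ * (α g * a * (α g)⁻¹) * α g := by group
    _ = a * (g⁻¹ * α g) := by rw [h]; group

/-- a permutation of prime order of a set of coprime size has a fixed point -/
theorem exists_fixed_point {X : Type*} [Finite X] (hX : ¬ r ∣ Nat.card X) (f : Equiv.Perm X)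
    (hf : f ^ r = 1) : ∃ x, f x = x := by
  haveI := Fintype.ofFinite X
  exact Equiv.Perm.exists_fixed_point_of_prime (p := r) (n := 1)
    (by rwa [Nat.card_eq_fintype_card] at hX) (by rwa [pow_one])

/-- an invariant subgroup has an invariant Sylow subgroup -/
theorem exists_invariant_sylow (hα : α ^ r = 1) (hcop : ¬ r ∣ Nat.card G) (q : ℕ) [Fact q.Prime]
    (M : Subgroup G) (hM : ∀ x ∈ M, α x ∈ M) :
    ∃ T : Sylow q ↥M, ∀ x ∈ (T : Subgroup ↥M).map M.subtype, α x ∈ (T : Subgroup ↥M).map M.subtype := by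
  let f : ↥M →* ↥M :=
    { toFun := fun x => ⟨α x, hM x x.2⟩
      map_one' := Subtype.ext (map_one α)
      map_mul' := fun x y => Subtype.ext (map_mul α (x : G) y) }
  have hf : Function.Bijective f := Finite.injective_iff_bijective.1 fun x y h =>
    Subtype.ext (α.injective (congrArg Subtype.val h))
  let β : MulAut ↥M := MulEquiv.ofBijective f hf
  have hβ : ∀ (i : ℕ) (x : ↥M), (((β ^ i) x : ↥M) : G) = (α ^ i) (x : G) := by
    intro i
    induction i with
    | zero => simp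
    | succ i ih =>
      intro x
      rw [pow_succ', MulAut.mul_apply, pow_succ', MulAut.mul_apply, ← ih]
      rfl
  have hβr : β ^ r = 1 := MulEquiv.ext fun x => Subtype.ext (by rw [hβ, hα]; rfl)
  have hX : ¬ r ∣ Nat.card (Sylow q ↥M) := fun h => by
    obtain ⟨P⟩ := (inferInstance : Nonempty (Sylow q ↥M))
    rw [P.card_eq_index_normalizer] at h
    exact hcop ((h.trans (index_dvd_card _)).trans (card_subgroup_dvd_card M))
  obtain ⟨T, hT⟩ := exists_fixed_point (r := r) hX (MulAction.toPermHom (MulAut ↥M) (Sylow q ↥M) β)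
    (by rw [← map_pow, hβr, map_one])
  refine ⟨T, ?_⟩
  rintro _ ⟨x, hx, rfl⟩
  refine ⟨β x, ?_, rfl⟩
  have : β x ∈ ((β • T : Sylow q ↥M) : Subgroup ↥M) := smul_mem_pointwise_smul x β _ hx
  rwa [show β • T = T from hT] at this

/-- the normalizer of a subgroup of fixed points is invariant -/
theorem normalizer_invariant {E : Subgroup G} (hE : E ≤ fixed α) {x : G}
    (hx : x ∈ normalizer (E : Set G)) : α x ∈ normalizer (E : Set G) :=
  Cfsg.Lib.ZStarApps.mem_normalizer_of_maps fun a ha => by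
    have hmem := (mem_normalizer_iff.1 hx a).1 ha
    have h1 : α x * a * (α x)⁻¹ = α (x * a * x⁻¹) := by rw [map_mul, map_mul, map_inv, mem_fixed.1 (hE ha)]
    rw [h1, mem_fixed.1 (hE hmem)]
    exact hmem

/-- an invariant 2-subgroup is fixed element by element -/
theorem two_le_fixed (hα : α ^ r = 1) (hcop : ¬ r ∣ Nat.card G) {τ : G} (hτ : orderOf τ = 2)
    (hC : centralizer ({τ} : Set G) ≤ fixed α) {T : Subgroup G} (hT2 : IsPGroup 2 T)
    (hT : ∀ x ∈ T, α x ∈ T) : T ≤ fixed α := by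
  haveI : Fact (Nat.Prime 2) := ⟨Nat.prime_two⟩
  have hτK : τ ∈ fixed α := hC (mem_centralizer_singleton_iff.2 rfl)
  -- a Sylow subgroup of fixed points
  have hz : IsPGroup 2 ↥(zpowers τ) := IsPGroup.iff_card.2 ⟨1, by rw [Nat.card_zpowers, hτ, pow_one]⟩
  obtain ⟨S, hS⟩ := hz.exists_le_sylow
  have hSK : (S : Subgroup G) ≤ fixed α := by
    by_contra h
    obtain ⟨s, hsS, hs, hsN⟩ := exists_normalizing S.isPGroup' (H := (S : Subgroup G) ⊓ fixed α) inf_le_left
      (fun e => h (inf_eq_left.1 e))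
    refine hs ⟨hsS, mem_of_conj_mem hα hcop hC ?_⟩
    exact ((mem_normalizer_iff.1 hsN τ).1 ⟨hS (mem_zpowers τ), hτK⟩).2
  -- a maximal invariant 2-subgroup containing `T`
  obtain ⟨R, hTR, ⟨hR2, hRinv⟩, hRmax⟩ :=
    Finite.exists_le_maximal (p := fun R : Subgroup G => IsPGroup 2 R ∧ ∀ x ∈ R, α x ∈ R) ⟨hT2, hT⟩
  set M := normalizer (R : Set G) with hMdef
  have hMinv : ∀ x ∈ M, α x ∈ M := fun x hx => by
    refine Cfsg.Lib.ZStarApps.mem_normalizer_of_maps fun a ha => ?_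
    obtain ⟨b, hb, rfl⟩ : ∃ b ∈ R, α b = a := by
      have he : R.map α.toMonoidHom = R :=
        eq_of_le_of_card_ge (by rintro _ ⟨b, hb, rfl⟩; exact hRinv b hb)
          (card_map_of_injective α.injective).ge
      rw [← he] at ha
      obtain ⟨b, hb, hba⟩ := ha
      exact ⟨b, hb, hba⟩
    rw [← map_inv, ← map_mul, ← map_mul]
    exact hRinv _ ((mem_normalizer_iff.1 hx b).1 hb)
  obtain ⟨P, hP⟩ := exists_invariant_sylow hα hcop 2 M hMinv
  have hRP : R ≤ (P : Subgroup ↥M).map M.subtype := by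
    obtain ⟨Q, hQ⟩ := ((hR2.of_equiv (subgroupOfEquivOfLe le_normalizer).symm) :
      IsPGroup 2 ↥(R.subgroupOf M)).exists_le_sylow
    obtain ⟨c, hc⟩ := MulAction.exists_smul_eq ↥M Q P
    intro x hx
    have hy : (c : G)⁻¹ * x * c ∈ R := by
      have := (mem_normalizer_iff.1 (inv_mem c.2) x).1 hx
      simpa [mul_assoc] using this
    refine ⟨⟨x, le_normalizer hx⟩, ?_, rfl⟩
    rw [SetLike.mem_coe, ← hc]
    have h2 := smul_mem_pointwise_smul (⟨_, le_normalizer hy⟩ : ↥M) (MulAut.conj c) _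
      (hQ (mem_subgroupOf.2 hy))
    have e : (⟨x, le_normalizer hx⟩ : ↥M) = MulAut.conj c • (⟨_, le_normalizer hy⟩ : ↥M) := by
      refine Subtype.ext ?_
      show x = (c : G) * ((c : G)⁻¹ * x * c) * (c : G)⁻¹
      group
    rw [e]
    exact h2
  have hPR : (P : Subgroup ↥M).map M.subtype = R :=
    le_antisymm (hRmax ⟨P.isPGroup'.map _, hP⟩ hRP) hRP
  obtain ⟨Q, hQ⟩ := hR2.exists_le_sylow
  have hQR : R = Q := by
    by_contra hne
    obtain ⟨s, hsQ, hsR, hsN⟩ := exists_normalizing Q.isPGroup' hQ hne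
    set W := (Q : Subgroup G) ⊓ M with hW
    have hWp : IsPGroup 2 ↥(W.subgroupOf M) :=
      (Q.isPGroup'.to_le inf_le_left).of_equiv (subgroupOfEquivOfLe inf_le_right).symm
    have hle : (P : Subgroup ↥M) ≤ W.subgroupOf M := fun x hx => by
      refine mem_subgroupOf.2 ⟨hQ ?_, x.2⟩
      rw [← hPR]
      exact ⟨x, hx, rfl⟩
    have := P.is_maximal' hWp hle
    refine hsR ?_
    rw [← hPR]
    exact ⟨⟨s, hsN⟩, this ▸ mem_subgroupOf.2 ⟨hsQ, hsN⟩, rfl⟩
  -- an invariant transporter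
  have hSinv : ∀ x ∈ (S : Subgroup G), α x = x := fun x hx => hSK hx
  obtain ⟨g₀, hg₀⟩ := MulAction.exists_smul_eq G S Q
  let X := {g : G // ∀ x ∈ (S : Subgroup G), g * x * g⁻¹ ∈ R}
  have hXinv : ∀ g : G, (∀ x ∈ (S : Subgroup G), g * x * g⁻¹ ∈ R) →
      ∀ x ∈ (S : Subgroup G), α g * x * (α g)⁻¹ ∈ R := fun g hg x hx => by
    have := hRinv _ (hg x hx)
    rwa [map_mul, map_mul, map_inv, hSinv x hx] at this
  have hg₀' : ∀ x ∈ (S : Subgroup G), g₀ * x * g₀⁻¹ ∈ R := fun x hx => by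
    rw [hQR, ← hg₀]
    exact smul_mem_pointwise_smul x (MulAut.conj g₀) _ hx
  have hcardX : Nat.card X = Nat.card (normalizer ((S : Subgroup G) : Set G)) := by
    refine Nat.card_congr
      { toFun := fun g => ⟨g₀⁻¹ * g.1, Cfsg.Lib.ZStarApps.mem_normalizer_of_maps fun a ha => ?_⟩
        invFun := fun n => ⟨g₀ * n.1, fun x hx => ?_⟩
        left_inv := fun g => Subtype.ext (mul_inv_cancel_left _ _)
        right_inv := fun n => Subtype.ext (inv_mul_cancel_left _ _) }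
    · have h1 : g.1 * a * g.1⁻¹ ∈ ((g₀ • S : Sylow 2 G) : Subgroup G) := by
        rw [hg₀]
        exact hQR.le (g.2 a ha)
      obtain ⟨b, hb, hbe⟩ := h1
      have : g₀⁻¹ * g.1 * a * (g₀⁻¹ * g.1)⁻¹ = b := by
        have hbe' : g₀ * b * g₀⁻¹ = g.1 * a * g.1⁻¹ := hbe
        calc g₀⁻¹ * g.1 * a * (g₀⁻¹ * g.1)⁻¹ = g₀⁻¹ * (g.1 * a * g.1⁻¹) * g₀ := by group
          _ = b := by rw [← hbe']; group
      rw [this]
      exact hb
    · have h1 := hg₀' _ ((mem_normalizer_iff.1 n.2 x).1 hx)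
      convert h1 using 1
      group
  let f : X → X := fun g => ⟨α g.1, hXinv g.1 g.2⟩
  have hfinj : Function.Injective f := fun a b h => Subtype.ext (α.injective (congrArg Subtype.val h))
  let π : Equiv.Perm X := Equiv.ofBijective f (Finite.injective_iff_bijective.1 hfinj)
  have hπ : ∀ (i : ℕ) (x : X), ((π ^ i) x).1 = (α ^ i) x.1 := by
    intro i
    induction i with
    | zero => simp
    | succ i ih =>
      intro x
      rw [pow_succ', Equiv.Perm.mul_apply, pow_succ', MulAut.mul_apply, ← ih]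
      rfl
  obtain ⟨g, hg⟩ := exists_fixed_point (r := r)
    (fun h => hcop ((hcardX ▸ h).trans (card_subgroup_dvd_card _))) π
    (Equiv.ext fun x => Subtype.ext (by rw [hπ, hα]; rfl))
  have hgK : g.1 ∈ fixed α := mem_fixed.2 (congrArg Subtype.val hg)
  refine hTR.trans fun x hx => ?_
  have hmap : (S : Subgroup G).map (MulAut.conj g.1).toMonoidHom = R := by
    refine eq_of_le_of_card_ge (by rintro _ ⟨y, hy, rfl⟩; exact g.2 y hy) ?_
    rw [card_map_of_injective (MulAut.conj g.1).injective, hQR]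
    exact (Sylow.card_eq_multiplicity Q).trans (Sylow.card_eq_multiplicity S).symm |>.le
  rw [← hmap] at hx
  obtain ⟨y, hy, rfl⟩ := hx
  exact (fixed α).mul_mem ((fixed α).mul_mem hgK (hSK hy)) ((fixed α).inv_mem hgK)

/-- two fixed conjugates of `τ` differ by an element of the core of the fixed points -/
theorem mul_inv_mem_normalCore (hα : α ^ r = 1) (hcop : ¬ r ∣ Nat.card G) {τ : G} (hτ : orderOf τ = 2)
    (hC : centralizer ({τ} : Set G) ≤ fixed α) (b c : G) (hb : b * τ * b⁻¹ ∈ fixed α)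
    (hc : c * τ * c⁻¹ ∈ fixed α) :
    (b * τ * b⁻¹) * (c * τ * c⁻¹)⁻¹ ∈ (fixed α).normalCore := by
  classical
  haveI : Fact (Nat.Prime 2) := ⟨Nat.prime_two⟩
  set K := fixed α with hK
  let o : G ⧸ K := ((1 : G) : G ⧸ K)
  have hstab : stabilizer G o = K := stabilizer_quotient K
  have hconjK : ∀ g, g * τ * g⁻¹ ∈ K → g ∈ K := fun g hg => mem_of_conj_mem hα hcop hC hg
  let D := {d : G // ∃ g, g * τ * g⁻¹ = d}
  let A := {a : D // a.1 ∈ K}
  let P := {p : G ⧸ K // p ≠ o}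
  have hinv : ∀ d : D, d.1 * d.1 = 1 := by
    rintro ⟨_, g, rfl⟩
    show g * τ * g⁻¹ * (g * τ * g⁻¹) = 1
    have h2 : τ * τ = 1 := by rw [← sq, ← hτ, pow_orderOf_eq_one]
    calc g * τ * g⁻¹ * (g * τ * g⁻¹) = g * (τ * τ) * g⁻¹ := by group
      _ = 1 := by rw [h2]; group
  have hinv' : ∀ (d : D) (p : G ⧸ K), d.1 • o = p → d.1 • p = o := fun d p h => by
    rw [← h, smul_smul, hinv, one_smul]
  -- the conjugate of the fibre over a point
  let E : P → Subgroup G := fun p => stabilizer G o ⊓ stabilizer G p.1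
  have hEK : ∀ p, E p ≤ K := fun p => inf_le_left.trans hstab.le
  have hswap : ∀ (p : P) (d d' : D), d.1 • o = p.1 → d'.1 • o = p.1 → d'.1 * d.1 ∈ E p := by
    intro p d d' hd hd'
    refine ⟨mem_stabilizer_iff.2 ?_, mem_stabilizer_iff.2 ?_⟩
    · rw [mul_smul, hd, hinv' d' p hd']
    · rw [mul_smul, hinv' d p hd, hd']
  have hex : ∀ p : P, ∃ g ∈ normalizer (E p : Set G),
      ∀ d : D, d.1 • o = p.1 → g * d.1 * g⁻¹ ∈ K := by
    intro p
    by_cases hne : ∃ d : D, d.1 • o = p.1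
    · obtain ⟨v, hv⟩ := hne
      set N := normalizer (E p : Set G)
      have hvN : v.1 ∈ N := by
        refine Cfsg.Lib.ZStarApps.mem_normalizer_of_maps fun a ha => ?_
        have hvi : v.1⁻¹ = v.1 := inv_eq_of_mul_eq_one_right (hinv v)
        obtain ⟨ha1, ha2⟩ := ha
        rw [hvi]
        refine ⟨mem_stabilizer_iff.2 ?_, mem_stabilizer_iff.2 ?_⟩
        · rw [mul_smul, mul_smul, hv, mem_stabilizer_iff.1 ha2, hinv' v p hv]
        · rw [mul_smul, mul_smul, hinv' v p hv, mem_stabilizer_iff.1 ha1, hv]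
      obtain ⟨T, hT⟩ := exists_invariant_sylow hα hcop 2 N (fun x hx => normalizer_invariant (hEK p) hx)
      have hTK := two_le_fixed hα hcop hτ hC (T.isPGroup'.map N.subtype) hT
      have hz : IsPGroup 2 ↥(zpowers (⟨v.1, hvN⟩ : N)) := by
        have hd : orderOf (⟨v.1, hvN⟩ : N) ∣ 2 :=
          orderOf_dvd_of_pow_eq_one (Subtype.ext (by simpa [sq] using hinv v))
        rcases (Nat.dvd_prime Nat.prime_two).1 hd with h | h
        · exact IsPGroup.iff_card.2 ⟨0, by rw [Nat.card_zpowers, h, pow_zero]⟩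
        · exact IsPGroup.iff_card.2 ⟨1, by rw [Nat.card_zpowers, h, pow_one]⟩
      obtain ⟨U, hU⟩ := hz.exists_le_sylow
      obtain ⟨c, hcU⟩ := MulAction.exists_smul_eq ↥N U T
      refine ⟨c.1, c.2, fun d hd => ?_⟩
      have h1 : c.1 * v.1 * (c.1)⁻¹ ∈ K := by
        refine hTK ⟨c * ⟨v.1, hvN⟩ * c⁻¹, ?_, rfl⟩
        rw [SetLike.mem_coe, ← hcU]
        exact smul_mem_pointwise_smul (⟨v.1, hvN⟩ : N) (MulAut.conj c) _ (hU (mem_zpowers _))
      have h2 : c.1 * (d.1 * v.1) * (c.1)⁻¹ ∈ K :=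
        hEK p ((mem_normalizer_iff.1 c.2 _).1 (hswap p v d hv hd))
      have h3 : c.1 * d.1 * (c.1)⁻¹ = (c.1 * (d.1 * v.1) * (c.1)⁻¹) * (c.1 * v.1 * (c.1)⁻¹) := by
        calc c.1 * d.1 * (c.1)⁻¹ = c.1 * d.1 * (v.1 * v.1) * (c.1)⁻¹ := by rw [hinv, mul_one]
          _ = _ := by group
      rw [h3]
      exact K.mul_mem h2 h1
    · exact ⟨1, one_mem _, fun d hd => absurd ⟨d, hd⟩ hne⟩
  choose w hwN hwK using hex
  have hcentA : ∀ a : A, centralizer ({a.1.1} : Set G) ≤ K := by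
    rintro ⟨⟨_, g, rfl⟩, hg⟩ x hx
    have hgK : g ∈ K := hconjK g hg
    have : g⁻¹ * x * g ∈ centralizer ({τ} : Set G) := by
      rw [mem_centralizer_singleton_iff] at hx ⊢
      calc g⁻¹ * x * g * τ = g⁻¹ * (x * (g * τ * g⁻¹)) * g := by group
        _ = g⁻¹ * (g * τ * g⁻¹ * x) * g := by rw [hx]
        _ = τ * (g⁻¹ * x * g) := by group
    have := K.mul_mem (K.mul_mem hgK (hC this)) (K.inv_mem hgK)
    simpa [mul_assoc] using this
  -- all conjugates
  let Φ : (G ⧸ K) × A → D := fun x =>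
    ⟨x.1.out * x.2.1.1 * x.1.out⁻¹, by
      obtain ⟨g, hg⟩ := x.2.1.2
      exact ⟨x.1.out * g, by rw [← hg]; group⟩⟩
  have hΦ : Function.Bijective Φ := by
    refine ⟨?_, ?_⟩
    · rintro ⟨p, a⟩ ⟨p', a'⟩ h
      have h' : p.out * a.1.1 * p.out⁻¹ = p'.out * a'.1.1 * p'.out⁻¹ := congrArg Subtype.val h
      have he : (p'.out⁻¹ * p.out) * a.1.1 * (p'.out⁻¹ * p.out)⁻¹ = a'.1.1 := by
        calc (p'.out⁻¹ * p.out) * a.1.1 * (p'.out⁻¹ * p.out)⁻¹
              = p'.out⁻¹ * (p.out * a.1.1 * p.out⁻¹) * p'.out := by group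
          _ = a'.1.1 := by rw [h']; group
      have hmem := mem_of_conj_mem hα hcop (hcentA a) (he ▸ a'.2)
      obtain rfl : p' = p := by
        rw [← QuotientGroup.out_eq' p', ← QuotientGroup.out_eq' p]
        exact QuotientGroup.eq.2 hmem
      simp only [inv_mul_cancel, one_mul, inv_one, mul_one] at he
      exact Prod.ext rfl (Subtype.ext (Subtype.ext he))
    · rintro ⟨_, g, rfl⟩
      have hk : ((g : G ⧸ K)).out⁻¹ * g ∈ K := QuotientGroup.eq.1 (QuotientGroup.out_eq' _)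
      have hτK : τ ∈ K := hC (mem_centralizer_singleton_iff.2 rfl)
      refine ⟨⟨(g : G ⧸ K), ⟨⟨((g : G ⧸ K).out⁻¹ * g) * τ * ((g : G ⧸ K).out⁻¹ * g)⁻¹, _, rfl⟩,
        K.mul_mem (K.mul_mem hk hτK) (K.inv_mem hk)⟩⟩, Subtype.ext ?_⟩
      show (g : G ⧸ K).out * (((g : G ⧸ K).out⁻¹ * g) * τ * ((g : G ⧸ K).out⁻¹ * g)⁻¹) * (g : G ⧸ K).out⁻¹ = _
      group
  let F := {d : D // d.1 • o ≠ o}
  let Ψ : F → P × A := fun d =>
    let p : P := ⟨d.1.1 • o, d.2⟩
    (p, ⟨⟨w p * d.1.1 * (w p)⁻¹, by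
      obtain ⟨g, hg⟩ := d.1.2
      exact ⟨w p * g, by rw [← hg]; group⟩⟩, hwK p d.1 rfl⟩)
  have hΨinj : Function.Injective Ψ := by
    intro d d' h
    have hp : (⟨d.1.1 • o, d.2⟩ : P) = ⟨d'.1.1 • o, d'.2⟩ := congrArg Prod.fst h
    have ha := congrArg (fun x : P × A => x.2.1.1) h
    simp only [Ψ, hp] at ha
    exact Subtype.ext (Subtype.ext (mul_left_cancel (mul_right_cancel ha)))
  have hFA : Nat.card F + Nat.card A = Nat.card D := by
    have e : {d : D // ¬ d.1 • o ≠ o} ≃ A := Equiv.subtypeEquivRight fun d => by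
      rw [not_not, ← mem_stabilizer_iff, hstab]
    rw [← Nat.card_congr e, ← Nat.card_sum]
    exact Nat.card_congr (Equiv.sumCompl (fun d : D => d.1 • o ≠ o))
  have hP1 : Nat.card P + 1 = Nat.card (G ⧸ K) := by
    rw [← Finite.card_option]
    exact Nat.card_congr (Equiv.optionSubtypeNe o)
  have hcard : Nat.card F = Nat.card (P × A) := by
    have hD := Nat.card_congr (Equiv.ofBijective Φ hΦ)
    rw [Nat.card_prod] at hD ⊢
    rw [← hP1, add_one_mul] at hD
    omega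
  have hΨ : Function.Surjective Ψ := (hΨinj.bijective_of_nat_card_le hcard.ge).2
  -- the product fixes every point
  set x := (b * τ * b⁻¹) * (c * τ * c⁻¹)⁻¹ with hx
  have hxK : x ∈ K := K.mul_mem hb (K.inv_mem hc)
  have hfix : ∀ p : G ⧸ K, x • p = p := by
    intro p
    by_cases hpo : p = o
    · rw [hpo, ← mem_stabilizer_iff, hstab]
      exact hxK
    obtain ⟨d₁, h₁⟩ := hΨ (⟨p, hpo⟩, ⟨⟨_, b, rfl⟩, hb⟩)
    obtain ⟨d₂, h₂⟩ := hΨ (⟨p, hpo⟩, ⟨⟨_, c, rfl⟩, hc⟩)
    have hp₁ : (⟨d₁.1.1 • o, d₁.2⟩ : P) = ⟨p, hpo⟩ := congrArg Prod.fst h₁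
    have hp₂ : (⟨d₂.1.1 • o, d₂.2⟩ : P) = ⟨p, hpo⟩ := congrArg Prod.fst h₂
    have a₁ := congrArg (fun y : P × A => y.2.1.1) h₁
    have a₂ := congrArg (fun y : P × A => y.2.1.1) h₂
    simp only [Ψ, hp₁] at a₁
    simp only [Ψ, hp₂] at a₂
    have hmem : w ⟨p, hpo⟩ * (d₁.1.1 * d₂.1.1) * (w ⟨p, hpo⟩)⁻¹ ∈ E ⟨p, hpo⟩ :=
      (mem_normalizer_iff.1 (hwN _) _).1
        (hswap ⟨p, hpo⟩ d₂.1 d₁.1 (congrArg Subtype.val hp₂) (congrArg Subtype.val hp₁))
    have hi : d₂.1.1⁻¹ = d₂.1.1 := inv_eq_of_mul_eq_one_right (hinv d₂.1)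
    have hxe : x = w ⟨p, hpo⟩ * (d₁.1.1 * d₂.1.1) * (w ⟨p, hpo⟩)⁻¹ := by
      rw [hx, ← a₁, ← a₂]
      conv_rhs => rw [← hi]
      group
    rw [hxe]
    exact mem_stabilizer_iff.1 hmem.2
  intro g
  rw [← hstab, mem_stabilizer_iff, mul_smul, mul_smul, hfix, smul_smul, mul_inv_cancel, one_smul]

end Cfsg.Lib.CoprimeFixedCentralizer
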