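import Cfsg.Agent.Chars.FrobeniusTI
import Cfsg.Agent.Chars.NormTwo
import Cfsg.Agent.Chars.Sums
import Cfsg.Agent.Chars.Galois
import Cfsg.Agent.S0850
import Cfsg.Agent.S0944
import Cfsg.Agent.S1230
import Cfsg.Agent.InvolCalc.Dihedral

/-!
# Simple groups with a self-centralizing abelian subgroup of even order

If `A` is an abelian subgroup of even order of a finite simple group such that `A` is the
centralizer of each of its non-identity elements, then `A` is an elementary abelian `2`-group.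
The proof uses the exceptional characters attached to `A` and one class multiplication constant.
-/

set_option autoImplicit false
set_option linter.style.haveILetI false
set_option linter.unusedSectionVars false

namespace Cfsg.Lib.CASimple

open scoped ComplexConjugate
open Cfsg.Lib.Chars

universe u

variable {G : Type u} [Group G]

/-- The hypotheses on the subgroup. -/
structure Setup (A : Subgroup G) : Prop where
  ab : ∀ a ∈ A, ∀ b ∈ A, a * b = b * a
  cent : ∀ y ∈ A, y ≠ 1 → Subgroup.centralizer ({y} : Set G) = A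
  even : ∃ t ∈ A, orderOf t = 2
  ne_top : A ≠ ⊤

variable {A : Subgroup G}

theorem mem_normalizer_of (h : Setup A) {g k : G} (hk : k ∈ A) (hk1 : k ≠ 1)
    (hg : g * k * g⁻¹ ∈ A) : g ∈ Subgroup.normalizer (A : Set G) := by
  have hne : g * k * g⁻¹ ≠ 1 := by rwa [ne_eq, conj_eq_one_iff]
  rw [Subgroup.mem_normalizer_iff]
  intro x
  constructor
  · intro hx
    rw [← h.cent _ hg hne, Subgroup.mem_centralizer_singleton_iff]
    calc g * x * g⁻¹ * (g * k * g⁻¹) = g * (x * k) * g⁻¹ := by group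
      _ = g * (k * x) * g⁻¹ := by rw [h.ab x hx k hk]
      _ = g * k * g⁻¹ * (g * x * g⁻¹) := by group
  · intro hx
    rw [← h.cent k hk hk1, Subgroup.mem_centralizer_singleton_iff]
    have e := h.ab _ hx _ hg
    calc x * k = g⁻¹ * (g * x * g⁻¹ * (g * k * g⁻¹)) * g := by group
      _ = g⁻¹ * (g * k * g⁻¹ * (g * x * g⁻¹)) * g := by rw [e]
      _ = k * x := by group

theorem tiCond (h : Setup A) : ∀ g : G, g ∉ Subgroup.normalizer (A : Set G) →
    ∀ k ∈ A, g * k * g⁻¹ ∈ A → k = 1 := fun g hg k hk hgk =>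
  by_contra fun hk1 => hg (mem_normalizer_of h hk hk1 hgk)

theorem centCond (h : Setup A) : ∀ k ∈ A, k ≠ 1 → Subgroup.centralizer ({k} : Set G) ≤ A :=
  fun k hk hk1 => (h.cent k hk hk1).le

theorem centCond' (h : Setup A) :
    ∀ n ∈ A.subgroupOf (Subgroup.normalizer (A : Set G)), n ≠ 1 →
      Subgroup.centralizer ({n} : Set (Subgroup.normalizer (A : Set G))) ≤
        A.subgroupOf (Subgroup.normalizer (A : Set G)) := by
  intro n hn hn1 y hy
  refine centCond h n hn (fun e => hn1 (Subtype.ext e)) ?_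
  rw [Subgroup.mem_centralizer_singleton_iff] at hy ⊢
  exact congrArg Subtype.val hy

/-- The involutions of `A` together with the identity. -/
def invPart (h : Setup A) : Subgroup G where
  carrier := {a | a ∈ A ∧ a * a = 1}
  one_mem' := ⟨A.one_mem, mul_one 1⟩
  mul_mem' := fun {a b} ha hb => ⟨A.mul_mem ha.1 hb.1, by
    calc a * b * (a * b) = a * (b * a) * b := by group
      _ = a * (a * b) * b := by rw [h.ab b hb.1 a ha.1]
      _ = a * a * (b * b) := by group
      _ = 1 := by rw [ha.2, hb.2, one_mul]⟩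
  inv_mem' := fun {a} ha => ⟨A.inv_mem ha.1, by rw [← mul_inv_rev, ha.2, inv_one]⟩

theorem mem_invPart (h : Setup A) {a : G} : a ∈ invPart h ↔ a ∈ A ∧ a * a = 1 := Iff.rfl

variable [Finite G]

theorem exists_sylow_le (h : Setup A) : ∃ S : Sylow 2 G, (S : Subgroup G) ≤ A := by
  haveI : Fact (Nat.Prime 2) := ⟨Nat.prime_two⟩
  obtain ⟨t, htA, ht⟩ := h.even
  obtain ⟨S, hS⟩ := (IsPGroup.of_card (n := 1)
    (by rw [Nat.card_zpowers, ht, pow_one]) : IsPGroup 2 (Subgroup.zpowers t)).exists_le_sylow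
  have htS := hS (Subgroup.mem_zpowers t)
  refine ⟨S, fun x hx => ?_⟩
  haveI : Nontrivial ↥(S : Subgroup G) := ⟨⟨⟨t, htS⟩, 1, fun e => by
    rw [Subtype.mk.injEq] at e; rw [e, OneMemClass.coe_one, orderOf_one] at ht; omega⟩⟩
  haveI := S.2.center_nontrivial
  obtain ⟨⟨z, hz⟩, hz1⟩ := exists_ne (1 : ↥(Subgroup.center ↥(S : Subgroup G)))
  have hz1' : (z : G) ≠ 1 := fun e => hz1 (Subtype.ext (Subtype.ext e))
  rw [Subgroup.mem_center_iff] at hz
  have hzA : (z : G) ∈ A := by
    rw [← h.cent t htA (fun e => by rw [e, orderOf_one] at ht; omega),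
      Subgroup.mem_centralizer_singleton_iff]
    exact (congrArg Subtype.val (hz ⟨t, htS⟩)).symm
  rw [← h.cent _ hzA hz1', Subgroup.mem_centralizer_singleton_iff]
  exact congrArg Subtype.val (hz ⟨x, hx⟩)

theorem involution_mem (h : Setup A) {u : G} (hu : u ∈ Subgroup.normalizer (A : Set G))
    (h2 : u * u = 1) : u ∈ A := by
  haveI : Fact (Nat.Prime 2) := ⟨Nat.prime_two⟩
  obtain ⟨S, hS⟩ := exists_sylow_le h
  have hodd : Odd (A.relIndex (Subgroup.normalizer (A : Set G))) := by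
    refine Nat.not_even_iff_odd.1 fun he => S.not_dvd_index ?_
    exact he.two_dvd.trans ((Subgroup.relIndex_dvd_index_of_le Subgroup.le_normalizer).trans
      (Subgroup.index_dvd_of_le hS))
  obtain ⟨m, hm⟩ := hodd
  haveI : (A.subgroupOf (Subgroup.normalizer (A : Set G))).Normal := Subgroup.normal_in_normalizer
  have h1 := Subgroup.pow_index_mem (A.subgroupOf (Subgroup.normalizer (A : Set G))) ⟨u, hu⟩
  rw [← Subgroup.relIndex, hm, Subgroup.mem_subgroupOf, SubgroupClass.coe_pow] at h1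
  rwa [pow_succ, pow_mul, pow_two, h2, one_pow, one_mul] at h1

theorem card_invPart_of (h : Setup A)
    (hconj : ∀ {s v : G}, orderOf s = 2 → orderOf v = 2 → IsConj s v) :
    Nat.card (invPart h) = (A.subgroupOf (Subgroup.normalizer (A : Set G))).index + 1 := by
  classical
  obtain ⟨t, htA, ht⟩ := h.even
  have ht1 : t ≠ 1 := fun e => by rw [e, orderOf_one] at ht; omega
  set A' := A.subgroupOf (Subgroup.normalizer (A : Set G))
  have hsub : Nat.card {x : invPart h // x ≠ 1} = A'.index := by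
    rw [Subgroup.index_eq_card]
    refine (Nat.card_congr (Equiv.ofBijective
      (Quotient.lift (fun n : Subgroup.normalizer (A : Set G) =>
        (⟨⟨n * t * (n : G)⁻¹, (Subgroup.mem_normalizer_iff.1 n.2 t).1 htA, by
          rw [conj_mul, ← pow_two, ← ht, pow_orderOf_eq_one, mul_one, mul_inv_cancel]⟩,
          fun e => ht1 (conj_eq_one_iff.1 (congrArg Subtype.val e))⟩ : {x : invPart h // x ≠ 1}))
        ?_) ⟨?_, ?_⟩)).symm
    · intro a b hab
      have hab' : ((a⁻¹ * b : Subgroup.normalizer (A : Set G)) : G) ∈ A :=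
        (QuotientGroup.leftRel_apply (s := A.subgroupOf (Subgroup.normalizer (A : Set G)))).1 hab
      refine Subtype.ext (Subtype.ext ?_)
      push_cast at hab'
      have e := h.ab _ hab' t htA
      calc (a : G) * t * (a : G)⁻¹ = a * (t * ((a : G)⁻¹ * b)) * (b : G)⁻¹ := by group
        _ = a * ((a : G)⁻¹ * b * t) * (b : G)⁻¹ := by rw [e]
        _ = b * t * (b : G)⁻¹ := by group
    · rintro ⟨a⟩ ⟨b⟩ hab
      have e : (a : G) * t * (a : G)⁻¹ = b * t * (b : G)⁻¹ :=
        congrArg (fun x : {x : invPart h // x ≠ 1} => ((x : invPart h) : G)) hab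
      refine Quotient.sound (QuotientGroup.leftRel_apply.2 ?_)
      show ((a⁻¹ * b : Subgroup.normalizer (A : Set G)) : G) ∈ A
      refine (h.cent t htA ht1).le (Subgroup.mem_centralizer_singleton_iff.2 ?_)
      push_cast
      calc (a : G)⁻¹ * b * t = (a : G)⁻¹ * (b * t * (b : G)⁻¹) * b := by group
        _ = (a : G)⁻¹ * (a * t * (a : G)⁻¹) * b := by rw [e]
        _ = t * ((a : G)⁻¹ * b) := by group
    · rintro ⟨⟨x, hxA, hx2⟩, hx1⟩
      have hx1' : x ≠ 1 := fun e => hx1 (Subtype.ext e)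
      obtain ⟨c, hc⟩ := isConj_iff.1 (hconj ht (Cfsg.Lib.InvolCalc.order_two_of_mul_self hx2 hx1'))
      refine ⟨QuotientGroup.mk ⟨c, mem_normalizer_of h htA ht1 (hc ▸ hxA)⟩, ?_⟩
      exact Subtype.ext (Subtype.ext hc)
  have h2 := Nat.card_congr (Equiv.optionSubtypeNe (1 : invPart h))
  rw [Finite.card_option] at h2
  omega

theorem coset_injective_of (h : Setup A) (hlt : A < Subgroup.normalizer (A : Set G)) {g : G}
    (hg : g ∉ Subgroup.normalizer (A : Set G)) :
    Function.Injective fun o : Option A => o.elim (QuotientGroup.mk 1)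
      fun a => (QuotientGroup.mk ((a : G) * g) : G ⧸ Subgroup.normalizer (A : Set G)) := by
  classical
  haveI : Fintype G := Fintype.ofFinite G
  obtain ⟨t, htA, ht⟩ := h.even
  have ht1 : t ≠ 1 := fun e => by rw [e, orderOf_one] at ht; omega
  set N := Subgroup.normalizer (A : Set G)
  have hnone : ∀ a : A, (QuotientGroup.mk 1 : G ⧸ N) ≠ QuotientGroup.mk ((a : G) * g) := by
    intro a hab
    rw [QuotientGroup.eq, inv_one, one_mul] at hab
    refine hg ?_
    have := N.mul_mem (N.inv_mem (Subgroup.le_normalizer a.2)) hab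
    rwa [inv_mul_cancel_left] at this
  rintro (_ | a) (_ | b) hab
  · rfl
  · exact absurd hab (hnone b)
  · exact absurd hab.symm (hnone a)
  · simp only [Option.elim_some] at hab
    rw [QuotientGroup.eq] at hab
    have hk : (a : G)⁻¹ * b ∈ A := A.mul_mem (A.inv_mem a.2) b.2
    have hy : g⁻¹ * ((a : G)⁻¹ * b) * g ∈ N := by
      simpa [mul_inv_rev, mul_assoc] using hab
    by_cases hyA : g⁻¹ * ((a : G)⁻¹ * b) * g ∈ A
    · by_contra hne
      refine hg (inv_mem_iff.1 (mem_normalizer_of h hk (fun e => hne ?_) (by simpa using hyA)))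
      rw [Option.some_inj]
      exact Subtype.ext (inv_mul_eq_one.1 e)
    · have := (Cfsg.Agent.S0850.result A (tiCond h) hlt (centCond h)).1 _ hy hyA g
      exact absurd (by simpa [mul_assoc] using hk) this

theorem lt_normalizer_of (h : Setup A) (hconj : ∀ {s v : G}, orderOf s = 2 → orderOf v = 2 → IsConj s v)
    (h4 : 4 ≤ Nat.card (invPart h)) : A < Subgroup.normalizer (A : Set G) := by
  refine lt_of_le_of_ne Subgroup.le_normalizer fun e => ?_
  rw [card_invPart_of h hconj, show (A.subgroupOf (Subgroup.normalizer (A : Set G))).index = 1 from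
    Subgroup.index_eq_one.2 (Subgroup.subgroupOf_eq_top.2 e.symm.le)] at h4
  omega

theorem index_bound_of (h : Setup A) (hlt : A < Subgroup.normalizer (A : Set G))
    (hN : Subgroup.normalizer (A : Set G) ≠ ⊤) :
    Nat.card A + 1 ≤ (Subgroup.normalizer (A : Set G)).index := by
  obtain ⟨g, hg⟩ : ∃ g, g ∉ Subgroup.normalizer (A : Set G) := by
    by_contra hcon
    push Not at hcon
    exact hN ((Subgroup.eq_top_iff' _).2 hcon)
  rw [← Finite.card_option, Subgroup.index_eq_card]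
  exact Nat.card_le_card_of_injective _ (coset_injective_of h hlt hg)

set_option maxHeartbeats 800000 in
/-- An abelian self-centralizing subgroup of even order is an elementary abelian `2`-group, provided all
involutions are conjugate, its normalizer is proper and it has at least three involutions. -/
theorem sq_eq_one_of (h : Setup A) (hconj : ∀ {s v : G}, orderOf s = 2 → orderOf v = 2 → IsConj s v)
    (hN : Subgroup.normalizer (A : Set G) ≠ ⊤) (h4 : 4 ≤ Nat.card (invPart h)) :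
    ∀ a ∈ A, a * a = 1 := by
  classical
  by_contra hcon
  push Not at hcon
  obtain ⟨a₀, ha₀, ha₀2⟩ := hcon
  haveI : Fintype G := Fintype.ofFinite G
  set N := Subgroup.normalizer (A : Set G) with hNdef
  haveI : Fintype N := Fintype.ofFinite N
  set A' := A.subgroupOf N with hA'def
  haveI hA'n : A'.Normal := Subgroup.normal_in_normalizer
  haveI : Fintype A' := Fintype.ofFinite A'
  have hC' := centCond' h
  obtain ⟨t, htA, ht⟩ := h.even
  have ht1 : t ≠ 1 := fun e => by rw [e, orderOf_one] at ht; omega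
  have ht2 : t * t = 1 := by rw [← pow_two, ← ht, pow_orderOf_eq_one]
  set e := A'.index with he
  set q := Nat.card (invPart h) with hq
  have hqe : q = e + 1 := card_invPart_of h hconj
  have hq4 : 4 ≤ q := h4
  have hcA' : Nat.card A' = Nat.card A :=
    Nat.card_congr (Subgroup.subgroupOfEquivOfLe Subgroup.le_normalizer).toEquiv
  have hcN : Nat.card N = e * Nat.card A := by rw [← A'.card_mul_index, hcA', mul_comm]
  -- the exceptional characters
  have hdeg : ∀ χ : Cfsg.IrrCharacter N, Cfsg.Lib.FrobTI.NonConst A' (χ : N → ℂ) →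
      (χ : N → ℂ) 1 = (e : ℂ) := by
    intro χ hχ
    obtain ⟨θ, hθ, hind⟩ := Cfsg.Lib.FrobTI.exists_induced A' hC' hχ
    rw [← hind, indFun_one, irr_deg_one_of_comm (fun a b => Subtype.ext (Subtype.ext
      (h.ab _ a.2 _ b.2))) hθ, mul_one]
  set E := Finset.univ.filter (fun χ : Cfsg.IrrCharacter N => Cfsg.Lib.FrobTI.NonConst A' (χ : N → ℂ))
  have hmemE : ∀ χ : {χ // χ ∈ E}, Cfsg.Lib.FrobTI.NonConst A' ((χ : Cfsg.IrrCharacter N) : N → ℂ) :=
    fun χ => (Finset.mem_filter.1 χ.2).2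
  obtain ⟨hsum1, hsum2⟩ := Cfsg.Lib.FrobTI.sum_deg_data A' hC'
  have he0 : (e : ℂ) ≠ 0 := by exact_mod_cast (show e ≠ 0 by omega)
  have hn : E.card * e + 1 = Nat.card A := by
    rw [Finset.sum_congr rfl fun χ hχ => by rw [hdeg χ (Finset.mem_filter.1 hχ).2],
      Finset.sum_const, nsmul_eq_mul, hcA'] at hsum1
    change (E.card : ℂ) * (e : ℂ) ^ 2 = (e : ℂ) * ((Nat.card A : ℂ) - 1) at hsum1
    apply Nat.cast_injective (R := ℂ)
    push_cast
    refine mul_left_cancel₀ he0 ?_
    linear_combination hsum1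
  let tN : N := ⟨t, Subgroup.le_normalizer htA⟩
  have htN1 : tN ≠ 1 := fun e' => ht1 (congrArg Subtype.val e')
  have hsumt : ∑ χ ∈ E, (χ : N → ℂ) tN = -1 := by
    have h1 := hsum2 tN htA htN1
    rw [Finset.sum_congr rfl fun χ hχ => by rw [hdeg χ (Finset.mem_filter.1 hχ).2],
      ← Finset.mul_sum] at h1
    refine mul_left_cancel₀ he0 ?_
    rw [show (∑ i ∈ Finset.univ.filter (fun χ : Cfsg.IrrCharacter N =>
      Cfsg.Lib.FrobTI.NonConst A' (χ : N → ℂ)), (i : N → ℂ) tN) = ∑ χ ∈ E, (χ : N → ℂ) tN from rfl] at h1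
    linear_combination h1
  -- the order of `A`
  have hqA : q ∣ Nat.card A := Subgroup.card_dvd_of_le fun x hx => hx.1
  obtain ⟨k, hk⟩ := hqA
  have hk1 : 1 < k := by
    rcases Nat.lt_or_ge 1 k with hk1 | hk1
    · exact hk1
    · exfalso
      have hle : invPart h = A := Subgroup.eq_of_le_of_card_ge (fun x hx => hx.1) (by
        rw [hk]; calc q * k ≤ q * 1 := Nat.mul_le_mul_left q hk1
          _ = _ := mul_one q)
      exact ha₀2 ((mem_invPart h).1 (hle.symm ▸ ha₀)).2
  have hkq : q ≤ k := by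
    have h1 : e ∣ k - 1 := by
      refine ⟨E.card - k, ?_⟩
      have h2 : E.card * e + 1 = (e + 1) * k := by rw [← hqe, ← hk]; exact hn
      have h3 : k ≤ E.card := by
        by_contra h4
        nlinarith
      zify [h3, (by omega : 1 ≤ k)] at h2 ⊢
      linarith
    have := Nat.le_of_dvd (by omega) h1
    omega
  -- the value at `t` is not constant on the exceptional characters
  have hint : ∀ χ : Cfsg.IrrCharacter N, ∃ z : ℤ, (χ : N → ℂ) tN = z := fun χ => by
    obtain ⟨z, hz, -⟩ := Cfsg.Agent.S0944.result χ tN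
      (by rw [← Subgroup.orderOf_coe]; exact ht)
    exact ⟨z, hz⟩
  have hE0 : E.Nonempty := by
    rw [← Finset.card_pos]
    by_contra h0
    have : E.card = 0 := by omega
    rw [this] at hn
    nlinarith
  obtain ⟨χ0, hχ0⟩ := hE0
  obtain ⟨χ1, hχ1, hne⟩ : ∃ χ1 ∈ E, (χ1 : N → ℂ) tN ≠ (χ0 : N → ℂ) tN := by
    by_contra hcon
    push Not at hcon
    obtain ⟨z, hz⟩ := hint χ0
    rw [Finset.sum_congr rfl fun χ hχ => hcon χ hχ, Finset.sum_const, nsmul_eq_mul, hz] at hsumt
    have h1 : (E.card : ℤ) * z = -1 := by exact_mod_cast hsumt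
    have h2 : (E.card : ℤ) ∣ 1 := ⟨-z, by linarith⟩
    have h3 : E.card = 1 := Nat.dvd_one.1 (by exact_mod_cast h2)
    rw [h3] at hn
    nlinarith
  -- the lifted differences
  let i₀ : {χ // χ ∈ E} := ⟨χ0, hχ0⟩
  let d : {χ // χ ∈ E} → (N → ℂ) := fun i => ((i.1 : Cfsg.IrrCharacter N) : N → ℂ) - (χ0 : N → ℂ)
  have hd1 : ∀ i, d i 1 = 0 := fun i => by
    show ((i.1 : Cfsg.IrrCharacter N) : N → ℂ) 1 - (χ0 : N → ℂ) 1 = 0
    rw [hdeg _ (hmemE i), hdeg _ (hmemE i₀), sub_self]
  have hd0 : ∀ i, ∀ x : N, (x : G) ∉ (A : Set G) → d i x = 0 := fun i x hx => by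
    show ((i.1 : Cfsg.IrrCharacter N) : N → ℂ) x - (χ0 : N → ℂ) x = 0
    rw [Cfsg.Lib.FrobTI.eq_zero_of_not_mem A' hC' (hmemE i) hx,
      Cfsg.Lib.FrobTI.eq_zero_of_not_mem A' hC' (hmemE i₀) hx, sub_self]
  have hdc : ∀ i, Cfsg.IsClassFunction N (d i) := fun i a b => by
    show ((i.1 : Cfsg.IrrCharacter N) : N → ℂ) _ - (χ0 : N → ℂ) _ = _ - _
    rw [isClassFunction_irr i.1 a b, isClassFunction_irr χ0 a b]
  let τ : {χ // χ ∈ E} → (G → ℂ) := fun i => Cfsg.indFun N (d i)
  obtain ⟨ε, hε, μ, hμ, hμinj, hμτ⟩ := exists_star i₀ τ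
    (show Cfsg.indFun N (d i₀) = 0 by
      rw [show d i₀ = 0 from sub_self _, indFun_zero])
    (fun i => IsGeneralizedCharacter.indFun ⟨_, _, isCharacter_of_irr i.1.2, isCharacter_of_irr χ0.2, rfl⟩)
    (fun i => by rw [show τ i 1 = Cfsg.indFun N (d i) 1 from rfl, indFun_one, hd1, mul_zero])
    (fun i j hi hj => by
      have hgr : Cfsg.classInner (τ i) (τ j) = Cfsg.classInner (d i) (d j) :=
        classInner_indFun_TI (A : Set G) (tiCond h) (hd0 i) (hd1 i) (hdc j) (hd0 j)
      have hi' : i.1 ≠ χ0 := fun e' => hi (Subtype.ext e')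
      have hj' : j.1 ≠ χ0 := fun e' => hj (Subtype.ext e')
      rw [hgr, classInner_sub_left, classInner_sub_right, classInner_sub_right,
        classInner_irrCharacter, classInner_irrCharacter, classInner_irrCharacter,
        classInner_irrCharacter, if_neg hi', if_neg (Ne.symm hj'), if_pos rfl]
      constructor
      · intro hij; rw [if_pos (congrArg Subtype.val hij)]; norm_num
      · intro hij; rw [if_neg (fun e' => hij (Subtype.ext e'))]; norm_num)
  have hεne : ε ≠ 0 := by rcases hε with rfl | rfl <;> norm_num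
  have hεconj : conj ε = ε := by rcases hε with rfl | rfl <;> simp
  set x := deg (μ i₀) with hx
  have hμdeg : ∀ i, deg (μ i) = x := by
    intro i
    have h1 : τ i 1 = 0 := by
      rw [show τ i 1 = Cfsg.indFun N (d i) 1 from rfl, indFun_one, hd1, mul_zero]
    rw [hμτ i, Pi.smul_apply, Pi.sub_apply, smul_eq_mul,
      IsCharacter.apply_one_eq_deg (isCharacter_of_irr (hμ i)),
      IsCharacter.apply_one_eq_deg (isCharacter_of_irr (hμ i₀))] at h1
    exact Nat.cast_injective (sub_eq_zero.1 ((mul_eq_zero.1 h1).resolve_left hεne))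
  have hsq : E.card * x ^ 2 ≤ Nat.card G := by
    rw [← sum_deg_sq_nat, ← Fintype.card_coe E]
    calc Fintype.card {χ // χ ∈ E} * x ^ 2
        = ∑ i : {χ // χ ∈ E}, deg (μ i) ^ 2 := by simp [hμdeg, mul_comm]
      _ = ∑ ψ ∈ Finset.univ.map ⟨fun i => (⟨μ i, hμ i⟩ : Cfsg.IrrCharacter G),
            fun i j hij => hμinj (congrArg Subtype.val hij)⟩, deg (ψ : G → ℂ) ^ 2 := by
          rw [Finset.sum_map]; rfl
      _ ≤ _ := Finset.sum_le_univ_sum_of_nonneg (fun _ => Nat.zero_le _)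
  -- the class multiplication constant
  let F : G → ℂ := fun c => (Nat.card {p : G × G // IsConj t p.1 ∧ IsConj t p.2 ∧ p.1 * p.2 = c} : ℂ)
  set m := Nat.card {x : G // IsConj t x} with hm
  have hmA : m * Nat.card A = Nat.card G := by
    rw [← h.cent t htA ht1]; exact card_isConj_mul t
  have hintG : ∀ ψ : Cfsg.IrrCharacter G, ∃ z : ℤ, (ψ : G → ℂ) t = z := fun ψ => by
    obtain ⟨z, hz, -⟩ := Cfsg.Agent.S0944.result ψ t ht
    exact ⟨z, hz⟩
  choose w hw using hintG
  have hF : F = ∑ ψ : Cfsg.IrrCharacter G,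
      ((m : ℂ) * m / (Nat.card G : ℂ) * ((w ψ : ℂ) * w ψ / (deg (ψ : G → ℂ) : ℂ))) • (ψ : G → ℂ) := by
    funext c
    have h1 := congrArg conj (class_mult_formula t t c)
    rw [map_natCast] at h1
    show (_ : ℂ) = _
    rw [show F c = (Nat.card {p : G × G // IsConj t p.1 ∧ IsConj t p.2 ∧ p.1 * p.2 = c} : ℂ) from rfl, h1]
    simp only [map_mul, map_div₀, map_natCast, map_sum, Finset.sum_apply, Pi.smul_apply, smul_eq_mul,
      Finset.mul_sum, hw, irr_apply_one_eq_deg, Complex.conj_conj, map_intCast]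
    refine Finset.sum_congr rfl fun ψ _ => ?_
    ring
  have hFcls : Cfsg.IsClassFunction G F := by
    rw [hF]
    intro a b
    simp only [Finset.sum_apply, Pi.smul_apply, isClassFunction_irr _ a b]
  -- the values on `A`
  have hpair : ∀ c ∈ A, c ≠ 1 → ∀ u v : G, IsConj t u → IsConj t v → u * v = c →
      u ∈ invPart h ∧ v = u * c ∧ u ≠ 1 ∧ v ≠ 1 := by
    intro c hc hc1 u v hu hv huv
    have hu2 : orderOf u = 2 := by
      obtain ⟨g, hg⟩ := isConj_iff.1 hu
      rw [← hg, show g * t * g⁻¹ = MulAut.conj g t from rfl, MulEquiv.orderOf_eq]; exact ht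
    have hv2 : orderOf v = 2 := by
      obtain ⟨g, hg⟩ := isConj_iff.1 hv
      rw [← hg, show g * t * g⁻¹ = MulAut.conj g t from rfl, MulEquiv.orderOf_eq]; exact ht
    have huu := Cfsg.Lib.InvolCalc.sq_of_order_two hu2
    have hinv : u * c * u⁻¹ = c⁻¹ := huv ▸ Cfsg.Lib.InvolCalc.flip_mul hu2 hv2
    have huN := mem_normalizer_of h hc hc1 (hinv ▸ A.inv_mem hc)
    refine ⟨⟨involution_mem h huN huu, huu⟩, ?_, Cfsg.Lib.InvolCalc.ne_one_of_order_two hu2,
      Cfsg.Lib.InvolCalc.ne_one_of_order_two hv2⟩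
    rw [← huv]; exact Cfsg.Lib.InvolCalc.snd_eq hu2
  have hF0 : ∀ c ∈ A, c ≠ 1 → c * c ≠ 1 → F c = 0 := by
    intro c hc hc1 hc2
    show (Nat.card _ : ℂ) = 0
    rw [Nat.cast_eq_zero, Nat.card_eq_zero]
    refine Or.inl ⟨fun ⟨⟨u, v⟩, hu, hv, huv⟩ => ?_⟩
    simp only at hu hv huv
    obtain ⟨huT, hv', -, -⟩ := hpair c hc hc1 u v hu hv huv
    have hv2 : v * v = 1 := by
      obtain ⟨g, hg⟩ := isConj_iff.1 hv
      rw [← hg, conj_mul, ht2, mul_one, mul_inv_cancel]
    have hvT : v ∈ invPart h := (mem_invPart h).2 ⟨hv' ▸ A.mul_mem huT.1 hc, hv2⟩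
    have H := (invPart h).mul_mem huT hvT
    rw [huv] at H
    exact hc2 H.2
  have hF2 : ∀ c ∈ invPart h, c ≠ 1 → F c = ((q - 2 : ℕ) : ℂ) := by
    intro c hc hc1
    show (Nat.card _ : ℂ) = _
    congr 1
    have hc' : (⟨c, hc⟩ : invPart h) ≠ 1 := fun e' => hc1 (congrArg Subtype.val e')
    rw [show q - 2 = Nat.card {u : invPart h // u ∉ ({1, ⟨c, hc⟩} : Finset (invPart h))} by
      haveI := Fintype.ofFinite (invPart h)
      rw [Nat.card_eq_fintype_card, Fintype.card_subtype_compl, hq, Nat.card_eq_fintype_card,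
        Fintype.card_coe, Finset.card_pair (Ne.symm hc')]]
    have hT : ∀ u : invPart h, u ≠ 1 → IsConj t (u : G) := fun u hu =>
      hconj ht (Cfsg.Lib.InvolCalc.order_two_of_mul_self u.2.2 fun e' => hu (Subtype.ext e'))
    refine Nat.card_congr
      { toFun := fun p => ⟨⟨p.1.1, (hpair c hc.1 hc1 _ _ p.2.1 p.2.2.1 p.2.2.2).1⟩, ?_⟩
        invFun := fun u => ⟨(u.1, (u.1 : G) * c), ?_, ?_, ?_⟩
        left_inv := ?_
        right_inv := fun u => rfl }
    · obtain ⟨hu, hv, hu1, hv1⟩ := hpair c hc.1 hc1 _ _ p.2.1 p.2.2.1 p.2.2.2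
      simp only [Finset.mem_insert, Finset.mem_singleton, Subtype.ext_iff, not_or]
      refine ⟨hu1, fun e' => hv1 ?_⟩
      rw [hv, e', hc.2]
    · exact hT u.1 (fun e' => u.2 (by simp [e']))
    · refine hT (⟨_, (invPart h).mul_mem u.1.2 hc⟩ : invPart h) fun e' => u.2 ?_
      have e'' : (u.1 : G) * c = 1 := congrArg Subtype.val e'
      have : (u.1 : G) = c := by
        calc (u.1 : G) = (u.1 : G) * c * c := by rw [mul_assoc, hc.2, mul_one]
          _ = c := by rw [e'', one_mul]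
      simp [Subtype.ext_iff, this]
    · show (u.1 : G) * ((u.1 : G) * c) = c
      rw [← mul_assoc, u.1.2.2, one_mul]
    · rintro ⟨⟨u, v⟩, hu, hv, huv⟩
      simp only at huv
      exact Subtype.ext (Prod.ext rfl (hpair c hc.1 hc1 u v hu hv huv).2.1.symm)
  -- the two evaluations
  set i₁ : {χ // χ ∈ E} := ⟨χ1, hχ1⟩
  have hconst : ∀ y : N, (y : G) ∈ invPart h → y ≠ 1 → d i₁ y = d i₁ tN := by
    intro y hy hy1
    have hy1' : (y : G) ≠ 1 := fun e' => hy1 (Subtype.ext e')
    obtain ⟨g, hg⟩ := isConj_iff.1 (hconj ht (Cfsg.Lib.InvolCalc.order_two_of_mul_self hy.2 hy1'))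
    have hgN := mem_normalizer_of h htA ht1 (hg ▸ hy.1)
    rw [show y = (⟨g, hgN⟩ : N) * tN * (⟨g, hgN⟩ : N)⁻¹ from Subtype.ext hg.symm, hdc]
  obtain ⟨z1, hz1⟩ := hint χ1
  obtain ⟨z0, hz0⟩ := hint χ0
  have hδ : d i₁ tN = ((z1 - z0 : ℤ) : ℂ) := by
    show (χ1 : N → ℂ) tN - (χ0 : N → ℂ) tN = _
    rw [hz1, hz0]; push_cast; ring
  have hδne : ((z1 - z0 : ℤ) : ℂ) ≠ 0 := by
    rw [← hδ]; exact sub_ne_zero.2 hne
  have hrhs : Cfsg.classInner (fun y : N => F y) (d i₁) =
      ((q - 2 : ℕ) : ℂ) * ((z1 - z0 : ℤ) : ℂ) / (Nat.card A : ℂ) := by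
    rw [classInner_def, ← Finset.sum_filter_add_sum_filter_not Finset.univ
      (fun y : N => (y : G) ∈ invPart h ∧ y ≠ 1),
      Finset.sum_eq_zero (s := Finset.univ.filter fun y : N => ¬((y : G) ∈ invPart h ∧ y ≠ 1))
      (fun y hy => ?_), add_zero]
    · have hcnt : (Finset.univ.filter fun y : N => (y : G) ∈ invPart h ∧ y ≠ 1).card = e := by
        rw [← Fintype.card_subtype, ← Nat.card_eq_fintype_card]
        have h2 := Nat.card_congr (Equiv.optionSubtypeNe (1 : invPart h))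
        rw [Finite.card_option, ← hq, hqe] at h2
        rw [← Nat.succ_injective h2]
        exact Nat.card_congr
          { toFun := fun y => ⟨⟨y.1, y.2.1⟩, fun e' => y.2.2 (Subtype.ext (congrArg (fun z : invPart h => (z : G)) e'))⟩
            invFun := fun y => ⟨⟨y.1.1, Subgroup.le_normalizer y.1.2.1⟩, y.1.2,
              fun e' => y.2 (Subtype.ext (congrArg (fun z : N => (z : G)) e'))⟩
            left_inv := fun _ => rfl
            right_inv := fun _ => rfl }
      rw [Finset.sum_congr rfl fun y hy => (?_ : _ = ((q - 2 : ℕ) : ℂ) * ((z1 - z0 : ℤ) : ℂ)), Finset.sum_const, hcnt, nsmul_eq_mul, hcN, Nat.cast_mul]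
      · field_simp
      · obtain ⟨hy1, hy2⟩ := (Finset.mem_filter.1 hy).2
        rw [hF2 _ hy1 (fun e' => hy2 (Subtype.ext e')), hconst y hy1 hy2, hδ, map_intCast]
    · have hy' := (Finset.mem_filter.1 hy).2
      by_cases hyA : (y : G) ∈ A
      · by_cases hy1 : y = 1
        · rw [hy1, hd1, map_zero, mul_zero]
        · rw [hF0 _ hyA (fun e' => hy1 (Subtype.ext e')) (fun e' => hy' ⟨⟨hyA, e'⟩, hy1⟩), zero_mul]
      · rw [hd0 _ y hyA, map_zero, mul_zero]
  obtain ⟨a, ha⟩ : ∃ z : ℤ, μ i₁ t = z := ⟨_, hw ⟨_, hμ i₁⟩⟩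
  obtain ⟨b, hb⟩ : ∃ z : ℤ, μ i₀ t = z := ⟨_, hw ⟨_, hμ i₀⟩⟩
  have hval : ε * ((a : ℂ) - b) = ((z1 - z0 : ℤ) : ℂ) := by
    have h1 : τ i₁ t = d i₁ tN :=
      indFun_TI_apply (A : Set G) (tiCond h) (hdc i₁) (hd0 i₁) tN htA htN1
    rwa [hμτ i₁, Pi.smul_apply, Pi.sub_apply, smul_eq_mul, ha, hb, hδ] at h1
  have hcoef : ∀ i, Cfsg.classInner F (μ i) =
      (m : ℂ) * m / (Nat.card G : ℂ) * ((w ⟨_, hμ i⟩ : ℂ) * w ⟨_, hμ i⟩ / (x : ℂ)) := by
    intro i
    rw [show Cfsg.classInner F (μ i) = Cfsg.classInner F ((⟨_, hμ i⟩ : Cfsg.IrrCharacter G) : G → ℂ) from rfl,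
      hF, classInner_irrSum]
    simp only [hμdeg]
  have hlhs : Cfsg.classInner F (τ i₁) =
      ε * ((m : ℂ) * m / (Nat.card G : ℂ) * ((a : ℂ) * a / (x : ℂ)) -
        (m : ℂ) * m / (Nat.card G : ℂ) * ((b : ℂ) * b / (x : ℂ))) := by
    rw [hμτ i₁, classInner_smul_right, classInner_sub_right, hεconj, hcoef, hcoef,
      show (w ⟨_, hμ i₁⟩ : ℂ) = (a : ℂ) from (hw ⟨_, hμ i₁⟩).symm.trans ha,
      show (w ⟨_, hμ i₀⟩ : ℂ) = (b : ℂ) from (hw ⟨_, hμ i₀⟩).symm.trans hb]
  have hkey : ((m : ℤ) * (a + b) : ℂ) = (((q - 2 : ℕ) : ℤ) * x : ℂ) := by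
    have h1 : Cfsg.classInner F (τ i₁) = _ := (frobenius_reciprocity' N (d i₁) hFcls).trans hrhs
    rw [hlhs, ← hval, ← hmA, Nat.cast_mul] at h1
    have hm0 : (m : ℂ) ≠ 0 := by exact_mod_cast (card_isConj_pos t).ne'
    have hA0 : (Nat.card A : ℂ) ≠ 0 := by exact_mod_cast Nat.card_pos.ne'
    have hx0 : (x : ℂ) ≠ 0 := by exact_mod_cast (deg_irr_pos (⟨_, hμ i₀⟩ : Cfsg.IrrCharacter G)).ne'
    field_simp at h1
    push_cast at h1 ⊢
    rw [← hval] at hδne
    refine mul_left_cancel₀ hδne ?_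
    linear_combination ε * h1
  have hkey' : (m : ℤ) * (a + b) = ((q - 2 : ℕ) : ℤ) * x := by exact_mod_cast hkey
  have hx1 : 1 ≤ x := deg_irr_pos (⟨_, hμ i₀⟩ : Cfsg.IrrCharacter G)
  have hmx : m ≤ (q - 2) * x := by
    have hpos : 0 < (m : ℤ) * (a + b) := by
      rw [hkey']; exact mul_pos (by omega) (by exact_mod_cast hx1)
    have hab : 1 ≤ a + b := pos_of_mul_pos_right hpos (Int.natCast_nonneg m)
    have : (m : ℤ) ≤ ((q - 2 : ℕ) : ℤ) * x := hkey' ▸ le_mul_of_one_le_right (Int.natCast_nonneg m) hab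
    exact_mod_cast this
  -- the final inequality
  have hmN : e * (Nat.card A + 1) ≤ m := by
    have h1 : Nat.card A * (e * (Subgroup.normalizer (A : Set G)).index) = Nat.card A * m := by
      rw [mul_comm _ m, hmA, ← (Subgroup.normalizer (A : Set G)).card_mul_index, ← hNdef, hcN]; ring
    rw [← Nat.eq_of_mul_eq_mul_left Nat.card_pos h1]
    exact Nat.mul_le_mul_left e (index_bound_of h (lt_normalizer_of h hconj h4) hN)
  have hmain : E.card * m ≤ (q - 2) ^ 2 * Nat.card A := by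
    refine Nat.le_of_mul_le_mul_left ?_ (card_isConj_pos t : 0 < m)
    calc m * (E.card * m) = E.card * m ^ 2 := by ring
      _ ≤ E.card * ((q - 2) * x) ^ 2 := Nat.mul_le_mul_left _ (Nat.pow_le_pow_left hmx 2)
      _ = (q - 2) ^ 2 * (E.card * x ^ 2) := by ring
      _ ≤ (q - 2) ^ 2 * Nat.card G := Nat.mul_le_mul_left _ hsq
      _ = m * ((q - 2) ^ 2 * Nat.card A) := by rw [← hmA]; ring
  have h1 := (Nat.mul_le_mul_left E.card hmN).trans hmain
  have h2 : q * q ≤ Nat.card A := hk ▸ Nat.mul_le_mul_left q hkq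
  obtain ⟨r, hr⟩ : ∃ r, q = r + 2 := ⟨q - 2, by omega⟩
  rw [show q - 2 = r by omega] at h1
  rw [hr] at h2
  obtain ⟨n', hn'⟩ : ∃ n', Nat.card A = n' + 1 := ⟨E.card * e, hn.symm⟩
  rw [hn'] at h1 h2 hn
  have h3 : E.card * e = n' := by omega
  rw [← mul_assoc, h3] at h1
  nlinarith [Nat.mul_le_mul_right (n' + 1) (show r ^ 2 + 4 ≤ n' + 1 by nlinarith)]

variable [IsSimpleGroup G]

theorem center_eq_bot (h : Setup A) : Subgroup.center G = ⊥ := by
  rcases (inferInstance : (Subgroup.center G).Normal).eq_bot_or_eq_top with e | e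
  · exact e
  · exfalso
    obtain ⟨t, htA, ht⟩ := h.even
    refine h.ne_top ((Subgroup.eq_top_iff' A).2 fun x => ?_)
    rw [← h.cent t htA (fun e' => by rw [e', orderOf_one] at ht; omega),
      Subgroup.mem_centralizer_singleton_iff]
    exact (Subgroup.mem_center_iff.1 (e ▸ Subgroup.mem_top t) x)

theorem all_conj (h : Setup A) {s v : G} (hs : orderOf s = 2) (hv : orderOf v = 2) : IsConj s v := by
  haveI : Fact (Nat.Prime 2) := ⟨Nat.prime_two⟩
  by_contra hne
  obtain ⟨S, hS⟩ := exists_sylow_le h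
  have hcomm : ∀ s' : G, IsConj s s' → Commute s' v := by
    intro s' hss
    have hs' : orderOf s' = 2 := by
      obtain ⟨c, hc⟩ := isConj_iff.1 hss
      rw [← hc, show c * s * c⁻¹ = MulAut.conj c s from rfl, MulEquiv.orderOf_eq]; exact hs
    have heven : Even (orderOf (s' * v)) := by
      by_contra hodd
      obtain ⟨d, -, hd⟩ := Cfsg.Lib.InvolCalc.conj_of_odd hs' hv (Nat.not_even_iff_odd.mp hodd)
      exact hne (hss.trans (isConj_iff.mpr ⟨d, hd⟩))
    obtain ⟨hz, hzs, hzv⟩ := Cfsg.Lib.InvolCalc.central_spec hs' hv heven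
    set z := (s' * v) ^ (orderOf (s' * v) / 2)
    obtain ⟨R, hR⟩ := (IsPGroup.of_card (n := 1)
      (by rw [Nat.card_zpowers, hz, pow_one]) : IsPGroup 2 (Subgroup.zpowers z)).exists_le_sylow
    obtain ⟨c, rfl⟩ := MulAction.exists_smul_eq G S R
    have hzc := hR (Subgroup.mem_zpowers z)
    rw [Sylow.coe_subgroup_smul, Subgroup.mem_pointwise_smul_iff_inv_smul_mem] at hzc
    have hzA : c⁻¹ * z * c ∈ A := hS (by simpa [MulAut.smul_def] using hzc)
    have hz1 : c⁻¹ * z * c ≠ 1 := fun e => Cfsg.Lib.InvolCalc.ne_one_of_order_two hz (by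
      calc z = c * (c⁻¹ * z * c) * c⁻¹ := by group
        _ = 1 := by rw [e]; group)
    have hmem : ∀ w : G, Commute z w → c⁻¹ * w * c ∈ A := fun w hw => by
      rw [← h.cent _ hzA hz1, Subgroup.mem_centralizer_singleton_iff]
      calc c⁻¹ * w * c * (c⁻¹ * z * c) = c⁻¹ * (w * z) * c := by group
        _ = c⁻¹ * (z * w) * c := by rw [hw.eq]
        _ = c⁻¹ * z * c * (c⁻¹ * w * c) := by group
    have e := h.ab _ (hmem s' hzs) _ (hmem v hzv)
    calc s' * v = c * (c⁻¹ * s' * c * (c⁻¹ * v * c)) * c⁻¹ := by group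
      _ = c * (c⁻¹ * v * c * (c⁻¹ * s' * c)) * c⁻¹ := by rw [e]
      _ = v * s' := by group
  have hle : Subgroup.normalClosure ({s} : Set G) ≤ Subgroup.centralizer ({v} : Set G) := by
    rw [Subgroup.normalClosure, Subgroup.closure_le]
    intro x hx
    obtain ⟨a, ha, hax⟩ := Group.mem_conjugatesOfSet_iff.1 hx
    rw [Set.mem_singleton_iff] at ha
    subst ha
    exact Subgroup.mem_centralizer_singleton_iff.2 (hcomm x hax).eq
  have htop : Subgroup.normalClosure ({s} : Set G) = ⊤ := by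
    rcases (inferInstance : (Subgroup.normalClosure ({s} : Set G)).Normal).eq_bot_or_eq_top with e | e
    · have := Subgroup.subset_normalClosure (Set.mem_singleton s)
      rw [e, SetLike.mem_coe, Subgroup.mem_bot] at this
      exact absurd this (Cfsg.Lib.InvolCalc.ne_one_of_order_two hs)
    · exact e
  have hvc : v ∈ Subgroup.center G := Subgroup.mem_center_iff.2 fun x =>
    Subgroup.mem_centralizer_singleton_iff.1 (hle (htop ▸ Subgroup.mem_top x))
  rw [center_eq_bot h, Subgroup.mem_bot] at hvc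
  exact Cfsg.Lib.InvolCalc.ne_one_of_order_two hv hvc

theorem card_invPart (h : Setup A) :
    Nat.card (invPart h) = (A.subgroupOf (Subgroup.normalizer (A : Set G))).index + 1 :=
  card_invPart_of h fun hs hv => all_conj h hs hv

theorem invPart_large (h : Setup A) : 4 ≤ Nat.card (invPart h) := by
  haveI : Fact (Nat.Prime 2) := ⟨Nat.prime_two⟩
  obtain ⟨t, htA, ht⟩ := h.even
  have ht1 : t ≠ 1 := fun e => by rw [e, orderOf_one] at ht; omega
  have hp : IsPGroup 2 (invPart h) := fun x => ⟨1, Subtype.ext (by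
    rw [SubgroupClass.coe_pow, pow_one, pow_two]; exact ((mem_invPart h).1 x.2).2)⟩
  obtain ⟨j, hj⟩ := IsPGroup.iff_card.1 hp
  have hc := card_invPart h
  have h0 : (A.subgroupOf (Subgroup.normalizer (A : Set G))).index ≠ 0 := Subgroup.index_ne_zero_of_finite
  by_contra hlt
  have hi : (A.subgroupOf (Subgroup.normalizer (A : Set G))).index = 1 := by
    rcases Nat.lt_or_ge j 2 with hj2 | hj2
    · interval_cases j <;> omega
    · have : 4 ≤ 2 ^ j := le_trans (by norm_num) (Nat.pow_le_pow_right two_pos hj2)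
      omega
  rw [Subgroup.index_eq_one, Subgroup.subgroupOf_eq_top] at hi
  obtain ⟨S, hS⟩ := exists_sylow_le h
  have hne : (S : Subgroup G) ≠ ⊥ :=
    S.ne_bot_of_dvd_card (ht ▸ orderOf_dvd_natCard t)
  have hN : Subgroup.normalizer ((S : Subgroup G) : Set G) ≤ Subgroup.centralizer ((S : Subgroup G) : Set G) := by
    intro g hg
    obtain ⟨⟨z, hz⟩, hz1⟩ := Subgroup.ne_bot_iff_exists_ne_one.1 hne
    have hgA : g ∈ A := hi (mem_normalizer_of h (hS hz) (fun e => hz1 (Subtype.ext e))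
      (hS ((Subgroup.mem_normalizer_iff.1 hg z).1 hz)))
    exact Subgroup.mem_centralizer_iff.2 fun x hx => h.ab x (hS hx) g hgA
  obtain ⟨K, hKn, hK⟩ : ∃ K : Subgroup G, K.Normal ∧ K.IsComplement' (S : Subgroup G) :=
    ⟨_, MonoidHom.normal_ker _, MonoidHom.ker_transferSylow_isComplement' S hN⟩
  rcases hKn.eq_bot_or_eq_top with rfl | rfl
  · rw [Subgroup.isComplement'_bot_left] at hK
    exact h.ne_top (top_le_iff.1 (hK ▸ hS))
  · rw [Subgroup.isComplement'_top_left] at hK
    exact hne hK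

theorem normalizer_ne_top (h : Setup A) : Subgroup.normalizer (A : Set G) ≠ ⊤ := by
  intro e
  obtain ⟨t, htA, ht⟩ := h.even
  rcases (Subgroup.normalizer_eq_top_iff.1 e).eq_bot_or_eq_top with e' | e'
  · rw [e', Subgroup.mem_bot] at htA
    rw [htA, orderOf_one] at ht
    omega
  · exact h.ne_top e'

theorem coset_injective (h : Setup A) {g : G} (hg : g ∉ Subgroup.normalizer (A : Set G)) :
    Function.Injective fun o : Option A => o.elim (QuotientGroup.mk 1)
      fun a => (QuotientGroup.mk ((a : G) * g) : G ⧸ Subgroup.normalizer (A : Set G)) :=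
  coset_injective_of h (lt_normalizer_of h (fun hs hv => all_conj h hs hv) (invPart_large h)) hg

/-- An abelian self-centralizing subgroup of even order is an elementary abelian `2`-group. -/
theorem sq_eq_one (h : Setup A) : ∀ a ∈ A, a * a = 1 :=
  sq_eq_one_of h (fun hs hv => all_conj h hs hv) (normalizer_ne_top h) (invPart_large h)

/-- A simple group with such a subgroup is `PSL(2, 2^f)`. -/
theorem psl (h : Setup A) : ∃ (F : Type) (_ : Field F) (_ : Fintype F) (f : ℕ), 2 ≤ f ∧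
    Fintype.card F = 2 ^ f ∧ Nat.card A = 2 ^ f ∧
      Nonempty (G ≃* Matrix.ProjectiveSpecialLinearGroup (Fin 2) F) := by
  haveI : Fact (Nat.Prime 2) := ⟨Nat.prime_two⟩
  have hsq := sq_eq_one h
  obtain ⟨S, hS⟩ := exists_sylow_le h
  have hAp : IsPGroup 2 A := fun x => ⟨1, Subtype.ext (by
    rw [SubgroupClass.coe_pow, pow_one, pow_two]; exact hsq x x.2)⟩
  have hSA : A = (S : Subgroup G) := S.3 hAp hS
  have hinv : invPart h = A := le_antisymm (fun x hx => hx.1) fun x hx => ⟨hx, hsq x hx⟩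
  have h4 : 4 ≤ Nat.card A := hinv ▸ invPart_large h
  obtain ⟨f, hf⟩ := IsPGroup.iff_card.1 hAp
  have hf2 : 2 ≤ f := by
    by_contra hlt
    have : 2 ^ f ≤ 2 := (Nat.pow_le_pow_right two_pos (show f ≤ 1 by omega)).trans (by norm_num)
    omega
  have hnc : ¬ IsCyclic ↥(S : Subgroup G) := by
    intro hc
    rw [← hSA] at hc
    obtain ⟨g, hg⟩ := hc.exists_generator
    have h1 := orderOf_eq_card_of_forall_mem_zpowers hg
    have h2 : orderOf g ≤ 2 := orderOf_le_of_pow_eq_one two_pos (Subtype.ext (by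
      rw [SubgroupClass.coe_pow, pow_two]; exact hsq g g.2))
    omega
  have hnn : ¬ (S : Subgroup G).Normal := fun hn => by
    rw [← hSA] at hn
    rcases hn.eq_bot_or_eq_top with e | e
    · rw [e, Subgroup.card_bot] at h4; omega
    · exact h.ne_top e
  obtain ⟨F, _, _, hF, hiso⟩ := Cfsg.Agent.S1230.result S hnc hnn (fun u hu => by
    obtain ⟨c, hc⟩ := isConj_iff.1 (all_conj h hu h.even.choose_spec.2)
    set t := h.even.choose
    have htA : t ∈ A := h.even.choose_spec.1
    have ht1 : t ≠ 1 := Cfsg.Lib.InvolCalc.ne_one_of_order_two h.even.choose_spec.2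
    have hmem : ∀ w ∈ Subgroup.centralizer ({u} : Set G), c * w * c⁻¹ ∈ A := fun w hw => by
      rw [← h.cent t htA ht1, Subgroup.mem_centralizer_singleton_iff, ← hc, conj_mul, conj_mul,
        Subgroup.mem_centralizer_singleton_iff.1 hw]
    refine ⟨⟨⟨fun a b => Subtype.ext ?_⟩⟩, fun w hw => ?_⟩
    · have e := h.ab _ (hmem a a.2) _ (hmem b b.2)
      rw [conj_mul, conj_mul, mul_left_inj, mul_right_inj] at e
      exact e
    · have e := hsq _ (hmem w hw)
      rwa [conj_mul, conj_eq_one_iff, ← pow_two] at e)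
  exact ⟨F, _, _, f, hf2, by rw [hF, ← hSA, hf], hf, hiso⟩

end Cfsg.Lib.CASimple
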