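import Cfsg.Agent.InvolCalc.ZStarApps
import Cfsg.Agent.InvolCalc.Classes
import Cfsg.Agent.SolvStruct.AlperinClassical

/-!
Groups whose Sylow 2-intersections are central in some Sylow 2-subgroup: a characteristic cyclic subgroup of a
Sylow 2-subgroup has isolated involution.
-/

set_option autoImplicit false

namespace Cfsg.Lib.CentralInter

open Subgroup Cfsg.Lib.SolvStruct.Alperin
open scoped Pointwise

variable {G : Type*} [Group G] [Finite G]

theorem eq_of_cyclic {K : Type*} [Group K] {C : Subgroup K} (hC : IsCyclic C) {a b : K} (ha : a ∈ C) (hb : b ∈ C)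
    [Finite K] (ha2 : orderOf a = 2) (hb2 : orderOf b = 2) : a = b := by
  classical
  have := Fintype.ofFinite C
  by_contra hne
  have h := IsCyclic.card_pow_eq_one_le (α := C) (n := 2) two_pos
  have hsub : ({1, ⟨a, ha⟩, ⟨b, hb⟩} : Finset C) ⊆ Finset.univ.filter fun x => x ^ 2 = 1 := by
    intro x hx
    simp only [Finset.mem_insert, Finset.mem_singleton] at hx
    rcases hx with rfl | rfl | rfl <;> simp only [Finset.mem_filter, Finset.mem_univ, true_and]
    · exact one_pow 2
    · exact Subtype.ext (by simpa [ha2] using pow_orderOf_eq_one a)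
    · exact Subtype.ext (by simpa [hb2] using pow_orderOf_eq_one b)
  have h3 : ({1, ⟨a, ha⟩, ⟨b, hb⟩} : Finset C).card = 3 := by
    rw [Finset.card_insert_of_notMem, Finset.card_insert_of_notMem, Finset.card_singleton]
    · simp [hne]
    · simp only [Finset.mem_insert, Finset.mem_singleton, not_or, Subtype.ext_iff, OneMemClass.coe_one]
      exact ⟨fun e => by simp [← e] at ha2, fun e => by simp [← e] at hb2⟩
  have := Finset.card_le_card hsub
  omega

theorem involution_central
    (hCI : ∀ S T : Sylow 2 G, S ≠ T → ∃ U : Sylow 2 G,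
      (S : Subgroup G) ⊓ (T : Subgroup G) ≤ (Subgroup.center ↥(U : Subgroup G)).map (U : Subgroup G).subtype)
    (S : Sylow 2 G) (C : Subgroup ↥(S : Subgroup G)) (hCc : IsCyclic ↥C) (hCh : C.Characteristic)
    (c : ↥(S : Subgroup G)) (hc : c ∈ C) (hc2 : orderOf c = 2) :
    ∀ g : G, (QuotientGroup.mk (s := Cfsg.oddCore G) (g * (c : G) * g⁻¹)) =
      QuotientGroup.mk (s := Cfsg.oddCore G) (c : G) := by
  have : Fact (Nat.Prime 2) := ⟨Nat.prime_two⟩
  have hcG : orderOf (c : G) = 2 := by rw [Subgroup.orderOf_coe, hc2]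
  have hnorm : ∀ x ∈ normalizer ((S : Subgroup G) : Set G), x⁻¹ * (c : G) * x = c := by
    intro x hx
    let f := (MulEquiv.subgroupMap (MulAut.conj x⁻¹) (S : Subgroup G)).trans
      (MulEquiv.subgroupCongr (show (S : Subgroup G).map (MulAut.conj x⁻¹).toMonoidHom = S by
        ext y
        rw [Subgroup.mem_map_equiv]
        simpa using (mem_normalizer_iff.1 hx y).symm))
    have h1 : f c ∈ C := by
      have h := Subgroup.characteristic_iff_map_eq.1 hCh f
      exact h ▸ Subgroup.mem_map_of_mem _ hc
    have h2 : f c = c := eq_of_cyclic hCc h1 hc (by rw [MulEquiv.orderOf_eq, hc2]) hc2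
    have h3 := congrArg Subtype.val h2
    calc x⁻¹ * (c : G) * x = x⁻¹ * (c : G) * x⁻¹⁻¹ := by rw [inv_inv]
      _ = c := h3
  have key : ∀ (A : Set G) (g : G), Chain S A g → A = {(c : G)} → g⁻¹ * (c : G) * g = c := by
    intro A g hg
    induction hg with
    | one A hA => intro _; simp
    | cons A Q x g hA hQ hx _ ih =>
      intro hAc
      have hx' : x⁻¹ * (c : G) * x = c := by
        by_cases hQS : Q = S
        · subst hQS
          refine hnorm x ?_
          simpa [NI] using hx
        obtain ⟨U, hU⟩ := hCI S Q (Ne.symm hQS)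
        set D := (S : Subgroup G) ⊓ (Q : Subgroup G) with hD
        have hUC : (U : Subgroup G) ≤ centralizer (D : Set G) := fun u hu d hd => by
          obtain ⟨z, hz, rfl⟩ := hU hd
          exact (congrArg Subtype.val (mem_center_iff.1 hz ⟨u, hu⟩)).symm
        have hCN : centralizer (D : Set G) ≤ NI S Q := centralizer_le_normalizer _
        have hSN : (S : Subgroup G) ≤ NI S Q := by
          have h1 : ¬ 2 ∣ ((U : Subgroup G)).relIndex (NI S Q) := fun h =>
            U.not_dvd_index (h.trans (relIndex_dvd_index_of_le (hUC.trans hCN)))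
          have h2 := hQ.1
          have h3 : ((S : Subgroup G) ⊓ NI S Q).relIndex (NI S Q) * Nat.card ((S : Subgroup G) ⊓ NI S Q : Subgroup G) =
              Nat.card (NI S Q) := by
            rw [← relIndex_bot_left, mul_comm, relIndex_mul_relIndex _ _ _ bot_le inf_le_right, relIndex_bot_left]
          have h4 : (U : Subgroup G).relIndex (NI S Q) * Nat.card (U : Subgroup G) = Nat.card (NI S Q) := by
            rw [← relIndex_bot_left, mul_comm, relIndex_mul_relIndex _ _ _ bot_le (hUC.trans hCN), relIndex_bot_left]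
          have hU' : Nat.card (U : Subgroup G) = Nat.card (S : Subgroup G) := by
            rw [U.card_eq_multiplicity, S.card_eq_multiplicity]
          have h5 : Nat.card (U : Subgroup G) ∣ Nat.card ((S : Subgroup G) ⊓ NI S Q : Subgroup G) := by
            refine Nat.Coprime.dvd_of_dvd_mul_left ?_ (Dvd.intro_left _ (h4.trans h3.symm))
            rw [U.card_eq_multiplicity]
            exact ((Nat.Prime.coprime_iff_not_dvd Nat.prime_two).2 h2).pow_left _
          have h6 : (S : Subgroup G) ⊓ NI S Q = S :=
            Subgroup.eq_of_le_of_card_ge inf_le_left (hU' ▸ Nat.le_of_dvd Nat.card_pos h5)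
          exact inf_eq_left.1 h6
        have hSC : (S : Subgroup G) ≤ centralizer (D : Set G) := by
          obtain ⟨n, hn⟩ := MulAction.exists_smul_eq (NI S Q) (U.subtype (hUC.trans hCN)) (S.subtype hSN)
          intro y hy
          have hy' : (⟨y, hSN hy⟩ : NI S Q) ∈ (S.subtype hSN : Subgroup (NI S Q)) := hy
          rw [← hn, Sylow.coe_subgroup_smul, Subgroup.mem_pointwise_smul_iff_inv_smul_mem] at hy'
          have hu : (n : G)⁻¹ * y * n ∈ centralizer (D : Set G) := hUC (by simpa [MulAut.smul_def, Subgroup.mem_subgroupOf] using hy')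
          intro d hd
          have hd' : (n : G)⁻¹ * d * n ∈ D := (mem_normalizer_iff''.1 n.2 d).1 hd
          have h7 : (n : G)⁻¹ * d * n * ((n : G)⁻¹ * y * n) = (n : G)⁻¹ * y * n * ((n : G)⁻¹ * d * n) := hu _ hd'
          calc d * y = (n : G) * ((n : G)⁻¹ * d * n * ((n : G)⁻¹ * y * n)) * (n : G)⁻¹ := by group
            _ = y * d := by rw [h7]; group
        have hxC : ∀ y ∈ centralizer (D : Set G), x * y * x⁻¹ ∈ centralizer (D : Set G) := by
          intro y hy d hd
          have hd' : x⁻¹ * d * x ∈ D := (mem_normalizer_iff''.1 hx d).1 hd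
          calc d * (x * y * x⁻¹) = x * ((x⁻¹ * d * x) * y) * x⁻¹ := by group
            _ = x * y * x⁻¹ * d := by rw [hy _ hd']; group
        have hSxC : ((x • S : Sylow 2 G) : Subgroup G) ≤ centralizer (D : Set G) := by
          intro y hy
          rw [Sylow.coe_subgroup_smul, Subgroup.mem_pointwise_smul_iff_inv_smul_mem] at hy
          have := hxC _ (hSC hy)
          simpa [MulAut.smul_def, mul_assoc] using this
        obtain ⟨k, hk⟩ := MulAction.exists_smul_eq (centralizer (D : Set G))
          ((x • S).subtype hSxC) (S.subtype hSC)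
        simp_rw [Sylow.smul_subtype, Subgroup.smul_def, smul_smul] at hk
        have hk' : ((k : G) * x) • S = S := Sylow.subtype_injective hk
        have hn := hnorm _ (Sylow.smul_eq_iff_mem_normalizer.1 hk')
        have hcD : (c : G) ∈ D := hA (hAc ▸ rfl)
        have hk2 : (k : G)⁻¹ * (c : G) * k = c := by
          rw [mul_assoc, k.2 _ hcD, inv_mul_cancel_left]
        rw [mul_inv_rev] at hn
        calc x⁻¹ * (c : G) * x = x⁻¹ * ((k : G)⁻¹ * c * k) * x := by rw [hk2]
          _ = x⁻¹ * (k : G)⁻¹ * c * ((k : G) * x) := by group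
          _ = c := hn
      have h2 := ih (by rw [hAc, cj, Set.image_singleton, hx'])
      calc (x * g)⁻¹ * (c : G) * (x * g) = g⁻¹ * (x⁻¹ * c * x) * g := by group
        _ = c := by rw [hx', h2]
  have hiso : ∀ g : G, g * (c : G) * g⁻¹ ∈ S → g * (c : G) * g⁻¹ = c := by
    intro g hg
    have hch := exists_chain S {(c : G)} g⁻¹ (by simp) (by simpa [cj] using hg)
    simpa using key _ _ hch rfl
  have hisol : Cfsg.IsIsolatedInvolution (c : G) :=
    ⟨hcG, fun g => Cfsg.Lib.InvolCalc.isolated_of_unique S hcG hiso⟩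
  intro g
  rw [QuotientGroup.eq]
  have h := (Cfsg.oddCore G).inv_mem (Cfsg.Lib.ZStarApps.zstarProp hisol g)
  have hinv : (c : G)⁻¹ = c := Cfsg.Lib.InvolCalc.inv_of_order_two hcG
  rw [mul_inv_rev, mul_inv_rev, inv_inv, hinv]
  simpa [hinv, mul_assoc] using h

end Cfsg.Lib.CentralInter
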