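import Cfsg.Agent.InvolCalc.ZStarApps
import Cfsg.Agent.InvolCalc.Classes

/-!
An involution of a simple group with at most three involutions in its centraliser is central in a Sylow
2-subgroup, and then there is only one class of involutions.
-/

set_option autoImplicit false

namespace Cfsg.Lib.FewInvol

open Subgroup Cfsg.Lib.InvolCalc
open scoped Pointwise

variable {G : Type*} [Group G] [Finite G]

theorem order_conj (g : G) {u : G} (hu : orderOf u = 2) : orderOf (g * u * g⁻¹) = 2 := by
  rw [← MulAut.conj_apply, MulEquiv.orderOf_eq, hu]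

theorem mem_list {a b c y : G} (ha : orderOf a = 2) (hb : orderOf b = 2) (hc : orderOf c = 2) (hab : a ≠ b)
    (hac : a ≠ c) (hbc : b ≠ c) (cb : Commute a b) (cc : Commute a c)
    (h3 : Nat.card {u : ↥(centralizer ({a} : Set G)) // orderOf u = 2} ≤ 3)
    (hy : orderOf y = 2) (cy : Commute a y) : y = a ∨ y = b ∨ y = c := by
  classical
  by_contra h
  push Not at h
  obtain ⟨h1, h2, h4⟩ := h
  let mk : ∀ u : G, orderOf u = 2 → Commute a u → {u : ↥(centralizer ({a} : Set G)) // orderOf u = 2} :=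
    fun u hu cu => ⟨⟨u, mem_centralizer_singleton_iff.2 cu.eq.symm⟩, by rw [Subgroup.orderOf_mk, hu]⟩
  let f : Fin 4 → {u : ↥(centralizer ({a} : Set G)) // orderOf u = 2} :=
    ![mk a ha (Commute.refl a), mk b hb cb, mk c hc cc, mk y hy cy]
  have hf : Function.Injective f := by
    intro i j hij
    have hv := congrArg (fun u : {u : ↥(centralizer ({a} : Set G)) // orderOf u = 2} => (u.1 : G)) hij
    fin_cases i <;> fin_cases j <;> simp [f, mk] at hv <;> first | rfl | (exfalso; simp_all)
  have := Nat.card_le_card_of_injective f hf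
  rw [Nat.card_eq_fintype_card, Fintype.card_fin] at this
  omega

theorem not_two_classes [IsSimpleGroup G] (hna : ∃ a b : G, a * b ≠ b * a) {x z : G} (hx : orderOf x = 2)
    (hz : orderOf z = 2) (hxz : x ≠ z) (hc : Commute x z) (hconj : IsConj x (x * z))
    (h3 : Nat.card {u : ↥(centralizer ({x} : Set G)) // orderOf u = 2} ≤ 3) : IsConj z x := by
  by_contra hnc
  obtain ⟨g, hg⟩ := isConj_iff.1 hconj
  have hxzo : orderOf (x * z) = 2 := hg ▸ order_conj g hx
  have hne1 : x ≠ x * z := fun h => ne_one_of_order_two hz (mul_eq_left.1 h.symm)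
  have hne2 : z ≠ x * z := fun h => ne_one_of_order_two hx (mul_eq_right.1 h.symm)
  have key : ∀ d : G, Commute z (d * z * d⁻¹) := by
    intro d
    have hy := order_conj d hz
    set y := d * z * d⁻¹ with hyd
    have hev : Even (orderOf (x * y)) := by
      by_contra h
      obtain ⟨e, -, he⟩ := conj_of_odd hx hy (Nat.not_even_iff_odd.1 h)
      exact hnc ((isConj_iff.2 ⟨d, hyd.symm⟩ : IsConj z y).trans (isConj_iff.2 ⟨e, he⟩ : IsConj x y).symm)
    obtain ⟨hw, hwx, hwy⟩ := central_spec hx hy hev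
    set w := (x * y) ^ (orderOf (x * y) / 2)
    have hxy : Commute x y → Commute z y := fun hcy => by
      rcases mem_list hx hz hxzo hxz hne1 hne2 hc ((Commute.refl x).mul_right hc) h3 hy hcy with e | e | e
      · exact e ▸ hc.symm
      · exact e ▸ Commute.refl z
      · exact e ▸ hc.symm.mul_right (Commute.refl z)
    rcases mem_list hx hz hxzo hxz hne1 hne2 hc ((Commute.refl x).mul_right hc) h3 hw hwx.symm with e | e | e
    · exact hxy (e ▸ hwy)
    · exact e ▸ hwy
    · have hgy : Commute (x * z) y := e ▸ hwy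
      have h3' : Nat.card {u : ↥(centralizer ({x * z} : Set G)) // orderOf u = 2} ≤ 3 := by
        refine le_trans (Nat.card_le_card_of_injective
          (fun u => (⟨⟨g⁻¹ * (u.1 : G) * g⁻¹⁻¹, mem_centralizer_singleton_iff.2 ?_⟩, by
            rw [Subgroup.orderOf_mk]; exact order_conj _ (by rw [Subgroup.orderOf_coe, u.2])⟩ :
            {u : ↥(centralizer ({x} : Set G)) // orderOf u = 2})) ?_) h3
        · have hu := mem_centralizer_singleton_iff.1 u.1.2
          calc g⁻¹ * (u.1 : G) * g⁻¹⁻¹ * x = g⁻¹ * ((u.1 : G) * (g * x * g⁻¹)) * g := by group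
            _ = g⁻¹ * ((g * x * g⁻¹) * (u.1 : G)) * g := by rw [hg, hu]
            _ = x * (g⁻¹ * (u.1 : G) * g⁻¹⁻¹) := by group
        · intro u v huv
          have h := congrArg (fun u : {u : ↥(centralizer ({x} : Set G)) // orderOf u = 2} => (u.1 : G)) huv
          exact Subtype.ext (Subtype.ext (mul_left_cancel (mul_right_cancel h)))
      have c1 : Commute (x * z) x := (Commute.refl x).mul_left hc.symm
      have c2 : Commute (x * z) z := hc.mul_left (Commute.refl z)
      rcases mem_list hxzo hx hz hne1.symm hne2.symm hxz c1 c2 h3' hy hgy with e | e | e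
      · exact e ▸ c2.symm
      · exact e ▸ hc.symm
      · exact e ▸ Commute.refl z
  let K : Set G := {y | ∃ d : G, d * z * d⁻¹ = y}
  have hK : ∀ a ∈ K, ∀ b ∈ K, a * b = b * a := by
    rintro _ ⟨d, rfl⟩ _ ⟨e, rfl⟩
    have h := (key (d⁻¹ * e)).eq
    calc d * z * d⁻¹ * (e * z * e⁻¹) = d * (z * (d⁻¹ * e * z * (d⁻¹ * e)⁻¹)) * d⁻¹ := by group
      _ = _ := by rw [h]; group
  have hn : (Subgroup.normalClosure ({z} : Set G)) = ⊤ :=
    (Subgroup.normalClosure_normal.eq_bot_or_eq_top).resolve_left fun h =>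
      ne_one_of_order_two hz ((Subgroup.mem_bot).1 (h ▸ Subgroup.subset_normalClosure rfl))
  have hsub : Subgroup.normalClosure ({z} : Set G) ≤ Subgroup.closure K := by
    refine Subgroup.closure_mono fun a ha => ?_
    obtain ⟨b, hb, hab⟩ := Group.mem_conjugatesOfSet_iff.1 ha
    rw [Set.mem_singleton_iff] at hb
    subst hb
    exact isConj_iff.1 hab
  obtain ⟨a, b, hab⟩ := hna
  have := Subgroup.isMulCommutative_closure hK
  refine hab ?_
  have h : ∀ q : G, q ∈ Subgroup.closure K := fun q => hsub (hn ▸ mem_top q)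
  exact congrArg Subtype.val (mul_comm' (⟨a, h a⟩ : Subgroup.closure K) ⟨b, h b⟩)

theorem main [IsSimpleGroup G] (x : G) (hx : orderOf x = 2)
    (h3 : Nat.card {u : ↥(centralizer ({x} : Set G)) // orderOf u = 2} ≤ 3) :
    (∃ S : Sylow 2 G, (S : Subgroup G) ≤ centralizer ({x} : Set G)) ∧
      ∀ u v : G, orderOf u = 2 → orderOf v = 2 → IsConj u v := by
  classical
  have : Fact (Nat.Prime 2) := ⟨Nat.prime_two⟩
  by_cases hab : ∀ a b : G, a * b = b * a
  · refine ⟨⟨default, fun a _ => mem_centralizer_singleton_iff.2 (hab a x)⟩, fun u v hu hv => ?_⟩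
    have hcen : Subgroup.zpowers u = ⊤ := by
      have hn : (Subgroup.zpowers u).Normal := ⟨fun n hn g => by rwa [hab g n, mul_inv_cancel_right]⟩
      exact hn.eq_bot_or_eq_top.resolve_left fun h => ne_one_of_order_two hu (Subgroup.zpowers_eq_bot.1 h)
    obtain ⟨k, hk⟩ : v ∈ Subgroup.zpowers u := hcen ▸ mem_top v
    rcases Int.even_or_odd' k with ⟨i, rfl | rfl⟩
    · exfalso
      refine ne_one_of_order_two hv ?_
      rw [← hk]
      show u ^ (2 * i) = 1
      rw [zpow_mul, zpow_two, sq_of_order_two hu, one_zpow]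
    · have : v = u := by
        rw [← hk]
        show u ^ (2 * i + 1) = u
        rw [zpow_add, zpow_mul, zpow_two, sq_of_order_two hu, one_zpow, one_mul, zpow_one]
      rw [this]
  push Not at hab
  obtain ⟨Q⟩ := (inferInstance : Nonempty (Sylow 2 (centralizer ({x} : Set G))))
  obtain ⟨S, hS⟩ := (Q.isPGroup'.map (centralizer ({x} : Set G)).subtype).exists_le_sylow
  have hQS : ∀ a ∈ (S : Subgroup G), Commute x a → a ∈ (Q : Subgroup _).map (centralizer ({x} : Set G)).subtype := by
    intro a ha hxa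
    have hle : (Q : Subgroup _) ≤ (S : Subgroup G).subgroupOf (centralizer ({x} : Set G)) :=
      fun q hq => hS (mem_map_of_mem _ hq)
    have heq := Q.is_maximal' (S.isPGroup'.comap_subtype) hle
    exact ⟨⟨a, mem_centralizer_singleton_iff.2 hxa.eq.symm⟩, heq ▸ (ha : _), rfl⟩
  have hxS : x ∈ (S : Subgroup G) := by
    refine hS ⟨⟨x, mem_centralizer_singleton_iff.2 rfl⟩, ?_, rfl⟩
    set x' : centralizer ({x} : Set G) := ⟨x, mem_centralizer_singleton_iff.2 rfl⟩ with hx'
    have hp : IsPGroup 2 (Subgroup.zpowers x') :=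
      IsPGroup.of_card (n := 1) (by rw [Nat.card_zpowers, pow_one]; exact (Subgroup.orderOf_mk x _).trans hx)
    have hnor : Subgroup.zpowers x' ≤ Subgroup.normalizer ((Q : Subgroup (centralizer ({x} : Set G))) : Set (centralizer ({x} : Set G))) := by
      rw [Subgroup.zpowers_le, mem_normalizer_iff]
      intro q
      rw [show x' * q * x'⁻¹ = q by
        refine Subtype.ext ?_
        rw [Subgroup.coe_mul, Subgroup.coe_mul, Subgroup.coe_inv]
        rw [show (x' : G) = x from rfl, ← mem_centralizer_singleton_iff.1 q.2, mul_inv_cancel_right]]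
    have heq := Q.is_maximal' (Q.isPGroup'.to_sup_of_normal_left' hp hnor) le_sup_left
    show x' ∈ (Q : Subgroup _)
    rw [← heq]
    exact mem_sup_right (mem_zpowers x')
  have hSC : (S : Subgroup G) ≤ centralizer ({x} : Set G) := by
    by_contra hnot
    set T := (S : Subgroup G) ⊓ centralizer ({x} : Set G) with hT
    have hlt : T < S := lt_of_le_of_ne inf_le_left fun h => hnot (inf_eq_left.1 h)
    have := S.isPGroup'.isNilpotent
    have hlt' : T.subgroupOf (S : Subgroup G) < ⊤ := by
      rw [lt_top_iff_ne_top]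
      exact fun h => hlt.not_ge (subgroupOf_eq_top.1 h)
    obtain ⟨s, hs, hsT⟩ := SetLike.exists_of_lt (Group.normalizerCondition_of_isNilpotent _ hlt')
    have : Nontrivial (S : Subgroup G) :=
      ⟨⟨x, hxS⟩, 1, fun h => ne_one_of_order_two hx (congrArg Subtype.val h)⟩
    have hcnt : Nontrivial (Subgroup.center (S : Subgroup G)) := S.isPGroup'.center_nontrivial
    have hcp : IsPGroup 2 (Subgroup.center (S : Subgroup G)) := S.isPGroup'.to_subgroup _
    obtain ⟨k, hk⟩ := IsPGroup.iff_card.1 hcp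
    obtain ⟨z₀, hz₀⟩ := exists_prime_orderOf_dvd_card' 2
      (G := Subgroup.center (S : Subgroup G)) (by
        rw [hk]
        exact dvd_pow_self 2 fun h => by
          rw [h, pow_zero] at hk
          exact (Finite.one_lt_card_iff_nontrivial.2 hcnt).ne' hk)
    set z : G := ((z₀ : (S : Subgroup G)) : G) with hzd
    have hz : orderOf z = 2 := by rw [hzd, Subgroup.orderOf_coe, Subgroup.orderOf_coe, hz₀]
    have hzS : ∀ a ∈ (S : Subgroup G), a * z = z * a := fun a ha =>
      congrArg Subtype.val (mem_center_iff.1 z₀.2 ⟨a, ha⟩)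
    have hsx : (s : G) * x * (s : G)⁻¹ ∈ T :=
      mem_subgroupOf.1 ((mem_normalizer_iff.1 hs ⟨x, hxS⟩).1
        (mem_subgroupOf.2 ⟨hxS, mem_centralizer_singleton_iff.2 rfl⟩))
    have hnx : (s : G) * x * (s : G)⁻¹ ≠ x := fun h => hsT (mem_subgroupOf.2 ⟨s.2,
      mem_centralizer_singleton_iff.2 (mul_inv_eq_iff_eq_mul.1 h)⟩)
    have hxz : x ≠ z := fun h => hnx (by rw [h, hzS _ s.2, mul_inv_cancel_right])
    have hcxz : Commute x z := hzS x hxS
    have hxzo : orderOf (x * z) = 2 := order_two_of_mul_self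
      (by rw [hcxz.symm.mul_mul_mul_comm, sq_of_order_two hx, sq_of_order_two hz, mul_one])
      fun h => hxz (by rw [← inv_of_order_two hz]; exact eq_inv_of_mul_eq_one_left h)
    have hne1 : x ≠ x * z := fun h => ne_one_of_order_two hz (mul_eq_left.1 h.symm)
    have hne2 : z ≠ x * z := fun h => ne_one_of_order_two hx (mul_eq_right.1 h.symm)
    have hsv : (s : G) * x * (s : G)⁻¹ = x * z := by
      rcases mem_list hx hz hxzo hxz hne1 hne2 hcxz ((Commute.refl x).mul_right hcxz) h3 (order_conj (s : G) hx)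
        (mem_centralizer_singleton_iff.1 hsx.2).symm with e | e | e
      · exact absurd e hnx
      · exfalso
        refine hxz ?_
        have h1 : x = (s : G)⁻¹ * z * s := by rw [← e]; group
        rw [h1, mul_assoc, ← hzS _ s.2, inv_mul_cancel_left]
      · exact e
    obtain ⟨d, hd⟩ := isConj_iff.1 (not_two_classes hab hx hz hxz hcxz (isConj_iff.2 ⟨s, hsv⟩) h3)
    have hle : ((d • S : Sylow 2 G) : Subgroup G) ≤ centralizer ({x} : Set G) := by
      intro a ha
      rw [Sylow.coe_subgroup_smul, Subgroup.mem_pointwise_smul_iff_inv_smul_mem] at ha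
      have h := hzS _ ha
      simp only [MulAut.smul_def, ← map_inv, MulAut.conj_apply, inv_inv] at h
      rw [mem_centralizer_singleton_iff, ← hd]
      calc a * (d * z * d⁻¹) = d * (d⁻¹ * a * d * z) * d⁻¹ := by group
        _ = d * z * d⁻¹ * a := by rw [h]; group
    have h1 : Nat.card (S : Subgroup G) ≤ Nat.card T := by
      have hQT : (Q : Subgroup _).map (centralizer ({x} : Set G)).subtype ≤ T := le_inf hS (map_subtype_le _)
      refine le_trans ?_ (Subgroup.card_le_of_le hQT)
      rw [Subgroup.card_map_of_injective (centralizer ({x} : Set G)).subtype_injective,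
        Q.card_eq_multiplicity, S.card_eq_multiplicity]
      refine Nat.pow_le_pow_right two_pos ((Nat.prime_two.pow_dvd_iff_le_factorization Nat.card_pos.ne').1 ?_)
      rw [← (d • S).card_eq_multiplicity]
      exact card_dvd_of_le hle
    exact hlt.ne (Subgroup.eq_of_le_of_card_ge hlt.le h1)
  refine ⟨⟨S, hSC⟩, ?_⟩
  have hin : ∀ u : G, orderOf u = 2 → ∃ v ∈ (S : Subgroup G), IsConj u v := fun u hu => by
    obtain ⟨a, ha⟩ := exists_conj_le S (IsPGroup.of_card (n := 1)
      (show Nat.card (Subgroup.zpowers u) = 2 ^ 1 by rw [Nat.card_zpowers, hu, pow_one]))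
    exact ⟨a⁻¹ * u * a, ha u (mem_zpowers u), isConj_iff.2 ⟨a⁻¹, by rw [inv_inv]⟩⟩
  have hpart : ∀ u ∈ (S : Subgroup G), orderOf u = 2 → ∃ v ∈ (S : Subgroup G), v ≠ u ∧ IsConj u v := by
    intro u hu hu2
    by_contra hno
    push Not at hno
    have hiso : ∀ g : G, g * u * g⁻¹ ∈ S → g * u * g⁻¹ = u := fun g hg => by
      by_contra hne
      exact hno _ hg hne (isConj_iff.2 ⟨g, rfl⟩)
    have hisol : Cfsg.IsIsolatedInvolution u := ⟨hu2, fun g => isolated_of_unique S hu2 hiso⟩
    have hz := Cfsg.Lib.ZStarApps.zstarProp hisol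
    have hO : Cfsg.pPrimeCore 2 G = ⊥ := by
      refine (inferInstance : (Cfsg.pPrimeCore 2 G).Normal).eq_bot_or_eq_top.resolve_right fun h => ?_
      have hodd := Cfsg.Lib.ZStarApps.odd_card_pPrimeCore (G := G)
      rw [h, Subgroup.card_top] at hodd
      exact Nat.not_even_iff_odd.2 hodd (even_iff_two_dvd.2 (hu2 ▸ orderOf_dvd_natCard u))
    have hcen : u ∈ Subgroup.center G := mem_center_iff.2 fun g => by
      have h := hz g
      rw [hO, Subgroup.mem_bot, mul_inv_eq_one, mul_inv_eq_iff_eq_mul] at h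
      exact h.symm
    obtain ⟨a, b, hne⟩ := hab
    have htop := (inferInstance : (Subgroup.center G).Normal).eq_bot_or_eq_top.resolve_left fun h =>
      ne_one_of_order_two hu2 (Subgroup.mem_bot.1 (h ▸ hcen))
    exact hne ((mem_center_iff.1 (htop ▸ mem_top b) a))
  intro u v hu hv
  obtain ⟨u', hu', cu⟩ := hin u hu
  obtain ⟨v', hv', cv⟩ := hin v hv
  refine cu.trans (IsConj.trans ?_ cv.symm)
  have ou : orderOf u' = 2 := by obtain ⟨c, rfl⟩ := isConj_iff.1 cu; exact order_conj c hu
  have ov : orderOf v' = 2 := by obtain ⟨c, rfl⟩ := isConj_iff.1 cv; exact order_conj c hv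
  by_contra hnc
  obtain ⟨p, hp, hpu, cp⟩ := hpart u' hu' ou
  obtain ⟨q, hq, hqv, cq⟩ := hpart v' hv' ov
  have op : orderOf p = 2 := by obtain ⟨c, rfl⟩ := isConj_iff.1 cp; exact order_conj c ou
  have oq : orderOf q = 2 := by obtain ⟨c, rfl⟩ := isConj_iff.1 cq; exact order_conj c ov
  let mk : ∀ a : G, orderOf a = 2 → a ∈ (S : Subgroup G) → {u : ↥(centralizer ({x} : Set G)) // orderOf u = 2} :=
    fun a ha haS => ⟨⟨a, hSC haS⟩, by rw [Subgroup.orderOf_mk, ha]⟩
  let f : Fin 4 → {u : ↥(centralizer ({x} : Set G)) // orderOf u = 2} :=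
    ![mk u' ou hu', mk p op hp, mk v' ov hv', mk q oq hq]
  have hf : Function.Injective f := by
    have n1 : u' ≠ v' := fun e => hnc (e ▸ IsConj.refl u')
    have n2 : u' ≠ q := fun e => hnc (e.symm ▸ cq.symm)
    have n3 : p ≠ v' := fun e => hnc (e ▸ cp)
    have n4 : p ≠ q := fun e => hnc ((e ▸ cp).trans cq.symm)
    intro i j hij
    have hv := congrArg (fun u : {u : ↥(centralizer ({x} : Set G)) // orderOf u = 2} => (u.1 : G)) hij
    fin_cases i <;> fin_cases j <;> simp [f, mk] at hv <;> first | rfl | (exfalso; simp_all)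
  have := Nat.card_le_card_of_injective f hf
  rw [Nat.card_eq_fintype_card, Fintype.card_fin] at this
  omega

end Cfsg.Lib.FewInvol
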