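/-
Groups with a Sylow 2-subgroup `P` having a cyclic normal subgroup with cyclic quotient of order
above two: either there is a normal 2-complement, or `P` is homocyclic abelian.
-/
import Cfsg.Agent.InvolCalc.MetacyclicFrame
import Cfsg.Agent.S0071
import Cfsg.Agent.S0949
import Cfsg.Agent.Transfer.Frobenius

set_option autoImplicit false
set_option linter.unusedSectionVars false
set_option linter.style.haveILetI false

namespace Cfsg.Lib.InvolCalc.MetaFrame

open Subgroup
open scoped commutatorElement Pointwise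

variable {G : Type*} [Group G] [Finite G]

/-- `a` generates a normal subgroup of `P` with quotient generated by `s`, of order above two. -/
structure Frame (P : Subgroup G) (a s : G) : Prop where
  pgroup : IsPGroup 2 P
  ha : a ∈ P
  hs : s ∈ P
  twist : s * a * s⁻¹ ∈ zpowers a
  gen : ∀ x ∈ P, ∃ i j : ℤ, x = a ^ i * s ^ j
  big : s ^ 2 ∉ zpowers a

theorem Frame.map {P : Subgroup G} {a s : G} (h : Frame P a s) (g : G) :
    Frame (P.map (MulAut.conj g).toMonoidHom) (MulAut.conj g a) (MulAut.conj g s) := by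
  have hz : ∀ {x : G}, MulAut.conj g x ∈ zpowers (MulAut.conj g a) ↔ x ∈ zpowers a := by
    intro x
    simp only [mem_zpowers_iff, ← map_zpow]
    exact exists_congr fun i => (MulAut.conj g).injective.eq_iff
  refine ⟨h.pgroup.map _, mem_map_of_mem _ h.ha, mem_map_of_mem _ h.hs, ?_, ?_, ?_⟩
  · rw [← map_inv, ← map_mul, ← map_mul, hz]; exact h.twist
  · rintro - ⟨x, hx, rfl⟩
    obtain ⟨i, j, rfl⟩ := h.gen x hx
    exact ⟨i, j, by simp [map_mul]⟩
  · rw [← map_pow, hz]; exact h.big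

/-- An odd automorphism of a cyclic 2-group is trivial. -/
theorem eq_one_of_cyclic {Q : Type*} [Group Q] [Finite Q] (hQ : IsPGroup 2 Q) [IsCyclic Q]
    (φ : MulAut Q) (hφ : Odd (orderOf φ)) : φ = 1 := by
  haveI := Fact.mk Nat.prime_two
  obtain ⟨c, hc⟩ := IsCyclic.exists_generator (α := Q)
  obtain ⟨r, hr⟩ := mem_zpowers_iff.1 (hc (φ c))
  have hsq : ∀ u : Q, ∀ k : ℤ, u ^ (2 * k) ∈ frattini Q := fun u k => by
    rw [zpow_mul, zpow_two, ← pow_two]
    exact zpow_mem (Cfsg.Lib.PGroups.pow_mem_frattini hQ u) _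
  have hgenF : φ c * c⁻¹ ∈ frattini Q := by
    rcases Int.even_or_odd r with ⟨k, hk⟩ | ⟨k, hk⟩
    · -- an even power of a generator is no generator
      rw [← hr, hk, ← two_mul]
      have h1 : φ c ∈ frattini Q := hr ▸ (by rw [hk, ← two_mul]; exact hsq c k)
      have h2 : c ∈ frattini Q :=
        (SetLike.ext_iff.1 ((Subgroup.characteristic_iff_comap_eq.1 (frattini_characteristic (G := Q))) φ) c).1 h1
      exact mul_mem (hsq c k) (inv_mem h2)
    · rw [← hr, hk, zpow_add_one, mul_inv_cancel_right]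
      exact hsq c k
  refine eq_one_of_mod_frattini hQ φ hφ fun x => ?_
  obtain ⟨i, rfl⟩ := mem_zpowers_iff.1 (hc x)
  letI : CommGroup Q := IsCyclic.commGroup
  rw [map_zpow, ← inv_zpow, ← mul_zpow]
  exact zpow_mem hgenF i

/-- exponents with a given property form the multiples of a power of two -/
theorem two_pow_dvd {P : Subgroup G} {a s : G} (hP : Frame P a s) :
    ∃ n : ℕ, 1 ≤ n ∧ s ^ 2 ^ n ∈ zpowers a ∧
      ∀ e : ℤ, s ^ e ∈ zpowers a → ((2 ^ n : ℕ) : ℤ) ∣ e := by
  classical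
  have hex : ∃ n : ℕ, s ^ 2 ^ n ∈ zpowers a := by
    obtain ⟨n, hn⟩ := hP.pgroup ⟨s, hP.hs⟩
    have h : s ^ 2 ^ n = 1 := congrArg Subtype.val hn
    exact ⟨n, h ▸ one_mem _⟩
  refine ⟨Nat.find hex, ?_, Nat.find_spec hex, fun e he => ?_⟩
  · refine Nat.one_le_iff_ne_zero.2 fun h0 => hP.big ?_
    have := Nat.find_spec hex
    rw [h0, pow_zero, pow_one] at this
    exact pow_mem this 2
  · obtain ⟨j, hjle, hj⟩ := (Nat.dvd_prime_pow Nat.prime_two).1
      (show Int.gcd e ((2 ^ Nat.find hex : ℕ) : ℤ) ∣ 2 ^ Nat.find hex from by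
        exact_mod_cast Int.gcd_dvd_right e ((2 ^ Nat.find hex : ℕ) : ℤ))
    have hsj : s ^ 2 ^ j ∈ zpowers a := by
      rw [← zpow_natCast, ← hj, Int.gcd_eq_gcd_ab, zpow_add, zpow_mul, zpow_mul, zpow_natCast]
      exact mul_mem (zpow_mem he _) (zpow_mem (Nat.find_spec hex) _)
    have hjm : j = Nat.find hex := le_antisymm hjle (Nat.find_min' hex hsj)
    rw [← hjm, ← hj]; exact Int.gcd_dvd_left e _

/-- A subgroup of the frame with a non-trivial odd automorphism. -/
theorem subgroup_frame {P : Subgroup G} {a s : G} (hP : Frame P a s) {Q : Subgroup G} (hQP : Q ≤ P)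
    (hncyc : ¬ IsCyclic Q) (φ : MulAut Q) (hφ : Odd (orderOf φ)) (hne : φ ≠ 1) :
    ∃ c y : Q, closure {c, y} = ⊤ ∧ (c : G) ∈ zpowers a ∧
      (∀ x ∈ Q, x ∈ zpowers a → x ∈ zpowers (c : G)) ∧ (∃ t : ℤ, (y : G) * a * (y : G)⁻¹ = a ^ (4 * t + 1)) ∧
      ∀ i j : ℤ, ∃ i' : ℤ, s ^ j * a ^ i = a ^ i' * s ^ j := by
  classical
  have hQ : IsPGroup 2 Q := hP.pgroup.to_le hQP
  haveI := hP.pgroup
  -- conjugation by elements of the frame fixes the cyclic subgroup
  obtain ⟨r₀, hr₀⟩ := mem_zpowers_iff.1 hP.twist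
  obtain ⟨r, hodd, hr⟩ : ∃ r : ℤ, Odd r ∧ s * a * s⁻¹ = a ^ r := by
    by_cases ha1 : a = 1
    · exact ⟨1, odd_one, by simp [ha1]⟩
    refine ⟨r₀, ?_, hr₀.symm⟩
    rcases Int.even_or_odd r₀ with ⟨k, hk⟩ | h
    swap
    · exact h
    exfalso
    obtain ⟨n, hn⟩ := IsPGroup.iff_orderOf.1 hP.pgroup ⟨a, hP.ha⟩
    rw [Subgroup.orderOf_mk] at hn
    obtain ⟨m, rfl⟩ : ∃ m, n = m + 1 := ⟨n - 1, by
      have : n ≠ 0 := fun h => ha1 (orderOf_eq_one_iff.1 (by rw [hn, h, pow_zero]))
      omega⟩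
    have h1 : orderOf (s * a * s⁻¹) = 2 ^ (m + 1) := by
      rw [← MulAut.conj_apply, ← hn]
      exact orderOf_injective (MulAut.conj s).toMonoidHom (MulAut.conj s).injective a
    have h2 : (s * a * s⁻¹) ^ 2 ^ m = 1 := by
      rw [← hr₀, ← zpow_natCast, ← zpow_mul, hk, show (k + k) * ((2 ^ m : ℕ) : ℤ) = ((2 ^ (m + 1) : ℕ) : ℤ) * k by
        push_cast; ring, zpow_mul, zpow_natCast, ← hn, pow_orderOf_eq_one, one_zpow]
    have h3 := orderOf_dvd_of_pow_eq_one h2
    rw [h1, Nat.pow_dvd_pow_iff_le_right (by norm_num)] at h3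
    omega
  let W : Subgroup G := normalizer (zpowers a : Set G)
  have hconj : ∀ x : G, (∃ i j : ℤ, x = a ^ i * s ^ j) → ∀ i : ℤ, x * a ^ i * x⁻¹ ∈ zpowers a := by
    have hsW : ∀ u : G, u ∈ zpowers s → u ∈ W := by
      have : s ∈ W := by
        refine Subgroup.mem_normalizer_iff.2 fun v => ?_
        have he : (zpowers a).map (MulAut.conj s).toMonoidHom = zpowers a := by
          refine Subgroup.eq_of_le_of_card_ge ?_
            (le_of_eq (Subgroup.card_map_of_injective (MulAut.conj s).injective).symm)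
          rw [MonoidHom.map_zpowers, zpowers_le]
          exact hP.twist
        conv_rhs => rw [← he]
        exact ⟨fun hv => mem_map_of_mem _ hv, fun hv => by
          obtain ⟨w, hw, e⟩ := mem_map.1 hv
          exact (MulAut.conj s).injective e ▸ hw⟩
      exact fun u hu => (zpowers_le.2 this) hu
    rintro x ⟨i₀, j₀, rfl⟩ i
    have hx : a ^ i₀ * s ^ j₀ ∈ W :=
      mul_mem (le_normalizer (zpow_mem (mem_zpowers a) _)) (hsW _ (zpow_mem (mem_zpowers s) _))
    exact (Subgroup.mem_normalizer_iff.1 hx _).1 (zpow_mem (mem_zpowers a) i)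
  have hswap : ∀ i j : ℤ, ∃ i' : ℤ, s ^ j * a ^ i = a ^ i' * s ^ j := fun i j => by
    obtain ⟨i', h⟩ := mem_zpowers_iff.1 (hconj (s ^ j) ⟨0, j, by simp⟩ i)
    exact ⟨i', by rw [h]; group⟩
  -- the elements acting as `1` modulo four
  let One : Submonoid G :=
    { carrier := {x | ∃ t : ℤ, x * a * x⁻¹ = a ^ (4 * t + 1)}
      one_mem' := ⟨0, by simp⟩
      mul_mem' := fun {x y} => fun ⟨t, ht⟩ ⟨u, hu⟩ => ⟨4 * t * u + t + u, by
        rw [show x * y * a * (x * y)⁻¹ = x * (y * a * y⁻¹) * x⁻¹ by group, hu, ← _root_.conj_zpow, ht,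
          ← zpow_mul]
        congr 1
        ring⟩ }
  have haOne : ∀ i : ℤ, a ^ i ∈ One := fun i => ⟨0, by
    rw [mul_zero, zero_add, zpow_one]; group⟩
  have hs2One : ∀ k : ℤ, (s ^ 2) ^ k ∈ One := by
    have h : s ^ 2 ∈ One := by
      obtain ⟨q, hq⟩ := hodd
      refine ⟨q * q + q, ?_⟩
      rw [show s ^ 2 * a * (s ^ 2)⁻¹ = s * (s * a * s⁻¹) * s⁻¹ by rw [pow_two]; group, hr, ← _root_.conj_zpow, hr,
        ← zpow_mul, hq]
      congr 1
      ring
    intro k
    have : (s ^ 2) ^ k ∈ Submonoid.powers (s ^ 2) := by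
      rw [mem_powers_iff_mem_zpowers]; exact zpow_mem (mem_zpowers _) k
    obtain ⟨n, hn⟩ := this
    exact hn ▸ One.pow_mem h n
  -- generators
  let J : AddSubgroup ℤ :=
    { carrier := {j | ∃ i : ℤ, a ^ i * s ^ j ∈ Q}
      zero_mem' := ⟨0, by simp [one_mem]⟩
      add_mem' := fun {j k} => fun ⟨i, hi⟩ ⟨l, hl⟩ => by
        obtain ⟨l', hl'⟩ := hswap l j
        refine ⟨i + l', ?_⟩
        have e : a ^ i * s ^ j * (a ^ l * s ^ k) = a ^ (i + l') * s ^ (j + k) := by
          rw [← mul_assoc, mul_assoc (a ^ i), hl', ← mul_assoc, ← zpow_add, mul_assoc, ← zpow_add]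
        exact e ▸ mul_mem hi hl
      neg_mem' := fun {j} => fun ⟨i, hi⟩ => by
        obtain ⟨l', hl'⟩ := hswap (-i) (-j)
        refine ⟨l', ?_⟩
        rw [← hl', show s ^ (-j) * a ^ (-i) = (a ^ i * s ^ j)⁻¹ by group]
        exact inv_mem hi }
  obtain ⟨j₀, hj₀⟩ := Int.subgroup_cyclic J
  obtain ⟨l, hl⟩ : j₀ ∈ J := by rw [hj₀]; exact AddSubgroup.mem_closure_singleton_self j₀
  set y : Q := ⟨a ^ l * s ^ j₀, hl⟩ with hy
  obtain ⟨c', hc'⟩ := (Subgroup.isCyclic_iff_exists_zpowers_eq_top (Q ⊓ zpowers a)).1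
    (Subgroup.isCyclic_of_le (inf_le_right : Q ⊓ zpowers a ≤ zpowers a))
  have hc'Q : c' ∈ Q ⊓ zpowers a := hc' ▸ mem_zpowers c'
  have hc'a : c' ∈ zpowers a := (Subgroup.mem_inf.1 hc'Q).2
  set c : Q := ⟨c', (Subgroup.mem_inf.1 hc'Q).1⟩ with hcdef
  have hyk : ∀ k : ℤ, ∃ i' : ℤ, (y : G) ^ k = a ^ i' * s ^ (k • j₀) := fun k => by
    induction k using Int.induction_on with
    | zero => exact ⟨0, by simp⟩
    | succ n ih =>
      obtain ⟨i', hi'⟩ := ih
      obtain ⟨l', hl'⟩ := hswap l ((n : ℤ) • j₀)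
      refine ⟨i' + l', ?_⟩
      rw [zpow_add_one, hi', hy, ← mul_assoc, mul_assoc (a ^ i'), hl', ← mul_assoc, ← zpow_add,
        mul_assoc, ← zpow_add, add_smul, one_smul]
    | pred n ih =>
      obtain ⟨i', hi'⟩ := ih
      obtain ⟨l', hl'⟩ := hswap (-l) ((-(n : ℤ) - 1) • j₀)
      refine ⟨i' + l', ?_⟩
      rw [zpow_sub_one, hi', hy, show (a ^ l * s ^ j₀)⁻¹ = s ^ (-j₀) * a ^ (-l) by group, ← mul_assoc,
        mul_assoc (a ^ i'), ← zpow_add, show -(n : ℤ) • j₀ + -j₀ = (-(n : ℤ) - 1) • j₀ by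
          simp only [smul_eq_mul]; ring, mul_assoc, hl', ← mul_assoc, ← zpow_add]
  have hgen : closure {c, y} = ⊤ := by
    rw [eq_top_iff]
    rintro ⟨x, hx⟩ -
    obtain ⟨i, j, hxe⟩ := hP.gen x (hQP hx)
    have hj : j ∈ J := ⟨i, hxe ▸ hx⟩
    rw [hj₀, AddSubgroup.mem_closure_singleton] at hj
    obtain ⟨k, rfl⟩ := hj
    have hmem : x * ((y : G) ^ k)⁻¹ ∈ Q ⊓ zpowers a := by
      refine Subgroup.mem_inf.2 ⟨mul_mem hx (inv_mem (zpow_mem hl k)), ?_⟩
      obtain ⟨i', hi'⟩ := hyk k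
      rw [hxe, hi', show a ^ i * s ^ (k • j₀) * (a ^ i' * s ^ (k • j₀))⁻¹ = a ^ i * (a ^ i')⁻¹ by group]
      exact mul_mem (zpow_mem (mem_zpowers a) _) (inv_mem (zpow_mem (mem_zpowers a) _))
    rw [← hc'] at hmem
    obtain ⟨q, hq⟩ := mem_zpowers_iff.1 hmem
    have he : (⟨x, hx⟩ : Q) = c ^ q * y ^ k := Subtype.ext (by
      rw [Subgroup.coe_mul, SubgroupClass.coe_zpow, SubgroupClass.coe_zpow]
      show x = c' ^ q * _
      rw [hq, inv_mul_cancel_right])
    rw [he]
    exact mul_mem (zpow_mem (subset_closure (by simp)) q) (zpow_mem (subset_closure (by simp)) k)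
  refine ⟨c, y, hgen, hc'a, fun x hx hxa => hc'.symm ▸ Subgroup.mem_inf.2 ⟨hx, hxa⟩, ?_, hswap⟩
  by_contra hno
  have hyOne : (y : G) ∉ One := hno
  -- then `y` is an odd element and twists by `3` modulo four
  obtain ⟨k, hk⟩ : Odd j₀ := by
    rcases Int.even_or_odd j₀ with ⟨k, hk⟩ | h
    · exfalso
      apply hyOne
      show a ^ l * s ^ j₀ ∈ One
      rw [hk, ← two_mul, zpow_mul, zpow_two, ← pow_two]
      exact One.mul_mem (haOne l) (hs2One k)
    · exact h
  have hye : (y : G) = (a ^ l * (s ^ 2) ^ k) * s := by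
    show a ^ l * s ^ j₀ = _
    rw [hk, zpow_add_one, zpow_mul, zpow_two, ← pow_two, ← mul_assoc]
  obtain ⟨t, ht⟩ := One.mul_mem (haOne l) (hs2One k)
  obtain ⟨q, hq⟩ := hodd
  have hq1 : Odd q := by
    rcases Int.even_or_odd q with ⟨u, hu⟩ | h
    · exfalso
      apply hyOne
      rw [hye]
      refine One.mul_mem (One.mul_mem (haOne l) (hs2One k)) ⟨u, ?_⟩
      rw [hr, hq, hu]
      congr 1
      ring
    · exact h
  obtain ⟨u, hu⟩ := hq1
  obtain ⟨e, he⟩ := mem_zpowers_iff.1 hc'a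
  have hya : (y : G) * a * (y : G)⁻¹ = a ^ (4 * (4 * t * u + 3 * t + u) + 3) := by
    rw [hye, show ∀ A : G, A * s * a * (A * s)⁻¹ = A * (s * a * s⁻¹) * A⁻¹ from fun A => by group, hr,
      ← _root_.conj_zpow, ht, ← zpow_mul, hq, hu]
    congr 1
    ring
  have hr3 : y * c * y⁻¹ = c ^ (4 * (4 * t * u + 3 * t + u) + 3) := by
    apply Subtype.ext
    rw [Subgroup.coe_mul, Subgroup.coe_mul, Subgroup.coe_inv, SubgroupClass.coe_zpow]
    show (y : G) * c' * (y : G)⁻¹ = c' ^ _
    rw [← he, ← _root_.conj_zpow, hya, ← zpow_mul, ← zpow_mul, mul_comm]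
  refine no_three hQ hgen hr3 hncyc (fun h => hP.big ?_) φ hφ hne rfl
  obtain ⟨v, hv⟩ := mem_zpowers_iff.1 h
  have hv' : (c' : G) ^ v = (y : G) ^ 2 := by
    have := congrArg Subtype.val hv
    rwa [SubgroupClass.coe_zpow, SubgroupClass.coe_pow] at this
  have hy2 : (y : G) ^ 2 ∈ zpowers a := hv' ▸ zpow_mem hc'a v
  obtain ⟨n, -, hn, hdvd⟩ := two_pow_dvd hP
  obtain ⟨l', hl'⟩ := hswap l j₀
  have hsj : s ^ (2 * j₀) ∈ zpowers a := by
    have e2 : (y : G) ^ 2 = a ^ (l + l') * s ^ (2 * j₀) := by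
      show (a ^ l * s ^ j₀) ^ 2 = _
      rw [pow_two, ← mul_assoc, mul_assoc (a ^ l), hl', ← mul_assoc, ← zpow_add, mul_assoc, ← zpow_add,
        two_mul]
    rw [e2] at hy2
    exact (Subgroup.mul_mem_cancel_left _ (zpow_mem (mem_zpowers a) _)).1 hy2
  have hd2 : ((2 ^ n : ℕ) : ℤ) ∣ 2 := by
    refine (Int.isCoprime_iff_gcd_eq_one.2 ?_ : IsCoprime ((2 ^ n : ℕ) : ℤ) j₀).dvd_of_dvd_mul_right (hdvd _ hsj)
    rw [Int.gcd, Int.natAbs_natCast]
    exact Nat.Coprime.pow_left n (Nat.coprime_two_left.2 (Int.natAbs_odd.2 ⟨k, hk⟩))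
  have hn1 : n ≤ 1 := by
    have h2 : 2 ^ n ∣ 2 ^ 1 := by exact_mod_cast hd2
    exact (Nat.pow_dvd_pow_iff_le_right (by norm_num)).1 h2
  interval_cases n
  · rw [pow_zero, pow_one] at hn; exact pow_mem hn 2
  · rw [pow_one] at hn; exact hn

/-- Automorphisms inducing the identity on the Frattini quotient. -/
def stabF (Q : Type*) [Group Q] : Subgroup (MulAut Q) where
  carrier := {α | ∀ x : Q, α x * x⁻¹ ∈ frattini Q}
  one_mem' := fun x => by simp [one_mem]
  mul_mem' := fun {a b} ha hb x => by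
    have e : (a * b) x * x⁻¹ = a (b x) * (b x)⁻¹ * (b x * x⁻¹) := by
      rw [MulAut.mul_apply]; group
    rw [e]; exact mul_mem (ha _) (hb _)
  inv_mem' := fun {a} ha x => by
    have e : a⁻¹ x * x⁻¹ = (a (a⁻¹ x) * (a⁻¹ x)⁻¹)⁻¹ := by
      rw [MulAut.apply_inv_self]; group
    rw [e]; exact inv_mem (ha _)

instance stabF_normal (Q : Type*) [Group Q] : (stabF Q).Normal := ⟨fun α hα β x => by
  have e : (β * α * β⁻¹) x * x⁻¹ = β (α (β⁻¹ x) * (β⁻¹ x)⁻¹) := by
    rw [MulAut.mul_apply, MulAut.mul_apply, map_mul, map_inv, MulAut.apply_inv_self]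
  rw [e]
  exact (SetLike.ext_iff.1 ((Subgroup.characteristic_iff_comap_eq.1 (frattini_characteristic (G := Q))) β) _).2 (hα _)⟩

set_option maxHeartbeats 2000000 in
/-- The main dichotomy: without a homocyclic Sylow subgroup, odd elements normalizing 2-subgroups
centralize them. -/
theorem homocyclic_of_bad (P : Sylow 2 G) {a s : G} (hP : Frame (P : Subgroup G) a s)
    (hbad : ∃ Q : Subgroup G, IsPGroup 2 Q ∧ ∃ g ∈ normalizer (Q : Set G),
      Odd (orderOf g) ∧ g ∉ centralizer (Q : Set G)) :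
    ∃ m : ℕ, 2 ≤ m ∧ Nonempty ((P : Subgroup G) ≃* Multiplicative (ZMod (2 ^ m) × ZMod (2 ^ m))) := by
  classical
  haveI := Fact.mk Nat.prime_two
  obtain ⟨Q, ⟨hQ, g, hgN, hgodd, hgC⟩, hmax⟩ := Set.Finite.exists_maximalFor
    (fun Q : Subgroup G => Nat.card Q) {Q : Subgroup G | IsPGroup 2 Q ∧ ∃ g ∈ normalizer (Q : Set G),
      Odd (orderOf g) ∧ g ∉ centralizer (Q : Set G)} (Set.toFinite _) hbad
  let f : normalizer (Q : Set G) →* MulAut Q := Q.normalizerMonoidHom
  let K : Subgroup (normalizer (Q : Set G)) := (stabF Q).comap f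
  haveI : K.Normal := Subgroup.Normal.comap inferInstance f
  have hf : ∀ n : normalizer (Q : Set G), ∀ x : Q, ((f n x : Q) : G) = n * x * (n : G)⁻¹ := fun n x => rfl
  set φ := f ⟨g, hgN⟩ with hφdef
  have hφodd : Odd (orderOf φ) := hgodd.of_dvd_nat ((orderOf_map_dvd f _).trans (by rw [Subgroup.orderOf_mk]))
  have hφne : φ ≠ 1 := by
    intro h
    apply hgC
    intro x hx
    have e : g * x * g⁻¹ = x := by
      have := congrArg (fun ψ : MulAut Q => ((ψ ⟨x, hx⟩ : Q) : G)) h
      exact this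
    exact (mul_inv_eq_iff_eq_mul.1 e).symm
  have hgK : (⟨g, hgN⟩ : normalizer (Q : Set G)) ∉ K := fun h =>
    hφne (eq_one_of_mod_frattini hQ φ hφodd h)
  have hncyc : ¬ IsCyclic Q := fun _ => hφne (eq_one_of_cyclic hQ φ hφodd)
  -- inner automorphisms are trivial modulo the Frattini subgroup
  set QN : Subgroup (normalizer (Q : Set G)) := Q.subgroupOf (normalizer (Q : Set G)) with hQN
  have hQNK : QN ≤ K := by
    intro n hn x
    have e : f n x * x⁻¹ = ⁅(⟨(n : G), hn⟩ : Q), x⁆ := Subtype.ext rfl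
    rw [e]
    exact Cfsg.Lib.PGroups.commutator_le_frattini hQ
      (commutator_mem_commutator (mem_top _) (mem_top _))
  have hQNp : IsPGroup 2 QN := hQ.comap_of_injective _ (Subgroup.subtype_injective _)
  obtain ⟨U, hU⟩ := (hQNp.comap_of_injective K.subtype K.subtype_injective).exists_le_sylow
  set U' : Subgroup (normalizer (Q : Set G)) := (U : Subgroup K).map K.subtype with hU'
  have hQU : QN ≤ U' := fun x hx => ⟨⟨x, hQNK hx⟩, hU hx, rfl⟩
  -- maximality: `Q` is a Sylow subgroup of `K`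
  have hUQ : U' = QN := by
    by_contra hne
    have hlt : QN < U' := lt_of_le_of_ne hQU (Ne.symm hne)
    obtain ⟨n, hn, k, hk, hgnk⟩ := Subgroup.mem_sup_of_normal_right.1
      (show (⟨g, hgN⟩ : normalizer (Q : Set G)) ∈ normalizer (U' : Set (normalizer (Q : Set G))) ⊔ K by
        rw [hU', Sylow.normalizer_sup_eq_top U]; exact mem_top _)
    obtain ⟨e, o, ho, heo⟩ := Nat.exists_eq_pow_mul_and_not_dvd (orderOf_pos n).ne' 2 (by norm_num)
    set n' := n ^ 2 ^ e with hn'
    have hn'odd : Odd (orderOf n') := by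
      have h : orderOf n' ∣ o := orderOf_dvd_of_pow_eq_one (by rw [hn', ← pow_mul, ← heo, pow_orderOf_eq_one])
      exact (Nat.odd_iff.2 (by omega)).of_dvd_nat h
    set U'' := U'.map (normalizer (Q : Set G)).subtype with hU''
    have hQU'' : Q ≤ U'' := fun x hx => ⟨⟨x, le_normalizer hx⟩, hQU hx, rfl⟩
    have hbadU : U'' ∈ {Q : Subgroup G | IsPGroup 2 Q ∧ ∃ g ∈ normalizer (Q : Set G),
        Odd (orderOf g) ∧ g ∉ centralizer (Q : Set G)} := by
      refine ⟨(U.2.map _).map _, n', ?_, by rwa [Subgroup.orderOf_coe], fun hc => hgK ?_⟩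
      · exact le_normalizer_map _ (mem_map_of_mem _ (pow_mem hn _))
      · -- `n'` centralizes `Q`, so lies in `K`
        have hn'K : n' ∈ K := by
          intro x
          have e : f n' x = x := Subtype.ext (by
            rw [hf, mul_inv_eq_iff_eq_mul]
            exact (hc x (hQU'' x.2)).symm)
          rw [e, mul_inv_cancel]; exact one_mem _
        let π := QuotientGroup.mk' K
        have h1 : π ⟨g, hgN⟩ ^ 2 ^ e = 1 := by
          rw [← hgnk, map_mul, show π k = 1 from (QuotientGroup.eq_one_iff k).2 hk, mul_one, ← map_pow]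
          exact (QuotientGroup.eq_one_iff _).2 hn'K
        refine (QuotientGroup.eq_one_iff _).1 (orderOf_eq_one_iff.1 (Nat.eq_one_of_dvd_coprimes
          ((Nat.coprime_two_left.2 hgodd).pow_left e) (orderOf_dvd_of_pow_eq_one h1)
          ((orderOf_map_dvd π _).trans (by rw [Subgroup.orderOf_mk]))))
    have hle : Nat.card Q < Nat.card U'' := by
      rw [hU'', Subgroup.card_map_of_injective (Subgroup.subtype_injective _),
        ← Nat.card_congr (Subgroup.subgroupOfEquivOfLe le_normalizer).toEquiv]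
      by_contra hge
      exact hne (Subgroup.eq_of_le_of_card_ge hQU (not_lt.1 hge)).symm
    exact absurd (hmax hbadU hle.le) (not_le.2 hle)
  -- a Sylow subgroup of the normalizer
  obtain ⟨R, hR⟩ := hQNp.exists_le_sylow
  have hRK : (R : Subgroup (normalizer (Q : Set G))) ⊓ K ≤ QN := by
    have h1 : ((R : Subgroup (normalizer (Q : Set G))).subgroupOf K) = (U : Subgroup K) := by
      refine U.3 (R.2.comap_of_injective _ K.subtype_injective) fun x hx => ?_
      have : (x : normalizer (Q : Set G)) ∈ QN := hUQ ▸ mem_map_of_mem K.subtype hx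
      exact hR this
    rintro x ⟨hxR, hxK⟩
    rw [← hUQ]
    exact ⟨⟨x, hxK⟩, h1 ▸ hxR, rfl⟩
  obtain ⟨S₁, hS₁⟩ := (R.2.map (normalizer (Q : Set G)).subtype).exists_le_sylow
  have hQS : Q ≤ (S₁ : Subgroup G) := fun x hx => hS₁ ⟨⟨x, le_normalizer hx⟩, hR hx, rfl⟩
  obtain ⟨u, hu⟩ := MulAction.exists_smul_eq G P S₁
  have hS : Frame (S₁ : Subgroup G) (MulAut.conj u a) (MulAut.conj u s) := by
    have := hP.map u
    rwa [← Cfsg.Lib.Transfer.sylow_smul_coe, hu] at this
  generalize MulAut.conj u a = a₁, MulAut.conj u s = s₁ at hS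
  obtain ⟨c, y, hgen, hca, hcmax, ⟨t₀, ht₀⟩, hswap⟩ := subgroup_frame hS hQS hncyc φ hφodd hφne
  obtain ⟨e₀, he₀⟩ := mem_zpowers_iff.1 hca
  by_cases hRQ : (R : Subgroup (normalizer (Q : Set G))) ≤ QN
  · -- `Q` is a Sylow subgroup
    have hQeq : Q = (S₁ : Subgroup G) := by
      by_contra hne
      have hlt := Cfsg.Lib.Transfer.lt_inf_normalizer_of_lt S₁ (lt_of_le_of_ne hQS hne)
      refine hlt.not_ge ?_
      rintro x ⟨hxS, hxN⟩
      have h : (S₁ : Subgroup G).subgroupOf (normalizer (Q : Set G)) = (R : Subgroup _) :=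
        R.3 (S₁.2.comap_of_injective _ (Subgroup.subtype_injective _)) fun z hz => hS₁ ⟨z, hz, rfl⟩
      exact hRQ ((SetLike.ext_iff.1 h ⟨x, hxN⟩).1 hxS)
    have hr : y * c * y⁻¹ = c ^ (4 * t₀ + 1) := by
      apply Subtype.ext
      rw [Subgroup.coe_mul, Subgroup.coe_mul, Subgroup.coe_inv, SubgroupClass.coe_zpow, ← he₀,
        ← _root_.conj_zpow, ht₀, ← zpow_mul, ← zpow_mul, mul_comm]
    have hab := abelian_of_one hQ hgen hr hncyc φ hφodd hφne rfl
    obtain ⟨m, hm, ⟨e⟩⟩ := homocyclic hQ hgen hncyc hab φ hφodd hφne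
    refine ⟨m, ?_, ?_⟩
    · by_contra hm2
      apply hS.big
      have hsQ : s₁ ∈ Q := hQeq ▸ hS.hs
      have h1 : (e ⟨s₁, hsQ⟩) ^ 2 = 1 := by
        apply Multiplicative.toAdd.injective
        rw [toAdd_pow, toAdd_one]
        have hm1 : m = 0 ∨ m = 1 := by omega
        generalize Multiplicative.toAdd (e ⟨s₁, hsQ⟩) = z
        rcases hm1 with rfl | rfl <;> revert z <;> decide
      have h2 : s₁ ^ 2 = 1 := by
        have := e.injective (show e (⟨s₁, hsQ⟩ ^ 2) = e 1 by rw [map_pow, map_one, h1])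
        exact congrArg Subtype.val this
      exact h2 ▸ one_mem _
    · subst hQeq
      exact ⟨((P.equiv S₁)).trans e⟩
  · exfalso
    -- an element outside `Q` whose square lies in it
    obtain ⟨t, htR, htQ, ht2⟩ : ∃ t, t ∈ (R : Subgroup (normalizer (Q : Set G))) ∧ t ∉ QN ∧ t ^ 2 ∈ QN := by
      obtain ⟨v, hvR, hvQ⟩ := Set.not_subset.1 hRQ
      have hex : ∃ k : ℕ, v ^ 2 ^ k ∈ QN := by
        obtain ⟨k, hk⟩ := R.2 ⟨v, hvR⟩
        exact ⟨k, by rw [show v ^ 2 ^ k = 1 from congrArg Subtype.val hk]; exact one_mem _⟩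
      obtain ⟨k, hk⟩ : ∃ k, Nat.find hex = k + 1 := ⟨Nat.find hex - 1, by
        have h0 : Nat.find hex ≠ 0 := fun h => hvQ (by
          have := Nat.find_spec hex
          rwa [h, pow_zero, pow_one] at this)
        omega⟩
      refine ⟨v ^ 2 ^ k, pow_mem hvR _, Nat.find_min hex (by omega), ?_⟩
      rw [← pow_mul, ← pow_succ, ← hk]
      exact Nat.find_spec hex
    have htK : t ∉ K := fun h => htQ (hRK ⟨htR, h⟩)
    have htS : (t : G) ∈ (S₁ : Subgroup G) := hS₁ ⟨t, htR, rfl⟩
    obtain ⟨i, j, hte⟩ := hS.gen _ htS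
    obtain ⟨n, hn1, hn, hdvd⟩ := two_pow_dvd hS
    obtain ⟨n', rfl⟩ : ∃ n', n = n' + 1 := ⟨n - 1, by omega⟩
    -- `2 ^ n'` is an exponent of `Q`
    let J : AddSubgroup ℤ :=
      { carrier := {j | ∃ i : ℤ, a₁ ^ i * s₁ ^ j ∈ Q}
        zero_mem' := ⟨0, by simp [one_mem]⟩
        add_mem' := fun {j k} => fun ⟨i, hi⟩ ⟨l, hl⟩ => by
          obtain ⟨l', hl'⟩ := hswap l j
          refine ⟨i + l', ?_⟩
          have e : a₁ ^ i * s₁ ^ j * (a₁ ^ l * s₁ ^ k) = a₁ ^ (i + l') * s₁ ^ (j + k) := by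
            rw [← mul_assoc, mul_assoc (a₁ ^ i), hl', ← mul_assoc, ← zpow_add, mul_assoc, ← zpow_add]
          exact e ▸ mul_mem hi hl
        neg_mem' := fun {j} => fun ⟨i, hi⟩ => by
          obtain ⟨l', hl'⟩ := hswap (-i) (-j)
          refine ⟨l', ?_⟩
          rw [← hl', show s₁ ^ (-j) * a₁ ^ (-i) = (a₁ ^ i * s₁ ^ j)⁻¹ by group]
          exact inv_mem hi }
    have hN2 : ((2 ^ (n' + 1) : ℕ) : ℤ) ∈ J := by
      obtain ⟨k, hk⟩ := mem_zpowers_iff.1 hn
      exact ⟨-k, by rw [zpow_natCast, ← hk, ← zpow_add, neg_add_cancel, zpow_zero]; exact one_mem Q⟩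
    -- some element of `Q` lies outside the cyclic subgroup
    obtain ⟨x₀, hx₀, hx₀a⟩ : ∃ x ∈ Q, x ∉ zpowers a₁ := by
      by_contra h
      push Not at h
      exact hncyc (Subgroup.isCyclic_of_le (fun x hx => h x hx))
    obtain ⟨i₀, j₁, hx₀e⟩ := hS.gen _ (hQS hx₀)
    have hj₁ : ¬ ((2 ^ (n' + 1) : ℕ) : ℤ) ∣ j₁ := by
      rintro ⟨v, rfl⟩
      apply hx₀a
      rw [hx₀e, zpow_mul, zpow_natCast]
      exact mul_mem (zpow_mem (mem_zpowers _) _) (zpow_mem hn v)
    have hN1 : ((2 ^ n' : ℕ) : ℤ) ∈ J := by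
      obtain ⟨w, o, ho, hwo⟩ := Nat.exists_eq_pow_mul_and_not_dvd
        (show j₁.natAbs ≠ 0 from fun h => hj₁ (by rw [Int.natAbs_eq_zero.1 h]; exact dvd_zero _)) 2 (by norm_num)
      have hwn : w ≤ n' := by
        by_contra hlt
        apply hj₁
        rw [← Int.dvd_natAbs, hwo]
        exact_mod_cast dvd_mul_of_dvd_left (pow_dvd_pow 2 (by omega : n' + 1 ≤ w)) o
      obtain ⟨p, hp⟩ : Odd o := Nat.odd_iff.2 (by omega)
      have h1 : (j₁.natAbs : ℤ) ∈ J := by
        rcases Int.natAbs_eq j₁ with h | h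
        · exact ⟨i₀, by rw [← h, ← hx₀e]; exact hx₀⟩
        · have : j₁ ∈ J := ⟨i₀, hx₀e ▸ hx₀⟩
          have := J.neg_mem this
          rwa [show (j₁.natAbs : ℤ) = -j₁ by omega]
      have h2 := J.sub_mem (J.zsmul_mem h1 (((2 ^ (n' - w) : ℕ) : ℤ))) (J.zsmul_mem hN2 (p : ℤ))
      convert h2 using 1
      rw [hwo, hp, smul_eq_mul, smul_eq_mul]
      push_cast
      rw [show (2 : ℤ) ^ (n' - w) * (2 ^ w * (2 * p + 1)) = 2 ^ n' * (2 * p + 1) by
        rw [← mul_assoc, ← pow_add, show n' - w + w = n' by omega]]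
      ring
    -- the action of `t`: `y ↦ y c^b` with `b` odd, so `t²` involves an even power of `y`
    have hzc : ∀ z : ℤ, ∃ w : ℤ, (t : G) * (c : G) * (t : G)⁻¹ = (c : G) ^ w := by
      intro _
      have h1 : (t : G) * (c : G) * (t : G)⁻¹ ∈ Q := (f t c).2
      have h2 : (t : G) * (c : G) * (t : G)⁻¹ ∈ zpowers a₁ := by
        obtain ⟨i', hi'⟩ := hswap e₀ j
        rw [hte, ← he₀, show a₁ ^ i * s₁ ^ j * a₁ ^ e₀ * (a₁ ^ i * s₁ ^ j)⁻¹
          = a₁ ^ i * (s₁ ^ j * a₁ ^ e₀) * s₁ ^ (-j) * (a₁ ^ i)⁻¹ by group, hi',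
          show a₁ ^ i * (a₁ ^ i' * s₁ ^ j) * s₁ ^ (-j) * (a₁ ^ i)⁻¹ = a₁ ^ i' by group]
        exact zpow_mem (mem_zpowers _) _
      obtain ⟨w, hw⟩ := mem_zpowers_iff.1 (hcmax _ h1 h2)
      exact ⟨w, hw.symm⟩
    let π : Q →* Q ⧸ frattini Q := QuotientGroup.mk' (frattini Q)
    haveI := Cfsg.Lib.PGroups.isMulCommutative_quotient_frattini hQ
    obtain ⟨hcF, hyF, hcyF⟩ := gen_not_frattini hgen hncyc
    have hsq : ∀ v : Q ⧸ frattini Q, v * v = 1 := fun v => by
      have h := Cfsg.Lib.PGroups.pow_prime_quotient_frattini hQ v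
      rwa [pow_two] at h
    have hFinv : ∀ {v : Q}, f t v ∈ frattini Q ↔ v ∈ frattini Q := fun {v} =>
      SetLike.ext_iff.1 ((Subgroup.characteristic_iff_comap_eq.1 (frattini_characteristic (G := Q))) (f t)) v
    have hpar : ∀ v : Q, π v = 1 ∨ π v = π c ∨ π v = π y ∨ π v = π c * π y := by
      intro v
      have hv : v ∈ closure {c, y} := hgen ▸ mem_top v
      induction hv using Subgroup.closure_induction with
      | mem w hw => rcases hw with rfl | rfl <;> simp
      | one => simp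
      | mul p q _ _ hp hq =>
        rw [map_mul]
        have e0 : π y * π c = π c * π y := mul_comm' _ _
        have e1 : π c * (π c * π y) = π y := by rw [← mul_assoc, hsq, one_mul]
        have e2 : π y * (π c * π y) = π c := by rw [← e0, ← mul_assoc, hsq, one_mul]
        have e3 : π c * π y * π c = π y := by rw [← e0, mul_assoc, hsq, mul_one]
        have e4 : π c * π y * π y = π c := by rw [mul_assoc, hsq, mul_one]
        rcases hp with h | h | h | h <;> rcases hq with h' | h' | h' | h' <;> rw [h, h'] <;>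
          simp [hsq, e0, e1, e2, e3, e4]
      | inv p _ hp =>
        rw [map_inv, inv_eq_of_mul_eq_one_right (hsq (π p))]
        exact hp
    have htc : π (f t c) = π c := by
      obtain ⟨w, hw⟩ := hzc 0
      have e : f t c = c ^ w := Subtype.ext (by rw [hf, hw, SubgroupClass.coe_zpow])
      rcases Int.even_or_odd w with ⟨v, hv⟩ | ⟨v, hv⟩
      · exfalso
        refine mt hFinv.1 hcF ?_
        rw [e, hv, ← two_mul, zpow_mul, zpow_two, ← pow_two]
        exact zpow_mem (Cfsg.Lib.PGroups.pow_mem_frattini hQ c) v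
      · rw [e, map_zpow, hv, zpow_add_one, zpow_mul, zpow_two, hsq, one_zpow, one_mul]
    have hfix : ∀ v : Q, π (f t v) = π v → π v = 1 ∨ π v = π c := by
      intro v hv
      by_contra hno
      apply htK
      -- then `t` fixes `π y`, hence acts trivially modulo the Frattini subgroup
      have hty : π (f t y) = π y := by
        rcases hpar v with h | h | h | h
        · exact absurd (Or.inl h) hno
        · exact absurd (Or.inr h) hno
        · have h1 : v⁻¹ * y ∈ frattini Q := QuotientGroup.eq.1 h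
          have h2 : π (f t v) = π (f t y) := QuotientGroup.eq.2 (by rw [← map_inv, ← map_mul]; exact hFinv.2 h1)
          rw [← h2, hv, h]
        · rw [← map_mul] at h
          have h1 : v⁻¹ * (c * y) ∈ frattini Q := QuotientGroup.eq.1 h
          have h2 : π (f t v) = π (f t (c * y)) := QuotientGroup.eq.2 (by rw [← map_inv, ← map_mul]; exact hFinv.2 h1)
          rw [hv, h, map_mul (f t), map_mul, map_mul, htc] at h2
          exact (mul_left_cancel h2).symm
      intro x
      have hxy : (π.comp (f t).toMonoidHom) = π := MonoidHom.eq_of_eqOn_dense hgen (by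
        rintro w (rfl | rfl)
        exacts [htc, hty])
      rw [← QuotientGroup.eq_one_iff (N := frattini Q)]
      show π (f t x * x⁻¹) = 1
      rw [map_mul, map_inv, show π (f t x) = π x from DFunLike.congr_fun hxy x, mul_inv_cancel]
    -- the square of `t`
    obtain ⟨k, hkJ, hkc⟩ : ∃ k : ℤ, k ∈ J ∧ ((2 ^ (n' + 1) : ℕ) : ℤ) ∣ 2 * j - 2 * k := by
      set T : Q := ⟨((t : G)) ^ 2, ht2⟩ with hT
      have hTfix : f t T = T := Subtype.ext (by rw [hf]; show (t : G) * (t : G) ^ 2 * (t : G)⁻¹ = (t : G) ^ 2; group)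
      have hTclass := hfix T (by rw [hTfix])
      obtain ⟨w, hw, hTw⟩ : ∃ w : Q, w ∈ ({1, c} : Set Q) ∧ T * w ∈ frattini Q := by
        rcases hTclass with h | h
        · exact ⟨1, by simp, by rw [mul_one]; exact (QuotientGroup.eq_one_iff T).1 h⟩
        · refine ⟨c, by simp, (QuotientGroup.eq_one_iff _).1 ?_⟩
          show π (T * c) = 1
          rw [map_mul, h, hsq]
      -- exponents of Frattini elements are even
      let E : Subgroup Q :=
        { carrier := {x | ∃ i k : ℤ, k ∈ J ∧ (x : G) = a₁ ^ i * s₁ ^ (2 * k)}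
          one_mem' := ⟨0, 0, J.zero_mem, by simp⟩
          mul_mem' := fun {p q} => fun ⟨i, k, hk, hp⟩ ⟨i', k', hk', hq⟩ => by
            obtain ⟨l', hl'⟩ := hswap i' (2 * k)
            refine ⟨i + l', k + k', J.add_mem hk hk', ?_⟩
            rw [Subgroup.coe_mul, hp, hq, ← mul_assoc, mul_assoc (a₁ ^ i), hl', ← mul_assoc, ← zpow_add,
              mul_assoc, ← zpow_add, ← mul_add]
          inv_mem' := fun {p} => fun ⟨i, k, hk, hp⟩ => by
            obtain ⟨l', hl'⟩ := hswap (-i) (2 * -k)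
            refine ⟨l', -k, J.neg_mem hk, ?_⟩
            rw [Subgroup.coe_inv, hp, ← hl']
            group }
      have hsqE : ∀ p : Q, p * p ∈ E := by
        intro p
        obtain ⟨i, k, hp⟩ := hS.gen _ (hQS p.2)
        obtain ⟨l', hl'⟩ := hswap i k
        refine ⟨i + l', k, ⟨i, hp ▸ p.2⟩, ?_⟩
        rw [Subgroup.coe_mul, hp, ← mul_assoc, mul_assoc (a₁ ^ i), hl', ← mul_assoc, ← zpow_add,
          mul_assoc, ← zpow_add, two_mul]
      have hEc : c ∈ E := ⟨e₀, 0, J.zero_mem, by simp [he₀]⟩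
      have hFE : frattini Q ≤ E := by
        haveI hEn : E.Normal := ⟨fun p hp v => by
          have e : v * p * v⁻¹ = (v * p) * (v * p) * p⁻¹ * (v⁻¹ * v⁻¹) := by group
          rw [e]
          exact mul_mem (mul_mem (hsqE _) (inv_mem hp)) (hsqE _)⟩
        haveI : IsCyclic (Q ⧸ E) := by
          refine ⟨⟨QuotientGroup.mk' E y, fun v => ?_⟩⟩
          obtain ⟨v, rfl⟩ := QuotientGroup.mk'_surjective E v
          have hv : v ∈ closure {c, y} := hgen ▸ mem_top v
          induction hv using Subgroup.closure_induction with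
          | mem w hw =>
            rcases hw with rfl | rfl
            · exact ⟨0, by simp only [zpow_zero]; exact ((QuotientGroup.eq_one_iff _).2 hEc).symm⟩
            · exact ⟨1, by simp⟩
          | one => exact ⟨0, by simp⟩
          | mul p q _ _ hp hq => rw [map_mul]; exact Subgroup.mul_mem (zpowers _) hp hq
          | inv p _ hp => rw [map_inv]; exact Subgroup.inv_mem (zpowers _) hp
        by_cases hE : E = ⊤
        · rw [hE]; exact le_top
        · -- the quotient has order two, so `E` is maximal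
          obtain ⟨v, hv⟩ := IsCyclic.exists_generator (α := Q ⧸ E)
          have h2 : ∀ z : Q ⧸ E, z * z = 1 := fun z => by
            obtain ⟨z, rfl⟩ := QuotientGroup.mk_surjective z
            exact (QuotientGroup.eq_one_iff _).2 (hsqE z)
          have hidx : E.index = 2 := by
            rw [Subgroup.index_eq_card, ← orderOf_eq_card_of_forall_mem_zpowers hv]
            have hdd : orderOf v ∣ 2 := orderOf_dvd_of_pow_eq_one (by rw [pow_two, h2])
            rcases (Nat.dvd_prime Nat.prime_two).1 hdd with h | h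
            · exfalso
              apply hE
              rw [eq_top_iff]
              intro z _
              obtain ⟨q, hq⟩ := mem_zpowers_iff.1 (hv (QuotientGroup.mk z))
              rw [orderOf_eq_one_iff.1 h, one_zpow] at hq
              exact (QuotientGroup.eq_one_iff z).1 hq.symm
            · exact h
          exact iInf₂_le_of_le E ⟨hE, fun M hM => Subgroup.index_eq_one.1 (by
            have h3 := Subgroup.index_dvd_of_le hM.le
            rw [hidx, Nat.dvd_prime Nat.prime_two] at h3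
            rcases h3 with h3 | h3
            · exact h3
            · exact absurd (Subgroup.eq_of_le_of_card_ge hM.le (le_of_eq (Nat.eq_of_mul_eq_mul_right
                (by norm_num : 0 < 2) (by
                  conv_lhs => rw [← h3, Subgroup.card_mul_index]
                  rw [← hidx, Subgroup.card_mul_index])))) hM.ne)⟩ le_rfl
      have hTE : T ∈ E := by
        have hwE : w ∈ E := by
          rcases hw with rfl | rfl
          exacts [one_mem E, hEc]
        simpa using mul_mem (hFE hTw) (inv_mem hwE)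
      obtain ⟨i', k, hk, hTk⟩ := hTE
      refine ⟨k, hk, ?_⟩
      apply hdvd
      obtain ⟨l', hl'⟩ := hswap i j
      have e : a₁ ^ (i + l') * s₁ ^ (2 * j) = a₁ ^ i' * s₁ ^ (2 * k) := by
        rw [← hTk]
        show _ = (t : G) ^ 2
        rw [hte, pow_two, ← mul_assoc, mul_assoc (a₁ ^ i), hl', ← mul_assoc, ← zpow_add, mul_assoc,
          ← zpow_add, two_mul]
      rw [zpow_sub]
      have : s₁ ^ (2 * j) * (s₁ ^ (2 * k))⁻¹ = a₁ ^ (-(i + l') + i') := by
        rw [mul_inv_eq_iff_eq_mul, zpow_add, mul_assoc, ← e, zpow_neg, inv_mul_cancel_left]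
      rw [this]
      exact zpow_mem (mem_zpowers _) _
    have hjJ : j ∈ J := by
      obtain ⟨v, hv⟩ := hkc
      have e : j = k + v • ((2 ^ n' : ℕ) : ℤ) := by
        rw [smul_eq_mul]
        push_cast [pow_succ] at hv ⊢
        linarith
      rw [e]
      exact J.add_mem hkJ (J.zsmul_mem hN1 v)
    obtain ⟨i', hx⟩ := hjJ
    -- the resulting element of the cyclic subgroup
    set x : normalizer (Q : Set G) := ⟨a₁ ^ i' * s₁ ^ j, le_normalizer hx⟩ with hxdef
    have hxQ : x ∈ QN := hx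
    set w := t * x⁻¹ with hw
    have hwG : (w : G) = a₁ ^ (i - i') := by
      rw [hw, Subgroup.coe_mul, Subgroup.coe_inv, hte, hxdef]
      group
    have hw2 : w ^ 2 ∈ QN := by
      have e : w ^ 2 = (t * x⁻¹ * t⁻¹) * t ^ 2 * x⁻¹ := by rw [hw, pow_two, pow_two]; group
      rw [e]
      refine mul_mem (mul_mem ?_ ht2) (inv_mem hxQ)
      exact (Subgroup.mem_normalizer_iff.1 t.2 ((x : G)⁻¹)).1 (inv_mem hx)
    have hwK : w ∉ K := fun h => htK (by
      have := mul_mem h (hQNK hxQ)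
      rwa [hw, inv_mul_cancel_right] at this)
    apply hwK
    intro v
    have hgen2 : ∀ v ∈ ({c, y} : Set Q), π (f w v) = π v := by
      rintro v (rfl | rfl)
      · congr 1
        apply Subtype.ext
        rw [hf, hwG, ← he₀]
        group
      · have hv2 : ((w : G) ^ 2) ^ (2 * t₀) ∈ Q := zpow_mem hw2 _
        have e : f w v * v⁻¹ = ((⟨_, (zpow_mem hw2 t₀ : ((w : G) ^ 2) ^ t₀ ∈ Q)⟩ : Q) ^ 2)⁻¹ := by
          apply Subtype.ext
          rw [Subgroup.coe_mul, hf, Subgroup.coe_inv, Subgroup.coe_inv, SubgroupClass.coe_pow]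
          show (w : G) * (v : G) * (w : G)⁻¹ * (v : G)⁻¹ = ((((w : G) ^ 2) ^ t₀) ^ 2)⁻¹
          rw [hwG, show a₁ ^ (i - i') * (v : G) * (a₁ ^ (i - i'))⁻¹ * (v : G)⁻¹
            = a₁ ^ (i - i') * ((v : G) * a₁ ^ (i - i') * (v : G)⁻¹)⁻¹ by group, ← _root_.conj_zpow, ht₀]
          simp only [← zpow_natCast, ← zpow_mul, ← zpow_neg, ← zpow_add]
          congr 1
          push_cast
          ring
        have h1 : π (f w v * v⁻¹) = 1 := by
          rw [e, map_inv, inv_eq_one]
          exact (QuotientGroup.eq_one_iff _).2 (Cfsg.Lib.PGroups.pow_mem_frattini hQ _)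
        rwa [map_mul, map_inv, mul_inv_eq_one] at h1
    have hcomp : (π.comp (f w).toMonoidHom) = π := MonoidHom.eq_of_eqOn_dense hgen hgen2
    rw [← QuotientGroup.eq_one_iff (N := frattini Q)]
    show π (f w v * v⁻¹) = 1
    rw [map_mul, map_inv, show π (f w v) = π v from DFunLike.congr_fun hcomp v, mul_inv_cancel]

universe v

/-- A group with such a Sylow 2-subgroup is soluble, granted that odd groups are. -/
theorem solvable_of_frame (hFT : ∀ {X : Type v} [Group X] [Finite X], Odd (Nat.card X) → Group.IsSolvable X)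
    {G : Type v} [Group G] [Finite G] (P : Sylow 2 G) {a s : G} (hP : Frame (P : Subgroup G) a s) :
    Group.IsSolvable G := by
  classical
  haveI := Fact.mk Nat.prime_two
  have hPodd : Odd (P : Subgroup G).index := Nat.odd_iff.2 (by have := P.not_dvd_index; omega)
  by_cases hbad : ∃ Q : Subgroup G, IsPGroup 2 Q ∧ ∃ g ∈ normalizer (Q : Set G),
      Odd (orderOf g) ∧ g ∉ centralizer (Q : Set G)
  · obtain ⟨m, hm, ⟨e⟩⟩ := homocyclic_of_bad P hP hbad
    obtain ⟨O, ⟨hOn, hOodd⟩, hOmax⟩ := Set.Finite.exists_maximalFor (fun N : Subgroup G => Nat.card N)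
      {N : Subgroup G | N.Normal ∧ Odd (Nat.card N)} (Set.toFinite _) ⟨⊥, inferInstance, by simp⟩
    haveI := hOn
    haveI : Group.IsSolvable O := hFT hOodd
    have hdisj : (P : Subgroup G) ⊓ O = ⊥ := by
      obtain ⟨k, hk⟩ := IsPGroup.iff_card.1 P.2
      exact (Subgroup.disjoint_of_coprime_natCard
        (hk ▸ (Nat.coprime_two_left.2 hOodd).pow_left k)).eq_bot
    let π := QuotientGroup.mk' O
    let P' : Sylow 2 (G ⧸ O) := P.mapSurjective (QuotientGroup.mk'_surjective O)
    have hinj : Function.Injective (π.comp (P : Subgroup G).subtype) := by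
      rw [injective_iff_map_eq_one]
      intro x hx
      have h : (x : G) ∈ (P : Subgroup G) ⊓ O := ⟨x.2, (QuotientGroup.eq_one_iff _).1 hx⟩
      rw [hdisj, Subgroup.mem_bot] at h
      exact Subtype.ext h
    have hrange : (π.comp (P : Subgroup G).subtype).range = (P' : Subgroup (G ⧸ O)) := by
      rw [MonoidHom.range_comp, Subgroup.range_subtype, Sylow.coe_mapSurjective]
    let e' : (P' : Subgroup (G ⧸ O)) ≃* Multiplicative (ZMod (2 ^ m) × ZMod (2 ^ m)) :=
      ((MulEquiv.subgroupCongr hrange.symm).trans (MonoidHom.ofInjective hinj).symm).trans e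
    obtain ⟨hn, -, hidx⟩ := Cfsg.Agent.S0949.result P' m hm e' (by
      intro N hN hNodd
      have h1 : O ≤ N.comap π := fun x hx => by
        rw [Subgroup.mem_comap, show π x = 1 from (QuotientGroup.eq_one_iff x).2 hx]; exact one_mem N
      have h2 : N.comap π ∈ {N : Subgroup G | N.Normal ∧ Odd (Nat.card N)} := by
        refine ⟨hN.comap _, ?_⟩
        have hc := Subgroup.relIndex_mul_relIndex ⊥ O (N.comap π) bot_le h1
        rw [Subgroup.relIndex_bot_left, Subgroup.relIndex_bot_left] at hc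
        have h3 : O.relIndex (N.comap π) = Nat.card N := by
          have := Subgroup.relIndex_comap (⊥ : Subgroup (G ⧸ O)) π (N.comap π)
          rwa [MonoidHom.comap_bot, QuotientGroup.ker_mk',
            Subgroup.map_comap_eq_self_of_surjective (QuotientGroup.mk'_surjective O),
            Subgroup.relIndex_bot_left] at this
        rw [← hc, h3]
        exact hOodd.mul hNodd
      have h4 := Subgroup.eq_of_le_of_card_ge h1 (hOmax h2 (Subgroup.card_le_of_le h1))
      rw [eq_bot_iff]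
      intro x hx
      obtain ⟨x, rfl⟩ := QuotientGroup.mk'_surjective O x
      exact (QuotientGroup.eq_one_iff x).2 (h4 ▸ hx))
    haveI := hn
    haveI : Group.IsSolvable (P' : Subgroup (G ⧸ O)) := by
      haveI := P'.2.isNilpotent; infer_instance
    haveI : Group.IsSolvable ((G ⧸ O) ⧸ (P' : Subgroup (G ⧸ O))) := by
      rcases hidx with h | h
      · haveI : Subsingleton ((G ⧸ O) ⧸ (P' : Subgroup (G ⧸ O))) :=
          Finite.card_le_one_iff_subsingleton.1 (by rw [← Subgroup.index_eq_card, h])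
        infer_instance
      · haveI := Fact.mk Nat.prime_three
        haveI : IsCyclic ((G ⧸ O) ⧸ (P' : Subgroup (G ⧸ O))) :=
          isCyclic_of_prime_card (p := 3) (by rw [← Subgroup.index_eq_card, h])
        exact Group.isSolvable_of_comm fun x y => IsCyclic.commGroup.mul_comm x y
    haveI : Group.IsSolvable (G ⧸ O) :=
      (Group.isSolvable_iff_subgroup_quotient (P' : Subgroup (G ⧸ O))).2 ⟨inferInstance, inferInstance⟩
    exact (Group.isSolvable_iff_subgroup_quotient O).2 ⟨inferInstance, inferInstance⟩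
  · push Not at hbad
    obtain ⟨N, hN, hc⟩ := (Cfsg.Agent.S0071.result P).2 fun Q hQ g hg hcop =>
      hbad Q (P.2.to_le hQ) g hg (Nat.coprime_two_right.1 hcop)
    haveI := hN
    haveI : Group.IsSolvable N := hFT (by rw [← (Subgroup.IsComplement'.index_eq_card hc)]; exact hPodd)
    haveI : Group.IsSolvable (G ⧸ N) := by
      haveI := P.2.isNilpotent
      exact Group.isSolvable_of_surjective (f := ((QuotientGroup.mk' N).comp (P : Subgroup G).subtype))
        (fun z => by
          obtain ⟨z, rfl⟩ := QuotientGroup.mk'_surjective N z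
          obtain ⟨⟨⟨n, hn⟩, ⟨p, hp⟩⟩, he⟩ := hc.2 z
          refine ⟨⟨p, hp⟩, ?_⟩
          have he' : n * p = z := he
          show QuotientGroup.mk' N p = _
          rw [← he', map_mul, show QuotientGroup.mk' N n = 1 from (QuotientGroup.eq_one_iff n).2 hn, one_mul])
    exact (Group.isSolvable_iff_subgroup_quotient N).2 ⟨inferInstance, inferInstance⟩

end Cfsg.Lib.InvolCalc.MetaFrame
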