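import Cfsg.Agent.InvolCalc.SylowCentralizingAut
import Cfsg.Prelude.Def_KGroupFacts

/-!
Outer automorphisms and automorphisms of a Sylow 2-subgroup.
-/

set_option autoImplicit false
set_option linter.style.haveILetI false
set_option linter.unusedSectionVars false

namespace Cfsg.Lib.OutSolvable

open Subgroup

universe u

variable {G : Type u} [Group G] [Finite G]

theorem out_solvable (hFT : ∀ (H : Type u) [Group H] [Finite H], Odd (Nat.card H) → Group.IsSolvable H)
    (hO : ∀ N : Subgroup G, N.Normal → Odd (Nat.card N) → N = ⊥) (S : Sylow 2 G)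
    (hS : Group.IsSolvable (MulAut ↥S)) : Group.IsSolvable (Cfsg.Out G) := by
  haveI : Fact (Nat.Prime 2) := ⟨Nat.prime_two⟩
  haveI : Finite (MulAut G) := Finite.of_injective (fun e => (e : G → G)) (fun e f h => MulEquiv.ext (congrFun h))
  haveI := hS
  let N : Subgroup (MulAut G) :=
    { carrier := {σ | ∀ x, σ x ∈ (S : Subgroup G) ↔ x ∈ (S : Subgroup G)}
      one_mem' := fun x => Iff.rfl
      mul_mem' := fun {a b} (ha : ∀ x, a x ∈ (S : Subgroup G) ↔ x ∈ (S : Subgroup G))
        (hb : ∀ x, b x ∈ (S : Subgroup G) ↔ x ∈ (S : Subgroup G)) => fun x => by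
        show a (b x) ∈ _ ↔ _
        rw [ha, hb]
      inv_mem' := fun {a} (ha : ∀ x, a x ∈ (S : Subgroup G) ↔ x ∈ (S : Subgroup G)) => fun x => by
        rw [← ha (a⁻¹ x)]
        show a (a⁻¹ x) ∈ _ ↔ _
        rw [MulAut.apply_inv_self] }
  let res : N →* MulAut ↥S := MonoidHom.mk'
    (fun σ =>
      { toFun := fun x => ⟨(σ : MulAut G) x, (σ.2 x).2 x.2⟩
        invFun := fun x => ⟨((σ : MulAut G))⁻¹ x, (σ.2 _).1 (by rw [MulAut.apply_inv_self]; exact x.2)⟩
        left_inv := fun x => Subtype.ext (MulAut.inv_apply_self _ (σ : MulAut G) (x : G))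
        right_inv := fun x => Subtype.ext (MulAut.apply_inv_self _ (σ : MulAut G) (x : G))
        map_mul' := fun x y => Subtype.ext (map_mul (σ : MulAut G) (x : G) y) })
    (fun σ τ => MulEquiv.ext fun x => Subtype.ext rfl)
  have hker : Group.IsSolvable res.ker := by
    set C : Subgroup (MulAut G) := res.ker.map N.subtype with hC
    have hfix : ∀ s ∈ (S : Subgroup G), ∀ q ∈ C, q s = s := by
      rintro s hs _ ⟨σ, hσ, rfl⟩
      exact congrArg Subtype.val (MulEquiv.congr_fun (MonoidHom.mem_ker.1 hσ) ⟨s, hs⟩)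
    obtain ⟨T⟩ : Nonempty (Sylow 2 ↥C) := inferInstance
    obtain ⟨-, M, hM, hodd, hc⟩ := Cfsg.Lib.SylowCentralizingAut.sylow_centralizing_structure hO S C hfix T
    haveI := hM
    haveI : Group.IsSolvable M := hFT M hodd
    obtain ⟨k, hk⟩ := T.isPGroup'.exists_card_eq
    haveI : Group.IsNilpotent (↥C ⧸ M) :=
      (IsPGroup.of_card (p := 2) (n := k) (by rw [← index_eq_card, hc.symm.index_eq_card, hk])).isNilpotent
    haveI : Group.IsSolvable C := Group.isSolvable_of_ker_le_range M.subtype (QuotientGroup.mk' M) (by simp)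
    exact Group.isSolvable_of_isSolvable_injective
      (f := (res.ker.equivMapOfInjective N.subtype N.subtype_injective).toMonoidHom) (MulEquiv.injective _)
  haveI := hker
  haveI : Group.IsSolvable N := Group.isSolvable_of_ker_le_range res.ker.subtype res (by simp)
  refine Group.isSolvable_of_surjective (f := (QuotientGroup.mk' (Cfsg.Inn G)).comp N.subtype) fun y => ?_
  obtain ⟨σ, rfl⟩ := QuotientGroup.mk'_surjective (Cfsg.Inn G) y
  have hσp : IsPGroup 2 ↥((S : Subgroup G).map σ.toMonoidHom) := S.isPGroup'.map _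
  obtain ⟨g, -, hg⟩ := Cfsg.Lib.ZStarApps.exists_conj_mem_sylow S le_top hσp le_top
  have hmem : MulAut.conj g * σ ∈ N := by
    have hle : ((S : Subgroup G).map (MulAut.conj g * σ).toMonoidHom) = (S : Subgroup G) := by
      refine Subgroup.eq_of_le_of_card_ge ?_ (card_map_of_injective (MulAut.conj g * σ).injective).ge
      rintro _ ⟨s, hs, rfl⟩
      exact hg (σ s) ⟨s, hs, rfl⟩
    intro x
    constructor
    · intro hx
      rw [← hle] at hx
      obtain ⟨s, hs, e⟩ := hx
      exact (MulAut.conj g * σ).injective e ▸ hs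
    · intro hx
      exact hle.le ⟨x, hx, rfl⟩
  refine ⟨⟨_, hmem⟩, (QuotientGroup.eq).2 ?_⟩
  refine ⟨σ⁻¹ g⁻¹, ?_⟩
  refine MulEquiv.ext fun x => ?_
  show σ⁻¹ g⁻¹ * x * (σ⁻¹ g⁻¹)⁻¹ = ((MulAut.conj g * σ)⁻¹ * σ) x
  rw [mul_inv_rev, MulAut.mul_apply, MulAut.mul_apply, ← map_inv (MulAut.conj) g, MulAut.conj_apply]
  simp only [map_mul, map_inv, inv_inv, MulAut.inv_apply_self]

end Cfsg.Lib.OutSolvable
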