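import Mathlib
import Cfsg.Agent.InvolCalc.ZStarApps

/-!
# A class of involutions whose products have odd prime power order
-/

set_option autoImplicit false
set_option linter.unusedSectionVars false

namespace Cfsg.Lib.PPowerProducts

open Subgroup

universe u

variable {G : Type u} [Group G] [Finite G] {p : ℕ} [hp : Fact p.Prime]

theorem mul_mem_pCore (hp2 : p ≠ 2) (d : G) (hd : orderOf d = 2)
    (hprod : ∀ a ∈ conjugatesOf d, ∀ b ∈ conjugatesOf d, ∃ k : ℕ, orderOf (a * b) = p ^ k) :
    ∀ a ∈ conjugatesOf d, ∀ b ∈ conjugatesOf d, a * b ∈ Cfsg.pCore p G := by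
  classical
  have hdd : d * d = 1 := by rw [← pow_two, ← hd, pow_orderOf_eq_one]
  have hdi : d⁻¹ = d := inv_eq_of_mul_eq_one_right hdd
  have hconj : ∀ g : G, g * d * g⁻¹ ∈ conjugatesOf d := fun g => isConj_iff.2 ⟨g, rfl⟩
  have hself : d ∈ conjugatesOf d := mem_conjugatesOf_self
  have hsq : ∀ a ∈ conjugatesOf d, a * a = 1 := by
    intro a ha
    obtain ⟨g, rfl⟩ := isConj_iff.1 ha
    rw [show g * d * g⁻¹ * (g * d * g⁻¹) = g * (d * d) * g⁻¹ by group, hdd]
    group
  have hiso : Cfsg.IsIsolatedInvolution d := by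
    refine ⟨hd, fun g hc => ?_⟩
    obtain ⟨k, hk⟩ := hprod d hself _ (hconj g)
    have h2 : (d * (g * d * g⁻¹)) ^ 2 = 1 := by
      rw [hc.mul_pow, pow_two, pow_two, hdd, hsq _ (hconj g), mul_one]
    have h3 : orderOf (d * (g * d * g⁻¹)) = 1 := Nat.eq_one_of_dvd_coprimes
      (Nat.Coprime.pow_left k ((Nat.coprime_primes hp.out Nat.prime_two).2 hp2))
      (hk ▸ dvd_rfl) (orderOf_dvd_of_pow_eq_one h2)
    rw [orderOf_eq_one_iff] at h3
    rw [eq_inv_of_mul_eq_one_right h3, hdi]
  set O := Cfsg.pPrimeCore 2 G with hO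
  have hOo : Odd (Nat.card O) := Cfsg.Lib.ZStarApps.odd_card_pPrimeCore
  have hmemO : ∀ a ∈ conjugatesOf d, d * a ∈ O := by
    intro a ha
    obtain ⟨g, rfl⟩ := isConj_iff.1 ha
    have h := Cfsg.Lib.ZStarApps.zstarProp hiso g
    rw [hdi] at h
    simpa [mul_assoc] using h
  -- a Sylow subgroup normalised by `d`
  have hcop : (Nat.card (zpowers d)).Coprime (Nat.card O) := by
    rw [Nat.card_zpowers, hd]
    exact Nat.prime_two.coprime_iff_not_dvd.2 hOo.not_two_dvd_nat
  have hdO : zpowers d ≤ normalizer (O : Set G) := by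
    rw [normalizer_eq_top O]; exact le_top
  obtain ⟨P, hP⟩ := Cfsg.Lib.Coprime.exists_invariant_sylow hdO hcop (Or.inl inferInstance) p
  set P' := (P : Subgroup O).map O.subtype with hP'
  have hdP : ∀ u ∈ P', d * u * d ∈ P' := fun u hu => by
    have := (Subgroup.mem_normalizer_iff.1 (hP (mem_zpowers d)) u).1 hu
    rwa [hdi] at this
  set C := (centralizer ({d} : Set G)).subgroupOf O with hC
  have hidx : ∃ j, C.index = p ^ j := by
    refine ⟨C.index.primeFactorsList.length, Nat.eq_prime_pow_of_unique_prime_dvd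
      C.index_ne_zero_of_finite fun {q} hq hqd => ?_⟩
    by_contra hqp
    haveI := Fact.mk hq
    obtain ⟨Q, hQ⟩ := Cfsg.Lib.Coprime.exists_invariant_sylow hdO hcop (Or.inl inferInstance) q
    refine Q.not_dvd_index (hqd.trans (index_dvd_of_le fun x hx => ?_))
    rw [hC, mem_subgroupOf, mem_centralizer_singleton_iff]
    have h1 : d * (x : G) * d⁻¹ ∈ (Q : Subgroup O).map O.subtype :=
      (Subgroup.mem_normalizer_iff.1 (hQ (mem_zpowers d)) _).1 ⟨x, hx, rfl⟩
    have h2 : d * (x : G) * d * (x : G)⁻¹ ∈ (Q : Subgroup O).map O.subtype := by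
      rw [hdi] at h1
      exact mul_mem h1 (inv_mem ⟨x, hx, rfl⟩)
    obtain ⟨k, hk⟩ := hprod d hself _ (hconj (x : G))
    obtain ⟨j, hj⟩ := IsPGroup.iff_card.1 (Q.2.map O.subtype)
    have h3 : orderOf (d * (x : G) * d * (x : G)⁻¹) = 1 := by
      refine Nat.eq_one_of_dvd_coprimes (Nat.Coprime.pow k j
        ((Nat.coprime_primes hp.out hq).2 (Ne.symm hqp))) ?_ (hj ▸ orderOf_dvd_natCard _ h2)
      rw [← hk]
      exact dvd_of_eq (by congr 1; group)
    rw [orderOf_eq_one_iff, mul_inv_eq_one] at h3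
    calc (x : G) * d = d * (x : G) * d * d := by rw [h3]
      _ = d * x := by rw [mul_assoc, hdd, mul_one]
  -- every element of the core is a product of an element of the centraliser and one of `P`
  have hfac : ∀ o : O, ∃ c ∈ C, ∃ u ∈ (P : Subgroup O), o = u * c := by
    intro o
    obtain ⟨j, hj⟩ := hidx
    let f : (P : Subgroup O) ⧸ C.subgroupOf (P : Subgroup O) → O ⧸ C :=
        Quotient.map' Subtype.val (fun a b h => by
          rw [QuotientGroup.leftRel_apply] at h ⊢
          exact h)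
    have hf : Function.Injective f := by
      intro a b
      induction a using QuotientGroup.induction_on
      induction b using QuotientGroup.induction_on
      intro h
      exact QuotientGroup.eq.2 (mem_subgroupOf.2 (QuotientGroup.eq.1 h))
    have hcard : Nat.card (O ⧸ C) ≤ Nat.card ((P : Subgroup O) ⧸ C.subgroupOf (P : Subgroup O)) := by
      rw [← Subgroup.index_eq_card, ← Subgroup.index_eq_card, hj]
      have h1 : p ^ j * Nat.card C = Nat.card O := by rw [← hj, mul_comm, C.card_mul_index]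
      have h2 : (C.subgroupOf (P : Subgroup O)).index * Nat.card (C.subgroupOf (P : Subgroup O)) =
          Nat.card (P : Subgroup O) := by rw [mul_comm, card_mul_index]
      obtain ⟨i, hi⟩ := IsPGroup.iff_card.1 (P.2.to_subgroup (C.subgroupOf (P : Subgroup O)))
      rw [hi, P.card_eq_multiplicity] at h2
      have h3 : p ^ i ∣ Nat.card C := hi ▸ (card_dvd_of_injective
        (⟨⟨fun a => ⟨(a : (P : Subgroup O)), mem_subgroupOf.1 a.2⟩, rfl⟩, fun _ _ => rfl⟩ :
          C.subgroupOf (P : Subgroup O) →* C)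
        fun a b h => Subtype.ext (Subtype.ext (congrArg (fun c : C => (c : O)) h)))
      have h4 : p ^ (j + i) ∣ Nat.card O := h1 ▸ pow_add p j i ▸ Nat.mul_dvd_mul_left _ h3
      have h5 := (hp.out.pow_dvd_iff_le_factorization Nat.card_pos.ne').1 h4
      have h6 : p ^ (j + i) ≤ (C.subgroupOf (P : Subgroup O)).index * p ^ i :=
        (Nat.pow_le_pow_right hp.out.pos h5).trans h2.ge
      rw [pow_add] at h6
      exact Nat.le_of_mul_le_mul_right h6 (pow_pos hp.out.pos i)
    obtain ⟨u', hu'⟩ := ((Nat.bijective_iff_injective_and_card f).2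
      ⟨hf, le_antisymm (Nat.card_le_card_of_injective f hf) hcard⟩).2 (QuotientGroup.mk o)
    induction u' using QuotientGroup.induction_on with
    | H u => exact ⟨(u : O)⁻¹ * o, QuotientGroup.eq.1 hu', u, u.2, by group⟩
  -- all `d * a` lie in `P`
  have hgen : ∀ a ∈ conjugatesOf d, d * a ∈ P' := by
    intro a ha
    set x := d * a with hx
    obtain ⟨m, hm⟩ := hOo.of_dvd_nat (O.orderOf_dvd_natCard (hmemO a ha))
    set y := x ^ (m + 1) with hy
    have hyy : y * y = x := by
      rw [hy, ← pow_add, show m + 1 + (m + 1) = orderOf x + 1 by (have : orderOf x = 2 * m + 1 := hm); omega, pow_succ, pow_orderOf_eq_one,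
        one_mul]
    have hxinv : d * x * d = x⁻¹ := by
      have ha2 : a⁻¹ = a := inv_eq_of_mul_eq_one_right (hsq a ha)
      rw [hx, mul_inv_rev, ha2, hdi, ← mul_assoc, hdd, one_mul]
    have hyinv : d * y * d = y⁻¹ := by
      rw [hy, ← inv_pow, ← hxinv]
      have := conj_pow (a := d) (b := x) (i := m + 1)
      rw [hdi] at this
      exact this.symm
    have ha' : a = y⁻¹ * d * y := by
      have : a = d * x := by rw [hx, ← mul_assoc, hdd, one_mul]
      rw [this, ← hyinv, mul_assoc (d * y), hdd, mul_one, mul_assoc d y y, hyy]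
    have hyO : y⁻¹ ∈ O := O.inv_mem (O.pow_mem (hmemO a ha) _)
    obtain ⟨c, hc, u, hu, hcu⟩ := hfac ⟨y⁻¹, hyO⟩
    have hcu' : y⁻¹ = (u : G) * (c : G) := congrArg Subtype.val hcu
    have hcd : (c : G) * d = d * c := mem_centralizer_singleton_iff.1 (mem_subgroupOf.1 hc)
    have h1 : d * a = d * (u : G) * d * (u : G)⁻¹ := by
      rw [ha', hcu', show y = (u * c : G)⁻¹ by rw [← hcu', inv_inv]]
      calc d * (↑u * ↑c * d * (↑u * ↑c)⁻¹) = d * u * ((c : G) * d) * (c : G)⁻¹ * (u : G)⁻¹ := by group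
        _ = d * u * d * (u : G)⁻¹ := by rw [hcd]; group
    rw [← hx] at h1
    rw [h1]
    exact mul_mem (hdP _ ⟨u, hu, rfl⟩) (inv_mem ⟨u, hu, rfl⟩)
  -- the subgroup generated by the products
  set W := closure {g : G | ∃ a ∈ conjugatesOf d, ∃ b ∈ conjugatesOf d, g = a * b} with hW
  have hWP : W ≤ P' := by
    rw [hW, closure_le]
    rintro _ ⟨a, ha, b, hb, rfl⟩
    have ha2 : a⁻¹ = a := inv_eq_of_mul_eq_one_right (hsq a ha)
    have : a * b = (d * a)⁻¹ * (d * b) := by rw [mul_inv_rev, ha2]; group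
    rw [this]
    exact mul_mem (inv_mem (hgen a ha)) (hgen b hb)
  haveI hWn : W.Normal := by
    refine ⟨fun w hw g => ?_⟩
    induction hw using closure_induction with
    | mem x hx =>
      obtain ⟨a, ha, b, hb, rfl⟩ := hx
      obtain ⟨s, rfl⟩ := isConj_iff.1 ha
      obtain ⟨t, rfl⟩ := isConj_iff.1 hb
      exact subset_closure ⟨_, hconj (g * s), _, hconj (g * t), by group⟩
    | one => simp
    | mul x y _ _ hx hy =>
      rw [show g * (x * y) * g⁻¹ = (g * x * g⁻¹) * (g * y * g⁻¹) by group]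
      exact mul_mem hx hy
    | inv x _ hx =>
      rw [show g * x⁻¹ * g⁻¹ = (g * x * g⁻¹)⁻¹ by group]
      exact inv_mem hx
  have hWp : IsPGroup p W := (P.2.map O.subtype).to_le hWP
  intro a ha b hb
  have hab : a * b ∈ W := subset_closure ⟨a, ha, b, hb, rfl⟩
  exact le_sSup (show W ∈ {H : Subgroup G | H.Normal ∧ IsPGroup p H} from ⟨hWn, hWp⟩) hab

end Cfsg.Lib.PPowerProducts
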