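import Cfsg.Agent.S3742
import Cfsg.Agent.Frobenius.UniqueSubgroup
import Mathlib.LinearAlgebra.Matrix.GeneralLinearGroup.Card

/-!
Finite groups with a self-centralising normal quaternion subgroup of order 8: they have a normal Sylow
2-subgroup, or are `GL(2,3)`, or the binary octahedral group.
-/

set_option autoImplicit false

namespace Cfsg.Lib.QuatCore

open QuaternionGroup Subgroup
open Cfsg.Agent.S3742 (gen admissible)

abbrev Q8 := QuaternionGroup 2

/-- coordinates in `Q8 ⋊ S3` -/
abbrev T48 := Q8 × ZMod 3 × ZMod 2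

def α0 : Q8 × Q8 := (xa 2, xa 3)
def β0 : Q8 × Q8 := (xa 0, a 1)

def act (c : ZMod 3) (d : ZMod 2) (x : Q8) : Q8 := (gen α0)^[c.val] ((gen β0)^[d.val] x)

def twist (d : ZMod 2) (c : ZMod 3) : ZMod 3 := if d = 0 then c else -c

def mulT (p q : T48) : T48 :=
  (p.1 * act p.2.1 p.2.2 q.1, p.2.1 + twist p.2.2 q.2.1, p.2.2 + q.2.2)

theorem adm_α : admissible α0 := by decide +kernel
theorem adm_β : admissible β0 := by decide +kernel
theorem αβ_rel : ∀ x : Q8, gen β0 (gen α0 (gen β0 (gen α0 x))) = x := by decide +kernel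
theorem α_cube : ∀ x : Q8, gen α0 (gen α0 (gen α0 x)) = x := by decide +kernel
theorem α_ne : ∃ x : Q8, gen α0 x ≠ x := by decide +kernel

/-- an outer involution is conjugate to the swap -/
theorem relabel : ∀ p : Q8 × Q8, admissible p → (∀ x, gen p (gen p x) = x) →
    (¬ ∃ y : Q8, ∀ x, gen p x = y * x * y⁻¹) →
    ∃ q : Q8 × Q8, admissible q ∧ ∀ x, gen q (gen p x) = gen β0 (gen q x) := by
  decide +kernel

theorem act_separates : ∀ (x y : Q8) (a c : ZMod 3) (b d : ZMod 2),
    (∀ z, x * act a b z * x⁻¹ = y * act c d z * y⁻¹) → a = c ∧ b = d := by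
  decide +kernel

/-- the automorphism with given images of the generators -/
noncomputable def mkAut (p : Q8 × Q8) (h : admissible p) : MulAut Q8 :=
  MulEquiv.ofBijective (MonoidHom.mk' (gen p) (Cfsg.Agent.S3742.gen_hom p h))
    (Finite.injective_iff_bijective.mp (Cfsg.Agent.S3742.gen_inj p h))

theorem mkAut_apply (p : Q8 × Q8) (h : admissible p) (x : Q8) : mkAut p h x = gen p x := rfl

theorem card_T48 : Nat.card T48 = 48 := by
  rw [Nat.card_prod, Nat.card_prod, Nat.card_zmod, Nat.card_zmod, Nat.card_eq_fintype_card, QuaternionGroup.card]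

section
variable {Q : Type*} [Group Q] {R : Subgroup Q} [R.Normal]

/-- conjugation read through an isomorphism `R ≃ Q8` -/
noncomputable def psi (e : R ≃* Q8) : Q →* MulAut Q8 := (MulAut.congr e).toMonoidHom.comp MulAut.conjNormal

theorem psi_spec (e : R ≃* Q8) (q : Q) (x : Q8) : (e.symm (psi e q x) : Q) = q * e.symm x * q⁻¹ := by
  simp [psi, MulAut.congr]

theorem psi_eq_one_iff (e : R ≃* Q8) (q : Q) : psi e q = 1 ↔ q ∈ centralizer (R : Set Q) := by
  constructor
  · intro h
    rw [mem_centralizer_iff]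
    intro r hr
    have := psi_spec e q (e ⟨r, hr⟩)
    simp only [h, MulAut.one_apply, MulEquiv.symm_apply_apply] at this
    exact eq_mul_inv_iff_mul_eq.1 this
  · intro h
    refine MulEquiv.ext fun x => e.symm.injective (Subtype.ext ?_)
    rw [psi_spec, MulAut.one_apply, ← mem_centralizer_iff.1 h _ (e.symm x).2]
    group

theorem psi_coe (e : R ≃* Q8) (r : R) (x : Q8) : psi e (r : Q) x = e r * x * (e r)⁻¹ := by
  apply e.symm.injective
  apply Subtype.ext
  rw [psi_spec, map_mul, map_mul, map_inv, e.symm_apply_apply]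
  rfl

theorem ker_psi (e : R ≃* Q8) (hcR : centralizer (R : Set Q) ≤ R) (q : Q) :
    psi e q = 1 ↔ q = 1 ∨ q = (e.symm (a 2) : Q) := by
  have hc : ∀ y : Q8, (∀ x, y * x * y⁻¹ = x) ↔ y = 1 ∨ y = a 2 := by decide +kernel
  constructor
  · intro h
    have hq := hcR ((psi_eq_one_iff e q).1 h)
    have := (hc (e ⟨q, hq⟩)).1 fun x => by
      rw [← psi_coe e ⟨q, hq⟩ x]
      simp [h]
    rcases this with h' | h'
    · exact Or.inl (congrArg Subtype.val (e.map_eq_one_iff.1 h'))
    · exact Or.inr (congrArg Subtype.val ((MulEquiv.eq_symm_apply e).2 h'))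
  · rintro (rfl | rfl)
    · exact map_one _
    · refine MulEquiv.ext fun x => ?_
      rw [psi_coe, e.apply_symm_apply, MulAut.one_apply]
      exact (hc (a 2)).2 (Or.inr rfl) x

theorem card_range (e : R ≃* Q8) [Finite Q] (hcR : centralizer (R : Set Q) ≤ R) :
    Nat.card (psi e).ker = 2 ∧ Nat.card Q = 2 * Nat.card (psi e).range := by
  have h2 : Nat.card (psi e).ker = 2 := by
    have he : ((psi e).ker : Set Q) = {1, (e.symm (a 2) : Q)} := by
      ext q
      simp [ker_psi e hcR q]
    rw [← SetLike.coe_sort_coe, he, Nat.card_coe_set_eq, Set.ncard_pair]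
    intro h
    have : e.symm (a 2) = (1 : R) := Subtype.ext h.symm
    rw [MulEquiv.map_eq_one_iff] at this
    exact absurd this (by decide)
  refine ⟨h2, ?_⟩
  rw [← Subgroup.index_ker, ← (psi e).ker.card_mul_index, h2]

/-- split extensions of `Q8` by `S3` share one multiplication table -/
theorem exists_coords (e : R ≃* Q8) [Finite Q] (hcR : centralizer (R : Set Q) ≤ R) (hcard : Nat.card Q = 48)
    {t : Q} (ht2 : t ^ 2 = 1) (ht : ∀ x, psi e t x = gen β0 x) :
    ∃ F : T48 → Q, Function.Bijective F ∧ ∀ p q, F p * F q = F (mulT p q) := by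
  obtain ⟨hk2, hcr⟩ := card_range e hcR
  have h24 : Nat.card (MulAut Q8) = 24 := by
    rw [Nat.card_congr Cfsg.Agent.S3742.result.some.toEquiv, Nat.card_perm, Nat.card_fin]; rfl
  haveI : Finite (MulAut Q8) := Nat.finite_of_card_ne_zero (by omega)
  have hsurj : Function.Surjective (psi e) :=
    MonoidHom.range_eq_top.1 (eq_top_of_card_eq _ (by omega))
  obtain ⟨k0, hk0⟩ := hsurj (mkAut α0 adm_α)
  set z : Q := (e.symm (a 2) : Q) with hz
  have hz2 : z ^ 2 = 1 := by
    rw [hz, ← Subgroup.coe_pow, ← map_pow, show (a 2 : Q8) ^ 2 = 1 by decide, map_one, Subgroup.coe_one]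
  have hker2 : ∀ q, psi e q = 1 → q ^ 2 = 1 := fun q hq =>
    ((ker_psi e hcR q).1 hq).elim (fun h => by rw [h, one_pow]) (fun h => by rw [h]; exact hz2)
  have hA3 : psi e (k0 ^ 3) = 1 := MulEquiv.ext fun x => by
    rw [map_pow, hk0, pow_three]
    simp [MulAut.mul_apply, mkAut_apply, α_cube]
  set k : Q := k0 ^ 4 with hk
  have hk3 : k ^ 3 = 1 := by
    rw [hk, ← pow_mul, show 4 * 3 = 3 * 2 * 2 by rfl, pow_mul, pow_mul k0 3 2, hker2 _ hA3, one_pow]
  have hkα : ∀ x, psi e k x = gen α0 x := fun x => by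
    rw [hk, pow_succ, map_mul, hA3, one_mul, hk0, mkAut_apply]
  -- `t` inverts `k`
  have htk : t * k * t = k⁻¹ := by
    have hw : psi e (t * k * t * k) = 1 := MulEquiv.ext fun x => by
      simp only [map_mul, MulAut.mul_apply, MulAut.one_apply, ht, hkα, αβ_rel]
    rcases (ker_psi e hcR _).1 hw with h | h
    · exact eq_inv_of_mul_eq_one_left h
    · exfalso
      have hzc : Commute z k := by
        have := (psi_eq_one_iff e z).1 ((ker_psi e hcR z).2 (Or.inr rfl))
        have hmem : z ∈ (psi e).ker := (ker_psi e hcR z).2 (Or.inr rfl)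
        rcases (ker_psi e hcR (k * z * k⁻¹)).1 (by simp [MonoidHom.mem_ker.1 hmem]) with h1 | h1
        · rw [show z = 1 by simpa using h1]; exact Commute.one_left k
        · exact (mul_inv_eq_iff_eq_mul.1 h1).symm
      have htinv : t⁻¹ = t := inv_eq_of_mul_eq_one_left (by rw [← pow_two, ht2])
      have h1 : t * k * t = z * k⁻¹ := eq_mul_inv_of_mul_eq h
      have h3 : (t * k * t⁻¹) ^ 3 = 1 := by rw [conj_pow, hk3]; group
      rw [htinv, h1, hzc.inv_right.mul_pow, inv_pow, hk3, inv_one, mul_one, pow_succ, hz2, one_mul] at h3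
      have h3' : e.symm (a 2) = (1 : R) := Subtype.ext h3
      rw [MulEquiv.map_eq_one_iff] at h3'
      exact absurd h3' (by decide)
  have hkadd : ∀ c c' : ZMod 3, k ^ (c + c').val = k ^ c.val * k ^ c'.val := fun c c' => by
    rw [ZMod.val_add, ← pow_add, ← pow_eq_pow_mod _ hk3]
  have htadd : ∀ d d' : ZMod 2, t ^ (d + d').val = t ^ d.val * t ^ d'.val := fun d d' => by
    rw [ZMod.val_add, ← pow_add, ← pow_eq_pow_mod _ ht2]
  have hpush : ∀ (d : ZMod 2) (c : ZMod 3), t ^ d.val * k ^ c.val = k ^ (twist d c).val * t ^ d.val := by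
    intro d c
    rcases (show d = 0 ∨ d = 1 by revert d; decide) with rfl | rfl
    · simp [twist]
    · have htinv : t⁻¹ = t := inv_eq_of_mul_eq_one_left (by rw [← pow_two, ht2])
      have hn : k ^ (-c).val = (k ^ c.val)⁻¹ :=
        eq_inv_of_mul_eq_one_left (by rw [← hkadd, neg_add_cancel, ZMod.val_zero, pow_zero])
      have hp : t * k ^ c.val * t⁻¹ = (k ^ c.val)⁻¹ := by
        rw [← conj_pow, htinv, htk, inv_pow]
      rw [show twist 1 c = -c from rfl, hn, show (1 : ZMod 2).val = 1 from rfl, pow_one]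
      exact mul_inv_eq_iff_eq_mul.1 hp
  have hkp : ∀ (n : ℕ) (x : Q8), psi e (k ^ n) x = (gen α0)^[n] x := by
    intro n
    induction n with
    | zero => simp
    | succ n ih => intro x; rw [pow_succ, map_mul, MulAut.mul_apply, hkα, ih, Function.iterate_succ_apply]
  have htp : ∀ (n : ℕ) (x : Q8), psi e (t ^ n) x = (gen β0)^[n] x := by
    intro n
    induction n with
    | zero => simp
    | succ n ih => intro x; rw [pow_succ, map_mul, MulAut.mul_apply, ht, ih, Function.iterate_succ_apply]
  have hact : ∀ (c : ZMod 3) (d : ZMod 2) (x : Q8), psi e (k ^ c.val * t ^ d.val) x = act c d x := fun c d x => by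
    rw [map_mul, MulAut.mul_apply, hkp, htp]; rfl
  refine ⟨fun p => (e.symm p.1 : Q) * k ^ p.2.1.val * t ^ p.2.2.val, ?_, ?_⟩
  · have hinj : Function.Injective fun p : T48 => (e.symm p.1 : Q) * k ^ p.2.1.val * t ^ p.2.2.val := by
      rintro ⟨x, a, b⟩ ⟨y, c, d⟩ h
      simp only at h
      have key : a = c ∧ b = d := act_separates x y a c b d fun w => by
        have := congrArg (fun q => psi e q (e (e.symm w))) h
        have hx := psi_coe e (e.symm x) (act a b w)
        have hy := psi_coe e (e.symm y) (act c d w)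
        rw [e.apply_symm_apply] at hx hy
        simp only [e.apply_symm_apply, mul_assoc _ (k ^ _) (t ^ _), map_mul _ (_ : Q) (k ^ _ * t ^ _),
          MulAut.mul_apply, hact] at this
        rwa [hx, hy] at this
      obtain ⟨rfl, rfl⟩ := key
      rw [e.symm.injective (Subtype.ext (mul_right_cancel (mul_right_cancel h)))]
    exact (Nat.bijective_iff_injective_and_card _).2 ⟨hinj, by rw [card_T48, hcard]⟩
  · rintro ⟨x, a, b⟩ ⟨y, c, d⟩
    have hmove : k ^ a.val * t ^ b.val * (e.symm y : Q) = (e.symm (act a b y) : Q) * (k ^ a.val * t ^ b.val) := by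
      rw [← hact, psi_spec]; group
    simp only [mulT, map_mul, Subgroup.coe_mul, hkadd, htadd]
    calc _ = (e.symm x : Q) * (k ^ a.val * t ^ b.val * (e.symm y : Q)) * k ^ c.val * t ^ d.val := by group
      _ = (e.symm x : Q) * (e.symm (act a b y) : Q) * k ^ a.val * (t ^ b.val * k ^ c.val) * t ^ d.val := by
        rw [hmove]; group
      _ = _ := by rw [hpush]; group

end

/-! ### `GL(2,3)` -/

abbrev M2 := Matrix (Fin 2) (Fin 2) (ZMod 3)

def mI : M2 := !![0, 2; 1, 0]
def mJ : M2 := !![1, 1; 1, 2]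
def mK : M2 := !![1, 0; 2, 1]
def mT : M2 := !![1, 0; 2, 2]

def quatMat : Q8 → M2
  | .a i => mI ^ i.val
  | .xa i => mJ * mI ^ i.val

def glFun (p : T48) : M2 := quatMat p.1 * mK ^ p.2.1.val * mT ^ p.2.2.val

def invT (p : T48) : T48 :=
  ((gen β0)^[p.2.2.val] ((gen α0)^[(-p.2.1).val] p.1⁻¹), twist p.2.2 (-p.2.1), p.2.2)

theorem glFun_mul : ∀ p q : T48, glFun p * glFun q = glFun (mulT p q) := by
  decide +kernel

theorem mulT_invT : ∀ p : T48, mulT p (invT p) = (1, 0, 0) ∧ mulT (invT p) p = (1, 0, 0) := by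
  decide +kernel

theorem glFun_one : glFun (1, 0, 0) = 1 := by decide +kernel

theorem glFun_injective : ∀ p q : T48, glFun p = glFun q → p = q := by decide +kernel

noncomputable def glUnit (p : T48) : GL (Fin 2) (ZMod 3) :=
  ⟨glFun p, glFun (invT p), by rw [glFun_mul, (mulT_invT p).1, glFun_one],
    by rw [glFun_mul, (mulT_invT p).2, glFun_one]⟩

theorem glUnit_bijective : Function.Bijective glUnit := by
  haveI := Fact.mk Nat.prime_three
  refine (Nat.bijective_iff_injective_and_card _).2
    ⟨fun p q h => glFun_injective p q (congrArg Units.val h), ?_⟩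
  rw [card_T48, Matrix.card_GL_field, Fin.prod_univ_two, ZMod.card]
  rfl

theorem glUnit_mul (p q : T48) : glUnit p * glUnit q = glUnit (mulT p q) := Units.ext (glFun_mul p q)

/-- **Structure theorem**: a self-centralising normal `Q8`. -/
theorem structure_of_quaternion_core {Q : Type*} [Group Q] [Finite Q] (R : Subgroup Q) [R.Normal]
    (hcR : centralizer (R : Set Q) ≤ R) (e : R ≃* Q8) :
    (∃ P : Sylow 2 Q, (P : Subgroup Q).Normal) ∨ Nonempty (Q ≃* GL (Fin 2) (ZMod 3)) ∨
    (Nat.card Q = 48 ∧ Nat.card (center Q) = 2 ∧ Nonempty (Q ⧸ center Q ≃* Equiv.Perm (Fin 4)) ∧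
      ∀ P : Sylow 2 Q, Nonempty ((P : Subgroup Q) ≃* QuaternionGroup 4)) := by
  haveI := Fact.mk Nat.prime_two
  obtain ⟨S34⟩ := Cfsg.Agent.S3742.result
  have h24 : Nat.card (MulAut Q8) = 24 := by
    rw [Nat.card_congr S34.toEquiv, Nat.card_perm, Nat.card_fin]; rfl
  haveI : Finite (MulAut Q8) := Nat.finite_of_card_ne_zero (by omega)
  obtain ⟨hk2, hcr⟩ := card_range e hcR
  have hR8 : Nat.card R = 8 := by
    rw [Nat.card_congr e.toEquiv, Nat.card_eq_fintype_card, QuaternionGroup.card]
  have hRp : IsPGroup 2 R := IsPGroup.of_card (n := 3) hR8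
  have hd : Nat.card Q ∣ 48 := by
    rw [hcr, show 48 = 2 * 24 by rfl, ← h24]
    exact mul_dvd_mul_left _ (Subgroup.card_subgroup_dvd_card _)
  have h8 : 8 ∣ Nat.card Q := hR8 ▸ Subgroup.card_subgroup_dvd_card R
  have hnormal_of_p : IsPGroup 2 Q → ∃ P : Sylow 2 Q, (P : Subgroup Q).Normal := fun hQ => by
    obtain ⟨P⟩ : Nonempty (Sylow 2 Q) := inferInstance
    refine ⟨P, ?_⟩
    rw [(P.3 (hQ.to_subgroup ⊤) le_top).symm]
    infer_instance
  obtain ⟨m, hm⟩ := h8
  have hm6 : m ∣ 6 := Nat.dvd_of_mul_dvd_mul_left (show 0 < 8 by norm_num) (by rw [← hm]; exact hd)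
  have hmcases : m = 1 ∨ m = 2 ∨ m = 3 ∨ m = 6 := by
    have := Nat.le_of_dvd (by norm_num) hm6
    interval_cases m <;> omega
  rcases hmcases with rfl | rfl | rfl | rfl
  · exact Or.inl (hnormal_of_p (IsPGroup.of_card (n := 3) hm))
  · exact Or.inl (hnormal_of_p (IsPGroup.of_card (n := 4) hm))
  · refine Or.inl ⟨Sylow.ofCard R ?_, by rw [Sylow.coe_ofCard]; infer_instance⟩
    rw [hR8, hm, Nat.factorization_mul (by norm_num) (by norm_num), Finsupp.add_apply,
      show (8 : ℕ) = 2 ^ 3 by rfl, Nat.Prime.factorization_pow Nat.prime_two,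
      Nat.Prime.factorization Nat.prime_three]
    simp
  have hcard : Nat.card Q = 48 := by omega
  have hsurj : Function.Surjective (psi e) :=
    MonoidHom.range_eq_top.1 (eq_top_of_card_eq _ (by omega))
  by_cases ht : ∃ t : Q, t ^ 2 = 1 ∧ t ∉ R
  · -- split: `GL(2,3)`
    refine Or.inr (Or.inl ?_)
    obtain ⟨t, ht2, htR⟩ := ht
    have hp : ∀ x, psi e t x = gen (Cfsg.Agent.S3742.code (psi e t)) x := fun x => by
      rw [← Cfsg.Agent.S3742.eq_gen]
    obtain ⟨q, hq, hqt⟩ := relabel _ (Cfsg.Agent.S3742.admissible_code (psi e t)) (fun x => by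
        rw [← hp, ← hp, ← MulAut.mul_apply, ← map_mul, ← pow_two, ht2, map_one, MulAut.one_apply])
      (by
        rintro ⟨y, hy⟩
        apply htR
        have h1 : psi e ((e.symm y : Q)⁻¹ * t) = 1 := by
          refine MulEquiv.ext fun x => ?_
          rw [map_mul, ← Subgroup.coe_inv, MulAut.mul_apply, psi_coe, hp, hy, map_inv, e.apply_symm_apply,
            MulAut.one_apply]
          group
        have h2 := hcR ((psi_eq_one_iff e _).1 h1)
        have h3 := mul_mem (e.symm y).2 h2
        rwa [mul_inv_cancel_left] at h3)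
    have hte : ∀ x, psi (e.trans (mkAut q hq)) t x = gen β0 x := fun x => by
      obtain ⟨w, rfl⟩ := (mkAut q hq).surjective x
      have : psi (e.trans (mkAut q hq)) t (mkAut q hq w) = mkAut q hq (psi e t w) := by
        apply (e.trans (mkAut q hq)).symm.injective
        apply Subtype.ext
        rw [psi_spec, MulEquiv.symm_trans_apply, MulEquiv.symm_trans_apply, MulEquiv.symm_apply_apply,
          MulEquiv.symm_apply_apply, psi_spec]
      rw [this, mkAut_apply, mkAut_apply, hp, hqt]
    obtain ⟨F, hF, hmul⟩ := exists_coords (e.trans (mkAut q hq)) hcR hcard ht2 hte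
    exact ⟨MulEquiv.symm
      { toEquiv := (Equiv.ofBijective glUnit glUnit_bijective).symm.trans (Equiv.ofBijective F hF)
        map_mul' := fun g h => by
          obtain ⟨p, rfl⟩ := glUnit_bijective.surjective g
          obtain ⟨p', rfl⟩ := glUnit_bijective.surjective h
          simp [glUnit_mul, hmul, Equiv.ofBijective_symm_apply_apply] }⟩
  · -- non-split
    push Not at ht
    have hce : center Q = (psi e).ker := by
      ext q
      constructor
      · exact fun hq => (psi_eq_one_iff e q).2 (center_le_centralizer _ hq)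
      · intro hq
        rw [mem_center_iff]
        intro g
        have hg : g * q * g⁻¹ ∈ (psi e).ker := MonoidHom.normal_ker _ |>.conj_mem q hq g
        rcases (ker_psi e hcR q).1 hq with h | h
        · simp [h]
        · rcases (ker_psi e hcR _).1 hg with h1 | h1
          · have : q = 1 := by simpa using h1
            simp [this]
          · rw [← h] at h1
            exact mul_inv_eq_iff_eq_mul.1 h1
    refine Or.inr (Or.inr ⟨hcard, by rw [hce, hk2], ?_, fun P => ?_⟩)
    · exact ⟨((QuotientGroup.quotientMulEquivOfEq hce).trans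
        (QuotientGroup.quotientKerEquivOfSurjective (psi e) hsurj)).trans S34⟩
    · have hP : Nat.card P = 16 := by
        rw [Sylow.card_eq_multiplicity, hcard, show (48 : ℕ) = 2 ^ 4 * 3 by rfl,
          Nat.factorization_mul (by norm_num) (by norm_num), Finsupp.add_apply,
          Nat.Prime.factorization_pow Nat.prime_two, Nat.Prime.factorization Nat.prime_three]
        simp
      have hRP : R ≤ P := by
        obtain ⟨g, hg⟩ := hRp.exists_le_sylow
        obtain ⟨c, rfl⟩ := MulAction.exists_smul_eq Q g P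
        intro r hr
        rw [Sylow.coe_subgroup_smul]
        exact Subgroup.mem_pointwise_smul_iff_inv_smul_mem.2
          (hg (by simpa using ‹R.Normal›.conj_mem r hr c⁻¹))
      have hinv : ∀ x : P, orderOf x = 2 → (x : Q) = (e.symm (a 2) : Q) := by
        intro x hx
        have h2 : (x : Q) ^ 2 = 1 := by
          have h := pow_orderOf_eq_one x
          rw [hx] at h
          exact_mod_cast congrArg Subtype.val h
        have hxR := ht _ h2
        have key : ∀ y : Q8, y ≠ 1 → y ^ 2 = 1 → y = a 2 := by decide +kernel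
        have := key (e ⟨x, hxR⟩) (fun h => by
            have h1 := congrArg Subtype.val (e.map_eq_one_iff.1 h)
            have : x = 1 := Subtype.ext h1
            simp [this] at hx)
          (by rw [← map_pow, show (⟨(x : Q), hxR⟩ : R) ^ 2 = 1 from Subtype.ext h2, map_one])
        exact congrArg Subtype.val ((MulEquiv.eq_symm_apply e).2 this)
      rcases Cfsg.Lib.UniqueSub.isCyclic_or_quaternion P.2 (fun x y hx hy => by
          rw [show y = x from Subtype.ext ((hinv y hy).trans (hinv x hx).symm)]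
          exact mem_zpowers x) with h | ⟨-, n, ⟨f⟩⟩
      · exfalso
        haveI := h
        haveI : IsCyclic R := isCyclic_of_injective (inclusion hRP) (inclusion_injective hRP)
        haveI : IsCyclic Q8 := isCyclic_of_surjective e.toMonoidHom e.surjective
        haveI : IsMulCommutative Q8 := IsCyclic.isMulCommutative
        exact absurd (mul_comm' (a 1 : Q8) (xa 0)) (by decide)
      · have hn := Nat.card_congr f.toEquiv
        haveI : NeZero (2 ^ n) := ⟨pow_ne_zero _ two_ne_zero⟩
        rw [hP, Nat.card_eq_fintype_card, QuaternionGroup.card] at hn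
        have : 2 ^ n = 4 := by omega
        exact this ▸ ⟨f⟩

end Cfsg.Lib.QuatCore
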