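import Cfsg.Agent.InvolCalc.ZStarApps
import Cfsg.Agent.Coprime.SchurZassenhaus

/-!
A nonabelian 2-group whose centralizer in a normal subgroup is that of a central commutator element.
-/

set_option autoImplicit false
set_option linter.style.haveILetI false
set_option linter.unusedSectionVars false

namespace Cfsg.Lib.SharedCentralizer

open Subgroup
open scoped commutatorElement

universe u

variable {G : Type u} [Group G] [Finite G] {N Q : Subgroup G} [N.Normal] {t : G}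

/-- a conjugate of `t` commuting with `t` is equal to `t` -/
theorem eq_of_commute_aux (htZ : t ∈ Q ⊓ centralizer (Q : Set G)) (htQ : t ∈ ⁅Q, Q⁆)
    (hC : N ⊓ centralizer (Q : Set G) = N ⊓ centralizer ({t} : Set G)) {n : G} (hn : n ∈ N)
    (hc : Commute t (n⁻¹ * t * n)) : Commute n t := by
  have key : ∀ {x : G}, x ∈ N → Commute x t → ∀ q ∈ Q, Commute q x := by
    intro x hx hxt q hq
    have h1 : x ∈ N ⊓ centralizer (Q : Set G) := hC.ge ⟨hx, mem_centralizer_singleton_iff.2 hxt.eq⟩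
    exact mem_centralizer_iff.1 h1.2 q hq
  have hqt : ∀ q ∈ Q, Commute q t := fun q hq => mem_centralizer_iff.1 htZ.2 q hq
  -- `Q` centralizes both neighbours of `t`
  have hnb : ∀ m ∈ N, Commute t (m⁻¹ * t * m) → ∀ q ∈ Q, Commute q (m⁻¹ * t * m) := by
    intro m hm hcm q hq
    have h1 : t⁻¹ * (m⁻¹ * t * m) ∈ N := by
      have := mul_mem ((inferInstance : N.Normal).conj_mem _ (inv_mem hm) t⁻¹) hm
      simpa [mul_assoc] using this
    have h2 : Commute (t⁻¹ * (m⁻¹ * t * m)) t := ((Commute.refl t).inv_left).mul_left hcm.symm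
    have h3 := (hqt q hq).mul_right (key h1 h2 q hq)
    rwa [mul_inv_cancel_left] at h3
  have hc' : Commute t ((n⁻¹)⁻¹ * t * n⁻¹) := by
    have h := hc.symm.map (MulAut.conj n).toMonoidHom
    simpa [mul_assoc] using h
  have hu := hnb n hn hc
  have hv := hnb n⁻¹ (inv_mem hn) hc'
  set u := n⁻¹ * t * n with hu_def
  -- the twist
  have he : ∀ q ∈ Q, q⁻¹ * (n⁻¹ * q * n) ∈ N ∧ (∀ r ∈ Q, Commute r (q⁻¹ * (n⁻¹ * q * n))) ∧
      ∀ r ∈ Q, Commute (n⁻¹ * r * n) (q⁻¹ * (n⁻¹ * q * n)) := by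
    intro q hq
    set e := q⁻¹ * (n⁻¹ * q * n) with he_def
    have h1 : e ∈ N := by
      have := mul_mem ((inferInstance : N.Normal).conj_mem _ (inv_mem hn) q⁻¹) hn
      simpa [he_def, mul_assoc] using this
    have h2 : Commute (n⁻¹ * q * n) t := by
      have h := (hv q hq).map (MulAut.conj n⁻¹).toMonoidHom
      simpa [mul_assoc] using h
    have h3 : Commute (n⁻¹ * q * n) u := by
      have h := (hqt q hq).map (MulAut.conj n⁻¹).toMonoidHom
      simpa [hu_def, mul_assoc] using h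
    have het : Commute e t := ((hqt q hq).inv_left).mul_left h2
    have heu : Commute e u := ((hu q hq).inv_left).mul_left h3
    refine ⟨h1, key h1 het, fun r hr => ?_⟩
    have h4 : Commute (n * e * n⁻¹) t := by
      have h := heu.map (MulAut.conj n).toMonoidHom
      simpa [hu_def, mul_assoc] using h
    have h5 := key ((inferInstance : N.Normal).conj_mem e h1 n) h4 r hr
    have h6 := h5.map (MulAut.conj n⁻¹).toMonoidHom
    simpa [mul_assoc] using h6
  suffices h : ⁅Q, Q⁆ ≤ centralizer ({n} : Set G) by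
    exact (mem_centralizer_singleton_iff.1 (h htQ)).symm
  refine commutator_le.2 fun a ha b hb => mem_centralizer_singleton_iff.2 ?_
  obtain ⟨-, hea, hea'⟩ := he a ha
  obtain ⟨-, heb, heb'⟩ := he b hb
  set ea := a⁻¹ * (n⁻¹ * a * n) with hea_def
  set eb := b⁻¹ * (n⁻¹ * b * n) with heb_def
  have hab : Commute ea eb := by
    have h1 : Commute ea b⁻¹ := (hea b hb).symm.inv_right
    exact h1.mul_right (hea' b hb).symm
  have hA : n⁻¹ * a * n = a * ea := by rw [hea_def, mul_inv_cancel_left]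
  have hB : n⁻¹ * b * n = b * eb := by rw [heb_def, mul_inv_cancel_left]
  clear_value ea eb
  have hcomm : n⁻¹ * ⁅a, b⁆ * n = ⁅a, b⁆ := by
    calc n⁻¹ * ⁅a, b⁆ * n = ⁅n⁻¹ * a * n, n⁻¹ * b * n⁆ := by
          rw [commutatorElement_def, commutatorElement_def]; group
      _ = a * ea * (b * eb) * (ea⁻¹ * a⁻¹) * (eb⁻¹ * b⁻¹) := by
          rw [commutatorElement_def, hA, hB, mul_inv_rev, mul_inv_rev]
      _ = a * b * (ea * eb * ea⁻¹) * a⁻¹ * eb⁻¹ * b⁻¹ := by
          rw [show a * ea * (b * eb) = a * (ea * b) * eb by group, (hea b hb).symm.eq]; group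
      _ = a * b * (eb * a⁻¹) * eb⁻¹ * b⁻¹ := by
          rw [hab.eq, mul_inv_cancel_right]; group
      _ = ⁅a, b⁆ := by
          rw [(heb a ha).inv_left.eq.symm, commutatorElement_def]; group
  calc ⁅a, b⁆ * n = n * (n⁻¹ * ⁅a, b⁆ * n) := by group
    _ = n * ⁅a, b⁆ := by rw [hcomm]

theorem conj_eq_of_commute (hG : Q ⊔ N = ⊤) (htZ : t ∈ Q ⊓ centralizer (Q : Set G)) (htQ : t ∈ ⁅Q, Q⁆)
    (hC : N ⊓ centralizer (Q : Set G) = N ⊓ centralizer ({t} : Set G)) {g : G}
    (hc : Commute t (g * t * g⁻¹)) : g * t * g⁻¹ = t := by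
  have hg : g ∈ N ⊔ Q := by rw [sup_comm, hG]; exact mem_top g
  obtain ⟨n, hn, q, hq, rfl⟩ := mem_sup_of_normal_left.1 hg
  have hq' : q * t * q⁻¹ = t := by
    rw [show q * t = t * q from mem_centralizer_iff.1 htZ.2 q hq, mul_inv_cancel_right]
  have e : n * q * t * (n * q)⁻¹ = (n⁻¹)⁻¹ * t * n⁻¹ := by
    rw [inv_inv, show n * q * t * (n * q)⁻¹ = n * (q * t * q⁻¹) * n⁻¹ by group, hq']
  rw [e] at hc ⊢
  have h := eq_of_commute_aux htZ htQ hC (inv_mem hn) hc
  rw [inv_inv]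
  have h' : Commute n t := by simpa using h.inv_left
  rw [h'.eq, mul_inv_cancel_right]

theorem commutator_le_core (hG : Q ⊔ N = ⊤) (hQ : IsPGroup 2 Q) (htZ : t ∈ Q ⊓ centralizer (Q : Set G))
    (htQ : t ∈ ⁅Q, Q⁆) (hC : N ⊓ centralizer (Q : Set G) = N ⊓ centralizer ({t} : Set G)) :
    ⁅N, Q⁆ ≤ Cfsg.pPrimeCore 2 G := by
  haveI : Fact (Nat.Prime 2) := ⟨Nat.prime_two⟩
  obtain ⟨S, hS⟩ := hQ.exists_le_sylow
  have htS : t ∈ (S : Subgroup G) := hS htZ.1
  have hcent : ∀ s ∈ (S : Subgroup G), Commute s t := by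
    by_contra! hne
    obtain ⟨s0, hs0, hs0'⟩ := hne
    haveI : Group.IsNilpotent (S : Subgroup G) := S.isPGroup'.isNilpotent
    set R := (centralizer ({t} : Set G)).subgroupOf (S : Subgroup G)
    have hR : R < ⊤ := lt_top_iff_ne_top.2 fun e =>
      hs0' (mem_centralizer_singleton_iff.1 (mem_subgroupOf.1 (e.ge (mem_top (⟨s0, hs0⟩ : (S : Subgroup G))))))
    obtain ⟨s, hs, hsR⟩ := SetLike.exists_of_lt (normalizerCondition_of_isNilpotent R hR)
    have htR : (⟨t, htS⟩ : (S : Subgroup G)) ∈ R := mem_subgroupOf.2 (mem_centralizer_singleton_iff.2 rfl)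
    have h1 : Commute ((s : G) * t * (s : G)⁻¹) t :=
      mem_centralizer_singleton_iff.1 ((mem_normalizer_iff.1 hs ⟨t, htS⟩).1 htR)
    have h2 := conj_eq_of_commute hG htZ htQ hC h1.symm
    exact hsR (mem_centralizer_singleton_iff.2 (mul_inv_eq_iff_eq_mul.1 h2))
  obtain ⟨k, hk⟩ := IsPGroup.iff_card.1 S.isPGroup'
  have hord : orderOf t ∣ 2 ^ k := by
    rw [← hk, ← Subgroup.orderOf_mk t htS]; exact orderOf_dvd_natCard _
  have hz := Cfsg.Lib.ZStarApps.central_of_isolated2 k t hord ⟨S, htS, fun g hg =>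
    conj_eq_of_commute hG htZ htQ hC (hcent _ hg).symm⟩
  set O := Cfsg.pPrimeCore 2 G
  have hO : (Nat.card O).Coprime (Nat.card (zpowers t)) := by
    rw [Nat.card_zpowers]
    exact ((Cfsg.Lib.Components.coprime_card_pPrimeCore (G := G) 2).pow_right k).coprime_dvd_right hord
  refine commutator_le.2 fun n hn q hq => ?_
  -- write `n` as a product of a core element and a centralizing one
  have hmem : n * t * n⁻¹ ∈ O ⊔ zpowers t := by
    rw [show n * t * n⁻¹ = n * t * n⁻¹ * t⁻¹ * t by group]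
    exact mul_mem_sup (hz n) (mem_zpowers t)
  obtain ⟨x, hx, hxe⟩ := Cfsg.Lib.Coprime.exists_conj_eq_of_coprime (N := O) (H := zpowers t)
    (K := zpowers (n * t * n⁻¹)) le_normalizer_of_normal hO (Or.inr inferInstance) (zpowers_le.2 hmem)
    (by rw [Nat.card_zpowers, Nat.card_zpowers]
        exact orderOf_injective (MulAut.conj n).toMonoidHom (MulAut.conj n).injective t)
  have hx2 : x⁻¹ * (n * t * n⁻¹) * x ∈ zpowers t :=
    Cfsg.Lib.Coprime.mem_conjMap.1 (hxe ▸ mem_zpowers (n * t * n⁻¹))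
  have h3 : (x⁻¹ * n) * t * (x⁻¹ * n)⁻¹ = t := by
    refine conj_eq_of_commute hG htZ htQ hC ?_
    rw [show (x⁻¹ * n) * t * (x⁻¹ * n)⁻¹ = x⁻¹ * (n * t * n⁻¹) * x by group]
    obtain ⟨i, hi⟩ := hx2
    exact hi ▸ Commute.self_zpow t i
  set m := x⁻¹ * n with hm_def
  -- the centralizing factor lies in `N` modulo the core
  obtain ⟨a, ha, b, hb, hab⟩ := mem_sup_of_normal_left.1 (show m ∈ N ⊔ Q by rw [sup_comm, hG]; exact mem_top m)
  have hqt : ∀ r ∈ Q, r * t * r⁻¹ = t := fun r hr => by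
    rw [show r * t = t * r from mem_centralizer_iff.1 htZ.2 r hr, mul_inv_cancel_right]
  have hat : a * t * a⁻¹ = t := by
    conv_rhs => rw [← h3, ← hab, show a * b * t * (a * b)⁻¹ = a * (b * t * b⁻¹) * a⁻¹ by group, hqt b hb]
  have haQ : a ∈ centralizer (Q : Set G) :=
    (hC.ge ⟨ha, mem_centralizer_singleton_iff.2 (mul_inv_eq_iff_eq_mul.1 hat)⟩).2
  -- `Q` commutes with `a`, and `b` is a `2`-element in `N O`
  have hqa : q * a = a * q := mem_centralizer_iff.1 haQ q hq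
  have h1 : ⁅n, q⁆ = x * (a * b) * q * (a * b)⁻¹ * x⁻¹ * q⁻¹ := by
    rw [hab, hm_def, mul_inv_cancel_left, commutatorElement_def]; group
  -- commutators lie in `N`
  have hN' : ⁅n, q⁆ ∈ N := by
    have := mul_mem hn ((inferInstance : N.Normal).conj_mem _ (inv_mem hn) q)
    simpa [commutatorElement_def, mul_assoc] using this
  let π := QuotientGroup.mk' O
  have hπx : π x = 1 := (QuotientGroup.eq_one_iff x).2 hx
  have hπ : π ⁅n, q⁆ = π (b * q * b⁻¹ * q⁻¹) := by
    rw [h1]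
    simp only [map_mul, map_inv, hπx, one_mul, mul_inv_rev, inv_one, mul_one]
    have : π q * π a = π a * π q := by rw [← map_mul, hqa, map_mul]
    have h' : π (b * q * b⁻¹) * π a = π a * π (b * q * b⁻¹) := by
      have hbq : b * q * b⁻¹ ∈ Q := mul_mem (mul_mem hb hq) (inv_mem hb)
      rw [← map_mul, mem_centralizer_iff.1 haQ _ hbq, map_mul]
    simp only [map_mul, map_inv] at h'
    calc π a * π b * π q * ((π b)⁻¹ * (π a)⁻¹) * (π q)⁻¹
        = π a * (π b * π q * (π b)⁻¹) * (π a)⁻¹ * (π q)⁻¹ := by group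
      _ = π b * π q * (π b)⁻¹ * (π q)⁻¹ := by rw [← h', mul_inv_cancel_right]
  -- a `2`-element of `N` modulo the core lies in the core
  have hy : (b * q * b⁻¹ * q⁻¹)⁻¹ * ⁅n, q⁆ ∈ O := (QuotientGroup.eq).1 hπ.symm
  set y := b * q * b⁻¹ * q⁻¹
  have hyQ : y ∈ Q := mul_mem (mul_mem (mul_mem hb hq) (inv_mem hb)) (inv_mem hq)
  by_cases hb' : y = 1
  · rwa [hb', inv_one, one_mul] at hy
  exfalso
  obtain ⟨j, hj⟩ := IsPGroup.iff_orderOf.1 hQ ⟨y, hyQ⟩
  rw [Subgroup.orderOf_mk] at hj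
  -- the image of `y` lies in the image of `N`, hence `b` lies in `N O`
  have hbN : b ∈ N ⊔ O := by
    have : b = a⁻¹ * (x⁻¹ * n) := by rw [← hm_def, ← hab]; group
    rw [this]
    exact mul_mem (mem_sup_left (inv_mem ha)) (mul_mem (mem_sup_right (inv_mem hx)) (mem_sup_left hn))
  have hbN' : b ∈ N := by
    obtain ⟨n₁, hn₁, o, ho, hbe⟩ := mem_sup_of_normal_left.1 hbN
    obtain ⟨i, hi⟩ := IsPGroup.iff_orderOf.1 hQ ⟨b, hb⟩
    rw [Subgroup.orderOf_mk] at hi
    let ρ := QuotientGroup.mk' N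
    have h4 : ρ b = ρ o := by rw [← hbe, map_mul, show ρ n₁ = 1 from (QuotientGroup.eq_one_iff n₁).2 hn₁, one_mul]
    refine (QuotientGroup.eq_one_iff b).1 (orderOf_eq_one_iff.1 (Nat.eq_one_of_dvd_coprimes
      ((Cfsg.Lib.Components.coprime_card_pPrimeCore (G := G) 2).pow_right i) ?_ ?_))
    · show orderOf (ρ b) ∣ _
      rw [h4]
      refine (orderOf_map_dvd ρ o).trans ?_
      rw [← Subgroup.orderOf_mk o ho]
      exact orderOf_dvd_natCard _
    · exact (orderOf_map_dvd ρ b).trans hi.dvd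
  have hbt : Commute b t := mem_centralizer_iff.1 htZ.2 b hb
  have hbQ : b ∈ centralizer (Q : Set G) := (hC.ge ⟨hbN', mem_centralizer_singleton_iff.2 hbt.eq⟩).2
  exact hb' (by rw [show y = b * q * b⁻¹ * q⁻¹ from rfl, ← mem_centralizer_iff.1 hbQ q hq]; group)

theorem odd_commutator (hG : Q ⊔ N = ⊤) (hQ : IsPGroup 2 Q) (htZ : t ∈ Q ⊓ centralizer (Q : Set G))
    (htQ : t ∈ ⁅Q, Q⁆) (hC : N ⊓ centralizer (Q : Set G) = N ⊓ centralizer ({t} : Set G)) :
    Odd (Nat.card ↥⁅N, Q⁆) := by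
  haveI : Fact (Nat.Prime 2) := ⟨Nat.prime_two⟩
  refine Odd.of_dvd_nat ?_ (card_dvd_of_le (commutator_le_core hG hQ htZ htQ hC))
  exact Nat.coprime_two_right.1 (Cfsg.Lib.Components.coprime_card_pPrimeCore (G := G) 2)

end Cfsg.Lib.SharedCentralizer
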