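/-
An involution whose centraliser is two commuting copies of `SL₂(q)` (q odd) swapped by an element of order four is
central modulo the odd core.
-/
import Cfsg.Agent.Classical.SL
import Cfsg.Agent.S1185
import Cfsg.Agent.TwoFusion.TransferApps
import Cfsg.Agent.InvolCalc.ZStarApps
import Cfsg.Prelude.Def_CaseTheorems

set_option autoImplicit false
set_option linter.unusedSectionVars false

namespace Cfsg.Lib.SwapSLPair

open Subgroup Matrix
open scoped MatrixGroups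

/-- The properties of `SL₂(q)`, `q` odd, that the proof uses; `j` is its involution. -/
structure Facts (L : Type*) [Group L] (j : L) : Prop where
  sq_j : j * j = 1
  ne_one : j ≠ 1
  uniq : ∀ x : L, x * x = 1 → x = 1 ∨ x = j
  exists_sq : ∃ a : L, a * a = j
  conj : ∀ a b : L, a * a = j → b * b = j → ∃ g : L, g * a * g⁻¹ = b
  cen : ∀ a x y : L, a * a = j → a * x = x * a → a * y = y * a → x * y = y * x
  inverter : ∀ a : L, a * a = j → ∃ u : L, u * u = j ∧ u * a * u⁻¹ = a⁻¹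
  gen : closure {x : L | Odd (orderOf x)} = ⊤

theorem Facts.map {L M : Type*} [Group L] [Group M] {j : L} (h : Facts L j) (e : L ≃* M) :
    Facts M (e j) where
  sq_j := by rw [← map_mul, h.sq_j, map_one]
  ne_one := fun h' => h.ne_one (e.injective (by rw [h', map_one]))
  uniq := fun x hx => by
    rcases h.uniq (e.symm x) (by rw [← map_mul, hx, map_one]) with h' | h'
    · exact Or.inl (by rw [← e.apply_symm_apply x, h', map_one])
    · exact Or.inr (by rw [← e.apply_symm_apply x, h'])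
  exists_sq := by obtain ⟨a, ha⟩ := h.exists_sq; exact ⟨e a, by rw [← map_mul, ha]⟩
  conj := fun a b ha hb => by
    obtain ⟨g, hg⟩ := h.conj (e.symm a) (e.symm b) (e.injective (by simp [ha])) (e.injective (by simp [hb]))
    exact ⟨e g, by simpa using congrArg e hg⟩
  cen := fun a x y ha hx hy => by
    have := h.cen (e.symm a) (e.symm x) (e.symm y) (e.injective (by simp [ha])) (e.injective (by simp [hx]))
      (e.injective (by simp [hy]))
    simpa using congrArg e this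
  inverter := fun a ha => by
    obtain ⟨u, hu, hua⟩ := h.inverter (e.symm a) (e.injective (by simp [ha]))
    exact ⟨e u, by rw [← map_mul, hu], by simpa using congrArg e hua⟩
  gen := by
    rw [eq_top_iff]
    intro y _
    have h1 : e.symm y ∈ closure {x : L | Odd (orderOf x)} := by rw [h.gen]; exact mem_top _
    have h2 := Subgroup.mem_map_of_mem e.toMonoidHom h1
    rw [MonoidHom.map_closure] at h2
    refine (Subgroup.closure_mono ?_) (by simpa using h2)
    rintro _ ⟨x, hx, rfl⟩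
    simpa using hx

section SL

variable {F : Type*} [Field F] [Fintype F]

theorem two_ne_zero_of_odd (hF : Odd (Fintype.card F)) : (2 : F) ≠ 0 := by
  apply Ring.two_ne_zero
  intro h
  have := FiniteField.even_card_iff_char_two.1 h
  exact Nat.not_even_iff_odd.2 hF (Nat.even_iff.2 this)

/-- Every element of a finite field of odd order is a sum of two squares. -/
theorem exists_sq_add_sq (hF : Odd (Fintype.card F)) (c : F) : ∃ a b : F, a * a + b * b = c := by
  obtain ⟨a, b, h⟩ := FiniteField.exists_root_sum_quadratic (R := F) (f := Polynomial.X ^ 2)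
    (g := Polynomial.X ^ 2 - Polynomial.C c) (Polynomial.degree_X_pow 2) (Polynomial.degree_X_pow_sub_C two_pos c)
    (Nat.odd_iff.1 hF)
  simp only [Polynomial.eval_pow, Polynomial.eval_X, Polynomial.eval_sub, Polynomial.eval_C] at h
  exact ⟨a, b, by linear_combination h⟩

theorem val_mul (A B : SL(2, F)) : (A * B).1 = A.1 * B.1 := rfl

theorem val_neg (A : SL(2, F)) : (-A).1 = -A.1 := rfl

theorem val_one : (1 : SL(2, F)).1 = 1 := rfl

/-- The standard element of order four. -/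
def w : SL(2, F) := ⟨!![0, -1; 1, 0], by simp [Matrix.det_fin_two]⟩

theorem w_val : (w : SL(2, F)).1 = !![0, -1; 1, 0] := rfl

theorem ext_entries {x y : SL(2, F)} (h00 : x.1 0 0 = y.1 0 0) (h01 : x.1 0 1 = y.1 0 1)
    (h10 : x.1 1 0 = y.1 1 0) (h11 : x.1 1 1 = y.1 1 1) : x = y := by
  apply Subtype.ext
  ext r s
  fin_cases r <;> fin_cases s <;> assumption

theorem w_sq : (w : SL(2, F)) * w = -1 := by
  refine ext_entries ?_ ?_ ?_ ?_ <;> simp [w_val, val_mul, val_neg, val_one, Matrix.mul_apply, Fin.sum_univ_two]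

/-- Elements with square `-1` are conjugate to `w`. -/
theorem conj_w (hF : Odd (Fintype.card F)) (A : SL(2, F)) (hA : A * A = -1) :
    ∃ g : SL(2, F), g * w * g⁻¹ = A := by
  have h2 := two_ne_zero_of_odd hF
  have hdet := A.2
  rw [Matrix.det_fin_two] at hdet
  have e00 : A.1 0 0 * A.1 0 0 + A.1 0 1 * A.1 1 0 = -1 := by
    have := congrArg (fun M : SL(2, F) => M.1 0 0) hA
    simpa [val_mul, val_neg, val_one, Matrix.mul_apply, Fin.sum_univ_two] using this
  have e11 : A.1 1 0 * A.1 0 1 + A.1 1 1 * A.1 1 1 = -1 := by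
    have := congrArg (fun M : SL(2, F) => M.1 1 1) hA
    simpa [val_mul, val_neg, val_one, Matrix.mul_apply, Fin.sum_univ_two] using this
  have htr : A.1 1 1 = -A.1 0 0 := by
    have h1 : (A.1 0 0 + A.1 1 1) * (A.1 0 0 + A.1 1 1) = 0 := by linear_combination e00 + e11 + 2 * hdet
    linear_combination mul_self_eq_zero.1 h1
  -- a vector `(x, y)` with non-zero determinant against its image
  obtain ⟨x₀, y₀, hD⟩ : ∃ x y : F, x * (A.1 1 0 * x + A.1 1 1 * y) - y * (A.1 0 0 * x + A.1 0 1 * y) ≠ 0 := by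
    by_contra hcon
    push Not at hcon
    have hc : A.1 1 0 = 0 := by simpa using hcon 1 0
    have hb : A.1 0 1 = 0 := by simpa using hcon 0 1
    have h11 := hcon 1 1
    rw [hc, hb, htr] at h11
    have hz : (2 : F) * A.1 0 0 = 0 := by linear_combination -h11
    have ha : A.1 0 0 = 0 := (mul_eq_zero.1 hz).resolve_left h2
    rw [ha, hb] at e00
    norm_num at e00
  set D := x₀ * (A.1 1 0 * x₀ + A.1 1 1 * y₀) - y₀ * (A.1 0 0 * x₀ + A.1 0 1 * y₀) with hDdef
  obtain ⟨α, β, hαβ⟩ := exists_sq_add_sq hF D⁻¹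
  set x := α * x₀ + β * (A.1 0 0 * x₀ + A.1 0 1 * y₀) with hx
  set y := α * y₀ + β * (A.1 1 0 * x₀ + A.1 1 1 * y₀) with hy
  have hd1 : x * (A.1 1 0 * x + A.1 1 1 * y) - y * (A.1 0 0 * x + A.1 0 1 * y) = 1 := by
    have key : x * (A.1 1 0 * x + A.1 1 1 * y) - y * (A.1 0 0 * x + A.1 0 1 * y) = (α * α + β * β) * D := by
      rw [hx, hy, hDdef, htr]
      rw [htr] at hdet
      linear_combination (β * β * (x₀ * (A.1 1 0 * x₀ + -A.1 0 0 * y₀) - y₀ * (A.1 0 0 * x₀ + A.1 0 1 * y₀))) * hdet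
    rw [key, hαβ, inv_mul_cancel₀ hD]
  let g : SL(2, F) := ⟨!![x, A.1 0 0 * x + A.1 0 1 * y; y, A.1 1 0 * x + A.1 1 1 * y], by
    rw [Matrix.det_fin_two_of]; linear_combination hd1⟩
  have hg : g.1 = !![x, A.1 0 0 * x + A.1 0 1 * y; y, A.1 1 0 * x + A.1 1 1 * y] := rfl
  clear_value g
  refine ⟨g, mul_inv_eq_iff_eq_mul.2 ?_⟩
  rw [htr] at hdet
  refine ext_entries ?_ ?_ ?_ ?_ <;>
    simp [hg, w_val, val_mul, val_neg, val_one, Matrix.mul_apply, Fin.sum_univ_two, htr] <;>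
    first
      | (linear_combination (-x) * hdet)
      | (linear_combination (-y) * hdet)
      | (linear_combination x * hdet)
      | (linear_combination y * hdet)
      | ring1

theorem commute_w_iff {M : SL(2, F)} (h : w * M = M * w) : M.1 1 1 = M.1 0 0 ∧ M.1 0 1 = -M.1 1 0 := by
  have e00 := congrArg (fun N : SL(2, F) => N.1 0 0) h
  have e01 := congrArg (fun N : SL(2, F) => N.1 0 1) h
  simp [w_val, val_mul, val_neg, val_one, Matrix.mul_apply, Fin.sum_univ_two] at e00 e01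
  constructor
  · linear_combination e01
  · linear_combination -e00

theorem facts_sl (hF : Odd (Fintype.card F)) : Facts SL(2, F) (-1) := by
  have h2 := two_ne_zero_of_odd hF
  have hsq : (-1 : SL(2, F)) * -1 = 1 := by
    refine ext_entries ?_ ?_ ?_ ?_ <;> simp [val_mul, val_neg, val_one, Matrix.mul_apply, Fin.sum_univ_two]
  have hne : (-1 : SL(2, F)) ≠ 1 := fun h => h2 (by
    have := congrArg (fun N : SL(2, F) => N.1 0 0) h
    simp at this
    linear_combination -this)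
  refine ⟨hsq, hne, fun A hA => ?_, ⟨w, w_sq⟩, fun a b ha hb => ?_, fun a x y ha hx hy => ?_, fun a ha => ?_, ?_⟩
  · have hdet := A.2
    rw [Matrix.det_fin_two] at hdet
    have e00 := congrArg (fun N : SL(2, F) => N.1 0 0) hA
    have e01 := congrArg (fun N : SL(2, F) => N.1 0 1) hA
    have e10 := congrArg (fun N : SL(2, F) => N.1 1 0) hA
    have e11 := congrArg (fun N : SL(2, F) => N.1 1 1) hA
    simp [val_mul, val_neg, val_one, Matrix.mul_apply, Fin.sum_univ_two] at e00 e01 e10 e11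
    -- the trace is `±2`
    have htr : (A.1 0 0 + A.1 1 1) * (A.1 0 0 + A.1 1 1) = 4 := by linear_combination e00 + e11 + 2 * hdet
    have hne0 : A.1 0 0 + A.1 1 1 ≠ 0 := fun h => by
      rw [h, mul_zero] at htr
      exact mul_ne_zero h2 h2 (by linear_combination -htr)
    have hb : A.1 0 1 = 0 :=
      (mul_eq_zero.1 (show A.1 0 1 * (A.1 0 0 + A.1 1 1) = 0 by linear_combination e01)).resolve_right hne0
    have hc : A.1 1 0 = 0 :=
      (mul_eq_zero.1 (show A.1 1 0 * (A.1 0 0 + A.1 1 1) = 0 by linear_combination e10)).resolve_right hne0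
    rw [hb, hc] at hdet e00
    have hd : A.1 1 1 = A.1 0 0 := by linear_combination A.1 0 0 * hdet - A.1 1 1 * e00
    have hor : A.1 0 0 = 1 ∨ A.1 0 0 = -1 := mul_self_eq_one_iff.1 (by linear_combination e00)
    rcases hor with h | h
    · left; refine ext_entries ?_ ?_ ?_ ?_ <;> simp [h, hb, hc, hd]
    · right; refine ext_entries ?_ ?_ ?_ ?_ <;> simp [h, hb, hc, hd]
  · obtain ⟨g, rfl⟩ := conj_w hF a ha
    obtain ⟨g', rfl⟩ := conj_w hF b hb
    exact ⟨g' * g⁻¹, by group⟩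
  · obtain ⟨g, rfl⟩ := conj_w hF a ha
    have cx : w * (g⁻¹ * x * g) = (g⁻¹ * x * g) * w := by
      calc w * (g⁻¹ * x * g) = g⁻¹ * ((g * w * g⁻¹) * x) * g := by group
        _ = (g⁻¹ * x * g) * w := by rw [hx]; group
    have cy : w * (g⁻¹ * y * g) = (g⁻¹ * y * g) * w := by
      calc w * (g⁻¹ * y * g) = g⁻¹ * ((g * w * g⁻¹) * y) * g := by group
        _ = (g⁻¹ * y * g) * w := by rw [hy]; group
    obtain ⟨h1, h1'⟩ := commute_w_iff cx
    obtain ⟨h3, h3'⟩ := commute_w_iff cy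
    have key : (g⁻¹ * x * g) * (g⁻¹ * y * g) = (g⁻¹ * y * g) * (g⁻¹ * x * g) := by
      generalize g⁻¹ * x * g = M at h1 h1'
      generalize g⁻¹ * y * g = N at h3 h3'
      refine ext_entries ?_ ?_ ?_ ?_ <;> simp [val_mul, val_neg, val_one, Matrix.mul_apply, Fin.sum_univ_two, h1, h1', h3, h3'] <;> ring
    calc x * y = g * ((g⁻¹ * x * g) * (g⁻¹ * y * g)) * g⁻¹ := by group
      _ = y * x := by rw [key]; group
  · obtain ⟨g, rfl⟩ := conj_w hF a ha
    obtain ⟨α, β, hαβ⟩ := exists_sq_add_sq hF (-1 : F)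
    let u : SL(2, F) := ⟨!![α, β; β, -α], by rw [Matrix.det_fin_two_of]; linear_combination -hαβ⟩
    have hu0 : u.1 = !![α, β; β, -α] := rfl
    clear_value u
    have hu : u * u = -1 := by
      refine ext_entries ?_ ?_ ?_ ?_ <;> simp [hu0, val_mul, val_neg, val_one, Matrix.mul_apply, Fin.sum_univ_two] <;>
        first | (linear_combination hαβ) | ring1
    have huw : u * w * u⁻¹ = w⁻¹ := by
      rw [mul_inv_eq_iff_eq_mul, eq_inv_mul_iff_mul_eq]
      refine ext_entries ?_ ?_ ?_ ?_ <;> simp [hu0, w_val, val_mul, val_neg, val_one, Matrix.mul_apply, Fin.sum_univ_two]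
    refine ⟨g * u * g⁻¹, ?_, ?_⟩
    · calc (g * u * g⁻¹) * (g * u * g⁻¹) = g * (u * u) * g⁻¹ := by group
        _ = -1 := by
          rw [hu]
          refine mul_inv_eq_iff_eq_mul.2 ?_
          simp
    · calc g * u * g⁻¹ * (g * w * g⁻¹) * (g * u * g⁻¹)⁻¹ = g * (u * w * u⁻¹) * g⁻¹ := by group
        _ = (g * w * g⁻¹)⁻¹ := by rw [huw]; group
  · refine Cfsg.Lib.Classical.eq_top_of_transvection_mem _ fun i j hij c => Subgroup.subset_closure ?_
    obtain ⟨p, hp⟩ := CharP.exists F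
    obtain ⟨n, hpp, hcard⟩ := FiniteField.card F p
    have hpodd : Odd p := by
      rcases hpp.eq_two_or_odd' with h | h
      · exfalso
        subst h
        rw [hcard] at hF
        exact Nat.not_odd_iff_even.2 ((Nat.even_pow).2 ⟨even_two, n.ne_zero⟩) hF
      · exact h
    refine hpodd.of_dvd_nat (orderOf_dvd_of_pow_eq_one ?_)
    have key : ∀ m : ℕ, ((SpecialLinearGroup.transvection hij c) ^ m : SL(2, F)) =
        SpecialLinearGroup.transvection hij ((m : F) * c) := by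
      intro m
      induction m with
      | zero =>
        apply Subtype.ext
        simp [SpecialLinearGroup.transvection_coe]
      | succ m ih =>
        rw [pow_succ, ih]
        apply Subtype.ext
        show Matrix.transvection i j ((m : F) * c) * Matrix.transvection i j c = Matrix.transvection i j (((m + 1 : ℕ) : F) * c)
        rw [Matrix.transvection_mul_transvection_same i j hij]
        push_cast
        rw [add_mul, one_mul]
    rw [key, CharP.cast_eq_zero F p, zero_mul]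
    apply Subtype.ext
    simp [SpecialLinearGroup.transvection_coe]

end SL

/-! ### The group-theoretic argument -/

variable {G : Type*} [Group G] [Finite G]

/-- The hypotheses, with the facts about both factors, written inside `G`. -/
structure Setup (L₁ L₂ : Subgroup G) (j n : G) : Prop where
  f1 : ∃ h : j ∈ L₁, Facts L₁ ⟨j, h⟩
  f2 : ∃ h : j ∈ L₂, Facts L₂ ⟨j, h⟩
  comm : ∀ x ∈ L₁, ∀ y ∈ L₂, x * y = y * x
  inf : ∀ x ∈ L₁, x ∈ L₂ → x = 1 ∨ x = j
  index : (L₁ ⊔ L₂).relIndex (centralizer ({j} : Set G)) = 2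
  le : L₁ ⊔ L₂ ≤ centralizer ({j} : Set G)
  n_sq : n * n = j
  n_L₁ : ∀ x ∈ L₁, n * x * n⁻¹ ∈ L₂
  n_L₂ : ∀ y ∈ L₂, n * y * n⁻¹ ∈ L₁

namespace Setup

variable {L₁ L₂ : Subgroup G} {j n : G} (h : Setup L₁ L₂ j n)

include h

theorem j_sq : j * j = 1 := by
  obtain ⟨hj, hf⟩ := h.f1
  exact congrArg Subtype.val hf.sq_j

theorem j_ne : j ≠ 1 := by
  obtain ⟨hj, hf⟩ := h.f1
  exact fun e => hf.ne_one (Subtype.ext e)

theorem j_mem₁ : j ∈ L₁ := h.f1.1
theorem j_mem₂ : j ∈ L₂ := h.f2.1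

theorem uniq₁ {x : G} (hx : x ∈ L₁) (hx2 : x * x = 1) : x = 1 ∨ x = j := by
  obtain ⟨hj, hf⟩ := h.f1
  rcases hf.uniq ⟨x, hx⟩ (Subtype.ext hx2) with e | e
  · exact Or.inl (congrArg Subtype.val e)
  · exact Or.inr (congrArg Subtype.val e)

theorem uniq₂ {x : G} (hx : x ∈ L₂) (hx2 : x * x = 1) : x = 1 ∨ x = j := by
  obtain ⟨hj, hf⟩ := h.f2
  rcases hf.uniq ⟨x, hx⟩ (Subtype.ext hx2) with e | e
  · exact Or.inl (congrArg Subtype.val e)
  · exact Or.inr (congrArg Subtype.val e)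

theorem dec {v : G} (hv : v ∈ L₁ ⊔ L₂) : ∃ x ∈ L₁, ∃ y ∈ L₂, x * y = v := by
  rw [← SetLike.mem_coe, Subgroup.coe_mul_of_left_le_normalizer_right L₁ L₂ (fun x hx => by
    refine Subgroup.mem_normalizer_iff.2 fun y => ⟨fun hy => ?_, fun hy => ?_⟩
    · rwa [h.comm x hx y hy, mul_inv_cancel_right]
    · have e := h.comm x hx _ hy
      rw [inv_mul_cancel_right] at e
      have e' : x * y * x⁻¹ = y := mul_left_cancel e
      rwa [e'] at hy)] at hv
  obtain ⟨x, hx, y, hy, e⟩ := Set.mem_mul.1 hv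
  exact ⟨x, hx, y, hy, e⟩

theorem mem₁ {x : G} (hx : x ∈ L₁) : x ∈ L₁ ⊔ L₂ := mem_sup_left hx
theorem mem₂ {x : G} (hx : x ∈ L₂) : x ∈ L₁ ⊔ L₂ := mem_sup_right hx

theorem j_comm {v : G} (hv : v ∈ centralizer ({j} : Set G)) : v * j = j * v :=
  Subgroup.mem_centralizer_singleton_iff.1 hv

theorem n_mem : n ∈ centralizer ({j} : Set G) :=
  Subgroup.mem_centralizer_singleton_iff.2 (by rw [← h.n_sq, mul_assoc])

theorem n_inv₁ {y : G} (hy : y ∈ L₂) : n⁻¹ * y * n ∈ L₁ := by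
  have e1 : n * j = n⁻¹ := (inv_eq_of_mul_eq_one_right (by rw [← mul_assoc, h.n_sq, h.j_sq])).symm
  have e2 : j * n⁻¹ = n := by rw [← h.n_sq, mul_inv_cancel_right]
  have e : n⁻¹ * y * n = n * (j * y * j) * n⁻¹ := by
    rw [show n * (j * y * j) * n⁻¹ = (n * j) * y * (j * n⁻¹) by group, e1, e2]
  rw [e]
  exact h.n_L₂ _ (mul_mem (mul_mem h.j_mem₂ hy) h.j_mem₂)

theorem n_inv₂ {x : G} (hx : x ∈ L₁) : n⁻¹ * x * n ∈ L₂ := by
  have e1 : n * j = n⁻¹ := (inv_eq_of_mul_eq_one_right (by rw [← mul_assoc, h.n_sq, h.j_sq])).symm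
  have e2 : j * n⁻¹ = n := by rw [← h.n_sq, mul_inv_cancel_right]
  have e : n⁻¹ * x * n = n * (j * x * j) * n⁻¹ := by
    rw [show n * (j * x * j) * n⁻¹ = (n * j) * x * (j * n⁻¹) by group, e1, e2]
  rw [e]
  exact h.n_L₁ _ (mul_mem (mul_mem h.j_mem₁ hx) h.j_mem₁)

theorem n_not_mem : n ∉ L₁ ⊔ L₂ := by
  intro hn
  obtain ⟨x, hx, y, hy, e⟩ := h.dec hn
  obtain ⟨hj, hf⟩ := h.f1
  obtain ⟨a, ha⟩ := hf.exists_sq
  have haG : (a : G) * a = j := congrArg Subtype.val ha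
  have h1 : n * (a : G) * n⁻¹ ∈ L₁ := by
    rw [← e, show x * y * (a : G) * (x * y)⁻¹ = x * (y * (a : G) * y⁻¹) * x⁻¹ by group,
      ← h.comm a a.2 y hy, mul_inv_cancel_right]
    exact mul_mem (mul_mem hx a.2) (inv_mem hx)
  rcases h.inf _ h1 (h.n_L₁ a a.2) with h2 | h2
  · have ha1 : (a : G) = 1 := by
      have := congrArg (fun t => n⁻¹ * t * n) h2
      simpa [mul_assoc] using this
    rw [ha1, mul_one] at haG
    exact h.j_ne haG.symm
  · have ha1 : (a : G) = j := by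
      have h3 := congrArg (fun t => n⁻¹ * t * n) h2
      simp only [mul_assoc, inv_mul_cancel_left, inv_mul_cancel, mul_one] at h3
      rw [← h.j_comm h.n_mem, inv_mul_cancel_left] at h3
      exact h3
    rw [ha1, h.j_sq] at haG
    exact h.j_ne haG.symm

theorem coset {c : G} (hc : c ∈ centralizer ({j} : Set G)) (hcL : c ∉ L₁ ⊔ L₂) : n⁻¹ * c ∈ L₁ ⊔ L₂ := by
  have hidx : ((L₁ ⊔ L₂).subgroupOf (centralizer ({j} : Set G))).index = 2 := h.index
  have := (Subgroup.mul_mem_iff_of_index_two hidx (a := (⟨n, h.n_mem⟩ : centralizer ({j} : Set G))⁻¹) (b := ⟨c, hc⟩)).2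
    (iff_of_false (fun hh => h.n_not_mem (mem_subgroupOf.1 (inv_mem_iff.1 hh))) (fun hh => hcL (mem_subgroupOf.1 hh)))
  exact mem_subgroupOf.1 this

/-- Outside `L₁L₂` the centraliser of `j` has no involution. -/
theorem no_outer_involution {v : G} (hv : v ∈ centralizer ({j} : Set G)) (hv2 : v * v = 1) : v ∈ L₁ ⊔ L₂ := by
  by_contra hvL
  obtain ⟨x, hx, y, hy, e⟩ := h.dec (h.coset hv hvL)
  have hv' : v = n * (x * y) := by rw [e, mul_inv_cancel_left]
  set p := (n * y * n⁻¹) * (j * x) with hp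
  set q := (n * x * n⁻¹) * y with hq
  have hp1 : p ∈ L₁ := mul_mem (h.n_L₂ y hy) (mul_mem h.j_mem₁ hx)
  have hq2 : q ∈ L₂ := mul_mem (h.n_L₁ x hx) hy
  have hjn : j * n = n * j := (h.j_comm h.n_mem).symm
  have hpq : p * q = 1 := by
    have e1 : v * v = (n * x * n⁻¹) * (n * y * n⁻¹) * ((n * n) * x * y) := by rw [hv']; group
    rw [hv2, h.n_sq, ← h.comm _ (h.n_L₂ y hy) _ (h.n_L₁ x hx)] at e1
    have e2 : (n * x * n⁻¹) * (j * x) = (j * x) * (n * x * n⁻¹) :=
      (h.comm _ (mul_mem h.j_mem₁ hx) _ (h.n_L₁ x hx)).symm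
    rw [hp, hq, e1]
    calc (n * y * n⁻¹) * (j * x) * ((n * x * n⁻¹) * y) = (n * y * n⁻¹) * ((j * x) * (n * x * n⁻¹)) * y := by group
      _ = _ := by rw [← e2]; group
  have hpq' : p = q⁻¹ := eq_inv_of_mul_eq_one_left hpq
  have hp2 : p ∈ L₂ := hpq' ▸ inv_mem hq2
  -- conjugating by `n` exchanges `p` and `q` up to `j`
  have hnq : n * q * n⁻¹ = (j * x) * j * (n * y * n⁻¹) := by
    rw [hq, show n * ((n * x * n⁻¹) * y) * n⁻¹ = (n * n) * x * (n * n)⁻¹ * (n * y * n⁻¹) by group, h.n_sq,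
      inv_eq_of_mul_eq_one_right h.j_sq]
  rcases h.inf p hp1 hp2 with h1 | h1
  · have hq1 : q = 1 := by rw [h1, one_mul] at hpq; exact hpq
    rw [hq1, mul_one, mul_inv_cancel] at hnq
    have hxj : x * j = j * x := h.j_comm (h.le (h.mem₁ hx))
    have e3 : x * (n * y * n⁻¹) = 1 := by
      rw [show j * x * j = x by rw [mul_assoc, hxj, ← mul_assoc, h.j_sq, one_mul]] at hnq
      exact hnq.symm
    have e4 : n * y * n⁻¹ = x⁻¹ := eq_inv_of_mul_eq_one_right e3
    rw [hp, e4, ← mul_assoc] at h1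
    have : x⁻¹ * j * x = j := by rw [mul_assoc, ← hxj, inv_mul_cancel_left]
    rw [this] at h1
    exact h.j_ne h1
  · have hq1 : q = j := by
      rw [h1] at hpq
      rw [eq_inv_of_mul_eq_one_right hpq, inv_eq_of_mul_eq_one_right h.j_sq]
    rw [hq1] at hnq
    have hxj : x * j = j * x := h.j_comm (h.le (h.mem₁ hx))
    rw [show j * x * j = x by rw [mul_assoc, hxj, ← mul_assoc, h.j_sq, one_mul],
      show n * j * n⁻¹ = j by rw [← hjn, mul_inv_cancel_right]] at hnq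
    have e4 : n * y * n⁻¹ = x⁻¹ * j := by rw [hnq, inv_mul_cancel_left]
    rw [hp, e4] at h1
    have : x⁻¹ * j * (j * x) = 1 := by
      rw [mul_assoc, ← mul_assoc j j, h.j_sq, one_mul, inv_mul_cancel]
    rw [this] at h1
    exact h.j_ne h1.symm

/-- Involutions of `L₁L₂` other than `j` are products of two elements of order four. -/
theorem involution_dec {v : G} (hv : v ∈ L₁ ⊔ L₂) (hv2 : v * v = 1) (hv1 : v ≠ 1) (hvj : v ≠ j) :
    ∃ a ∈ L₁, ∃ b ∈ L₂, a * b = v ∧ a * a = j ∧ b * b = j := by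
  obtain ⟨a, ha, b, hb, rfl⟩ := h.dec hv
  have e : (a * a) * (b * b) = 1 := by
    calc (a * a) * (b * b) = a * (a * b) * b := by group
      _ = a * (b * a) * b := by rw [h.comm a ha b hb]
      _ = 1 := by rw [← hv2]; group
  have hb' : b * b = (a * a)⁻¹ := eq_inv_of_mul_eq_one_right e
  rcases h.inf (a * a) (mul_mem ha ha) (by rw [← inv_mem_iff, ← hb']; exact mul_mem hb hb) with h1 | h1
  · exfalso
    rw [h1, inv_one] at hb'
    rcases h.uniq₁ ha h1 with ha' | ha' <;> rcases h.uniq₂ hb hb' with hb'' | hb'' <;> subst ha' hb''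
    · exact hv1 (one_mul 1)
    · exact hvj (one_mul _)
    · exact hvj (mul_one _)
    · exact hv1 h.j_sq
  · refine ⟨a, ha, b, hb, rfl, h1, ?_⟩
    rw [hb', h1, inv_eq_of_mul_eq_one_right h.j_sq]

/-- The exponent of the 2-elements of the factors, and elements attaining it. -/
theorem exists_exponent : ∃ k, 2 ≤ k ∧ (∀ x ∈ L₁, (∃ i, x ^ 2 ^ i = 1) → x ^ 2 ^ k = 1) ∧
    (∀ y ∈ L₂, (∃ i, y ^ 2 ^ i = 1) → y ^ 2 ^ k = 1) ∧
    ∀ a ∈ L₁, a * a = j → ∃ c ∈ L₁, c * a = a * c ∧ c ^ 2 ^ k = 1 ∧ c ^ 2 ^ (k - 1) = j := by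
  classical
  haveI : Fact (Nat.Prime 2) := ⟨Nat.prime_two⟩
  obtain ⟨hj, hf⟩ := h.f1
  obtain ⟨a₀, ha₀⟩ := hf.exists_sq
  have ha₀G : (a₀ : G) * a₀ = j := congrArg Subtype.val ha₀
  haveI := Fintype.ofFinite L₁
  obtain ⟨c, hcmem, hcmax⟩ := (Finset.univ.filter fun x : L₁ => ∃ i, x ^ 2 ^ i = 1).exists_max_image
    (fun x => orderOf x) ⟨1, by simp⟩
  obtain ⟨i, hi⟩ := (Finset.mem_filter.1 hcmem).2
  obtain ⟨k, -, hk⟩ := (Nat.dvd_prime_pow Nat.prime_two).1 (orderOf_dvd_of_pow_eq_one hi)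
  have ha₀o : orderOf a₀ = 4 := by
    refine orderOf_eq_prime_pow (p := 2) (n := 1) (fun e => ?_) ?_
    · rw [pow_one, pow_two, ha₀] at e; exact hf.ne_one e
    · rw [show 2 ^ (1 + 1) = 2 * 2 from rfl, pow_mul, pow_two a₀, ha₀, pow_two]; exact hf.sq_j
  have hk2 : 2 ≤ k := by
    have h1 := hcmax a₀ (Finset.mem_filter.2 ⟨Finset.mem_univ _, 2, by
      have e := pow_orderOf_eq_one a₀; rw [ha₀o] at e; exact e⟩)
    simp only [ha₀o, hk] at h1
    by_contra hk'
    interval_cases k <;> omega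
  have hall : ∀ x ∈ L₁, (∃ i, x ^ 2 ^ i = 1) → x ^ 2 ^ k = 1 := by
    rintro x hx ⟨i, hxi⟩
    have hxi' : (⟨x, hx⟩ : L₁) ^ 2 ^ i = 1 := Subtype.ext hxi
    obtain ⟨m, -, hm⟩ := (Nat.dvd_prime_pow Nat.prime_two).1 (orderOf_dvd_of_pow_eq_one hxi')
    have h1 := hcmax ⟨x, hx⟩ (Finset.mem_filter.2 ⟨Finset.mem_univ _, i, hxi'⟩)
    simp only [hm, hk] at h1
    have : orderOf (⟨x, hx⟩ : L₁) ∣ 2 ^ k := by
      rw [hm]; exact Nat.pow_dvd_pow 2 ((Nat.pow_le_pow_iff_right (le_refl 2)).1 h1)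
    exact congrArg Subtype.val (orderOf_dvd_iff_pow_eq_one.1 this)
  refine ⟨k, hk2, hall, fun y hy ⟨i, hyi⟩ => ?_, fun a ha haj => ?_⟩
  · have h1 : ∀ m : ℕ, (n * y * n⁻¹) ^ m = n * y ^ m * n⁻¹ := fun m => conj_pow
    have h2 := hall _ (h.n_L₂ y hy) ⟨i, by rw [h1, hyi]; group⟩
    rw [h1, mul_inv_eq_one] at h2
    exact mul_left_cancel (h2.trans (mul_one n).symm)
  · have hcj : c ^ 2 ^ (k - 1) = ⟨j, hj⟩ := by
      rcases hf.uniq (c ^ 2 ^ (k - 1)) (by
        rw [← pow_add, ← two_mul, ← pow_succ', show k - 1 + 1 = k by omega, ← hk, pow_orderOf_eq_one]) with e | e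
      · exfalso
        have := Nat.le_of_dvd (by positivity) (orderOf_dvd_of_pow_eq_one e)
        rw [hk] at this
        have := (Nat.pow_le_pow_iff_right (le_refl 2)).1 this
        omega
      · exact e
    set a₁ := c ^ 2 ^ (k - 2) with ha₁
    have ha₁j : a₁ * a₁ = ⟨j, hj⟩ := by
      rw [← pow_add, ← two_mul, ← pow_succ', show k - 2 + 1 = k - 1 by omega, hcj]
    obtain ⟨g, hg⟩ := hf.conj a₁ ⟨a, ha⟩ ha₁j (Subtype.ext haj)
    refine ⟨(g : G) * c * (g : G)⁻¹, mul_mem (mul_mem g.2 c.2) (inv_mem g.2), ?_, ?_, ?_⟩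
    · have e : (g * c * g⁻¹) * ⟨a, ha⟩ = (⟨a, ha⟩ : L₁) * (g * c * g⁻¹) := by
        have hc : c * a₁ = a₁ * c := (Commute.refl c).pow_right _
        rw [← hg]
        calc g * c * g⁻¹ * (g * a₁ * g⁻¹) = g * (c * a₁) * g⁻¹ := by group
          _ = _ := by rw [hc]; group
      exact congrArg Subtype.val e
    · rw [conj_pow]
      have : ((c : G)) ^ 2 ^ k = 1 := by
        rw [← SubmonoidClass.coe_pow, ← hk, pow_orderOf_eq_one]; rfl
      rw [this, mul_one, mul_inv_cancel]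
    · rw [conj_pow]
      have : ((c : G)) ^ 2 ^ (k - 1) = j := congrArg Subtype.val hcj
      rw [this, h.j_comm (h.le (h.mem₁ g.2)), mul_inv_cancel_right]

/-- A 2-element of `L₁L₂` splits into 2-elements. -/
theorem two_element_dec {v : G} (hv : v ∈ L₁ ⊔ L₂) (h2 : ∃ i, v ^ 2 ^ i = 1) :
    ∃ x ∈ L₁, ∃ y ∈ L₂, x * y = v ∧ (∃ i, x ^ 2 ^ i = 1) ∧ ∃ i, y ^ 2 ^ i = 1 := by
  obtain ⟨x, hx, y, hy, e⟩ := h.dec hv
  obtain ⟨i, hi⟩ := h2
  refine ⟨x, hx, y, hy, e, ?_⟩
  have e1 : x ^ 2 ^ i * y ^ 2 ^ i = 1 := by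
    rw [← Commute.mul_pow (show Commute x y from h.comm x hx y hy), e, hi]
  have e2 : x ^ 2 ^ i = (y ^ 2 ^ i)⁻¹ := eq_inv_of_mul_eq_one_left e1
  have hxs : x ^ 2 ^ i = 1 ∨ x ^ 2 ^ i = j := h.inf _ (pow_mem hx _) (e2 ▸ inv_mem (pow_mem hy _))
  have hsq : ∀ u : G, u = 1 ∨ u = j → u * u = 1 := by rintro u (rfl | rfl); exacts [one_mul 1, h.j_sq]
  refine ⟨⟨i + 1, ?_⟩, ⟨i + 1, ?_⟩⟩
  · rw [pow_succ, pow_mul, pow_two]; exact hsq _ hxs
  · have hys : y ^ 2 ^ i = (x ^ 2 ^ i)⁻¹ := eq_inv_of_mul_eq_one_right e1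
    rw [pow_succ, pow_mul, pow_two, hys]
    rw [← _root_.mul_inv_rev, hsq _ hxs, inv_one]

/-- The power map on 2-elements of `L₁L₂` lands in `⟨j⟩`. -/
theorem power_mem {k : ℕ} (hk : 1 ≤ k) (h₁ : ∀ x ∈ L₁, (∃ i, x ^ 2 ^ i = 1) → x ^ 2 ^ k = 1)
    (h₂ : ∀ y ∈ L₂, (∃ i, y ^ 2 ^ i = 1) → y ^ 2 ^ k = 1) {v : G} (hv : v ∈ L₁ ⊔ L₂)
    (h2 : ∃ i, v ^ 2 ^ i = 1) : v ^ 2 ^ (k - 1) = 1 ∨ v ^ 2 ^ (k - 1) = j := by
  obtain ⟨x, hx, y, hy, rfl, hx2, hy2⟩ := h.two_element_dec hv h2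
  rw [Commute.mul_pow (show Commute x y from h.comm x hx y hy)]
  have hkk : k - 1 + 1 = k := by omega
  have e1 := h.uniq₁ (pow_mem hx (2 ^ (k - 1))) (by rw [← pow_add, ← two_mul, ← pow_succ', hkk, h₁ x hx hx2])
  have e2 := h.uniq₂ (pow_mem hy (2 ^ (k - 1))) (by rw [← pow_add, ← two_mul, ← pow_succ', hkk, h₂ y hy hy2])
  rcases e1 with e1 | e1 <;> rcases e2 with e2 | e2 <;> simp [e1, e2, h.j_sq]

/-- On 2-elements commuting with `n` the power map is trivial once `k ≥ 3`. -/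
theorem power_centralizer {k : ℕ} (hk : 3 ≤ k) (h₁ : ∀ x ∈ L₁, (∃ i, x ^ 2 ^ i = 1) → x ^ 2 ^ k = 1)
    (h₂ : ∀ y ∈ L₂, (∃ i, y ^ 2 ^ i = 1) → y ^ 2 ^ k = 1) {v : G} (hvn : v * n = n * v)
    (h2 : ∃ i, v ^ 2 ^ i = 1) : v ^ 2 ^ (k - 1) = 1 := by
  have main : ∀ u ∈ L₁ ⊔ L₂, u * n = n * u → (∃ i, u ^ 2 ^ i = 1) → u ^ 2 ^ (k - 1) = 1 := by
    intro u hu hun hu2
    obtain ⟨x, hx, y, hy, rfl, hx2, -⟩ := h.two_element_dec hu hu2
    set x' := n * x * n⁻¹
    set y' := n * y * n⁻¹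
    have hx' : x' ∈ L₂ := h.n_L₁ x hx
    have hy' : y' ∈ L₁ := h.n_L₂ y hy
    have e : y' * x' = x * y := by
      rw [h.comm y' hy' x' hx', show x' * y' = n * (x * y) * n⁻¹ by simp only [x', y']; group, ← hun,
        mul_inv_cancel_right]
    have e' : x⁻¹ * y' = y * x'⁻¹ := by
      calc x⁻¹ * y' = x⁻¹ * (y' * x') * x'⁻¹ := by group
        _ = y * x'⁻¹ := by rw [e]; group
    set d := y * x'⁻¹ with hd
    have hd' := h.inf d (e' ▸ mul_mem (inv_mem hx) hy') (mul_mem hy (inv_mem hx'))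
    have hy_eq : y = d * x' := by rw [hd, inv_mul_cancel_right]
    have hpos : 2 ^ (k - 1) = 2 * 2 ^ (k - 2) := by rw [← pow_succ', show k - 2 + 1 = k - 1 by omega]
    have hdpow : d ^ 2 ^ (k - 1) = 1 := by
      rw [hpos, pow_mul, pow_two]
      rcases hd' with e1 | e1 <;> simp [e1, h.j_sq]
    have hdx : Commute d x' := by
      rcases hd' with e1 | e1
      · rw [e1]; exact Commute.one_left _
      · rw [e1]; exact (h.j_comm (h.le (h.mem₂ hx'))).symm
    rw [Commute.mul_pow (show Commute x y from h.comm x hx y hy), hy_eq, hdx.mul_pow, hdpow, one_mul, conj_pow]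
    rcases h.uniq₁ (pow_mem hx (2 ^ (k - 1))) (by
      rw [← pow_add, ← two_mul, ← pow_succ', show k - 1 + 1 = k by omega, h₁ x hx hx2]) with e1 | e1
    · rw [e1]; group
    · rw [e1, h.j_comm h.n_mem, mul_inv_cancel_right, h.j_sq]
  by_cases hvL : v ∈ L₁ ⊔ L₂
  · exact main v hvL hvn h2
  · have hvj : v ∈ centralizer ({j} : Set G) := Subgroup.mem_centralizer_singleton_iff.2 (by
      rw [← h.n_sq, ← mul_assoc, hvn, mul_assoc, hvn, ← mul_assoc])
    have hu := h.coset hvj hvL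
    have hun : (n⁻¹ * v) * n = n * (n⁻¹ * v) := by rw [mul_assoc, hvn, inv_mul_cancel_left, mul_inv_cancel_left]
    have hn4 : n ^ 4 = 1 := by rw [show (4 : ℕ) = 2 * 2 from rfl, pow_mul, pow_two n, h.n_sq, pow_two, h.j_sq]
    have hcomm : Commute n (n⁻¹ * v) := hun.symm
    obtain ⟨i, hi⟩ := h2
    have hu2 : ∃ i, (n⁻¹ * v) ^ 2 ^ i = 1 := ⟨i + 2, by
      have hc : Commute n⁻¹ v := (show Commute n v from hvn.symm).inv_left
      rw [hc.mul_pow, inv_pow, pow_add, show (2 : ℕ) ^ 2 = 4 from rfl, mul_comm (2 ^ i) 4, pow_mul, hn4, one_pow,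
        inv_one, one_mul, mul_comm 4, pow_mul, hi, one_pow]⟩
    have e1 : v = n * (n⁻¹ * v) := (mul_inv_cancel_left n v).symm
    rw [e1, hcomm.mul_pow, main _ hu hun hu2, mul_one,
      show 2 ^ (k - 1) = 4 * 2 ^ (k - 3) by
        rw [show (4 : ℕ) = 2 ^ 2 from rfl, ← pow_add, show 2 + (k - 3) = k - 1 by omega],
      pow_mul, hn4, one_pow]

/-- No conjugate of `n` lies in `L₁L₂`. -/
theorem no_conj_in (g : G) : g * n * g⁻¹ ∉ L₁ ⊔ L₂ := by
  intro hm
  set m := g * n * g⁻¹ with hmdef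
  have hm2 : m * m = g * j * g⁻¹ := by rw [hmdef, ← h.n_sq]; group
  by_cases hgj : g * j * g⁻¹ = j
  · have hg : g ∈ centralizer ({j} : Set G) :=
      Subgroup.mem_centralizer_singleton_iff.2 (mul_inv_eq_iff_eq_mul.1 hgj)
    have hidx : ((L₁ ⊔ L₂).subgroupOf (centralizer ({j} : Set G))).index = 2 := h.index
    haveI := Subgroup.normal_of_index_eq_two hidx
    have := Subgroup.Normal.conj_mem (H := (L₁ ⊔ L₂).subgroupOf (centralizer ({j} : Set G))) inferInstance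
      ⟨m, h.le hm⟩ (mem_subgroupOf.2 hm) (⟨g, hg⟩ : centralizer ({j} : Set G))⁻¹
    apply h.n_not_mem
    have h' := mem_subgroupOf.1 this
    simpa [hmdef, mul_assoc] using h'
  · have htL : g * j * g⁻¹ ∈ L₁ ⊔ L₂ := hm2 ▸ mul_mem hm hm
    have ht2 : (g * j * g⁻¹) * (g * j * g⁻¹) = 1 := by
      rw [show (g * j * g⁻¹) * (g * j * g⁻¹) = g * (j * j) * g⁻¹ by group, h.j_sq]; group
    have ht1 : g * j * g⁻¹ ≠ 1 := fun e => h.j_ne (by
      have := congrArg (fun u => g⁻¹ * u * g) e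
      simpa [mul_assoc] using this)
    obtain ⟨a, ha, b, hb, hab, haj, -⟩ := h.involution_dec htL ht2 ht1 hgj
    obtain ⟨x, hx, y, hy, hxy⟩ := h.dec hm
    obtain ⟨hj, hf⟩ := h.f1
    obtain ⟨k, hk2, h₁, h₂, hc⟩ := h.exists_exponent
    -- `x ^ 2` is `a` up to `j`
    have hxa : ∃ d, (d = 1 ∨ d = j) ∧ x * x = d * a := by
      have e : (x * x) * (y * y) = a * b := by
        rw [hab, ← hm2, ← hxy]
        calc x * x * (y * y) = x * (x * y) * y := by group
          _ = x * (y * x) * y := by rw [h.comm x hx y hy]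
          _ = _ := by group
      refine ⟨(x * x) * a⁻¹, h.inf _ (mul_mem (mul_mem hx hx) (inv_mem ha)) ?_, by rw [inv_mul_cancel_right]⟩
      have e2 : (x * x) * a⁻¹ = b * (y * y)⁻¹ := by
        rw [eq_mul_inv_iff_mul_eq, mul_assoc, h.comm a⁻¹ (inv_mem ha) _ (mul_mem hy hy), ← mul_assoc, e,
          h.comm a ha b hb, mul_inv_cancel_right]
      rw [e2]
      exact mul_mem hb (inv_mem (mul_mem hy hy))
    obtain ⟨d, hd, hxd⟩ := hxa
    have hxa' : a * x = x * a := by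
      have hdx : d * x = x * d := by
        rcases hd with rfl | rfl
        · simp
        · exact (h.j_comm (h.le (h.mem₁ hx))).symm
      have e : a = d * (x * x) := by
        rw [hxd, ← mul_assoc, show d * d = 1 by rcases hd with rfl | rfl <;> simp [h.j_sq], one_mul]
      rw [e, mul_assoc, mul_assoc, ← mul_assoc x d, ← hdx, mul_assoc]
    have hk3 : 3 ≤ k := by
      by_contra hlt
      have hk' : k = 2 := by omega
      have hx4 : x ^ 2 ^ 2 = j := by
        rw [show (2 : ℕ) ^ 2 = 2 * 2 from rfl, pow_mul, pow_two x, hxd, pow_two]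
        have hda : d * a = a * d := by
          rcases hd with rfl | rfl
          · simp
          · exact (h.j_comm (h.le (h.mem₁ ha))).symm
        calc d * a * (d * a) = d * (a * d) * a := by group
          _ = d * d * (a * a) := by rw [← hda]; group
          _ = j := by rw [haj, show d * d = 1 by rcases hd with rfl | rfl <;> simp [h.j_sq], one_mul]
      have := h₁ x hx ⟨3, by rw [pow_succ, pow_mul, hx4, pow_two, h.j_sq]⟩
      rw [hk', hx4] at this
      exact h.j_ne this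
    obtain ⟨c, hc1, hca, hck, hcj⟩ := hc a ha haj
    have hcx : c * x = x * c := congrArg Subtype.val
      (hf.cen ⟨a, ha⟩ ⟨c, hc1⟩ ⟨x, hx⟩ (Subtype.ext haj) (Subtype.ext hca.symm) (Subtype.ext hxa'))
    have hcm : c * m = m * c := by
      rw [← hxy, ← mul_assoc, hcx, mul_assoc, h.comm c hc1 y hy, ← mul_assoc]
    have h4 := h.power_centralizer hk3 h₁ h₂ (v := g⁻¹ * c * g) (by
      calc g⁻¹ * c * g * n = g⁻¹ * (c * m) * g := by rw [hmdef]; group
        _ = n * (g⁻¹ * c * g) := by rw [hcm, hmdef]; group) ⟨k, by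
      rw [show g⁻¹ * c * g = g⁻¹ * c * (g⁻¹)⁻¹ by group, conj_pow, hck]; group⟩
    rw [show g⁻¹ * c * g = g⁻¹ * c * (g⁻¹)⁻¹ by group, conj_pow, hcj] at h4
    exact h.j_ne (by
      have := congrArg (fun u => g * u * g⁻¹) h4
      simpa [mul_assoc] using this)

/-- A Sylow 2-subgroup of the centraliser of `j` through `n` is a Sylow 2-subgroup of `G`. -/
theorem sylow_of_centralizer (S₀ : Subgroup G) (hn : n ∈ S₀) (hS₀ : S₀ ≤ centralizer ({j} : Set G))
    (h2 : IsPGroup 2 S₀) (hmax : ∀ T : Subgroup G, IsPGroup 2 T → S₀ ≤ T → T ≤ centralizer ({j} : Set G) → T = S₀)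
    (T : Subgroup G) (hT : IsPGroup 2 T) (hle : S₀ ≤ T) : T = S₀ := by
  classical
  haveI : Fact (Nat.Prime 2) := ⟨Nat.prime_two⟩
  by_contra hne
  haveI := hT.isNilpotent
  have hlt : S₀.subgroupOf T < ⊤ := lt_top_iff_ne_top.2 fun e => hne (le_antisymm (subgroupOf_eq_top.1 e) hle)
  obtain ⟨g, hg, hgS⟩ := SetLike.exists_of_lt (Group.normalizerCondition_of_isNilpotent _ hlt)
  have hgconj : ∀ s ∈ S₀, (g : G)⁻¹ * s * g ∈ S₀ := by
    intro s hs
    have := (Subgroup.mem_normalizer_iff.1 (inv_mem hg) ⟨s, hle hs⟩).1 (mem_subgroupOf.2 hs)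
    simpa [mem_subgroupOf] using this
  set t := (g : G) * j * (g : G)⁻¹ with ht
  have hjS : j ∈ S₀ := h.n_sq ▸ mul_mem hn hn
  have htS : t ∈ S₀ := by
    have := (Subgroup.mem_normalizer_iff.1 hg ⟨j, hle hjS⟩).1 (mem_subgroupOf.2 hjS)
    simpa [mem_subgroupOf, ht] using this
  have htc : ∀ s ∈ S₀, s * t = t * s := by
    intro s hs
    have h1 := h.j_comm (hS₀ (hgconj s hs))
    calc s * t = g * (((g : G)⁻¹ * s * g) * j) * (g : G)⁻¹ := by rw [ht]; group
      _ = t * s := by rw [h1, ht]; group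
  have ht2 : t * t = 1 := by rw [ht, show (g : G) * j * (g : G)⁻¹ * ((g : G) * j * (g : G)⁻¹) = g * (j * j) * (g : G)⁻¹ by group, h.j_sq]; group
  have ht1 : t ≠ 1 := fun e => h.j_ne (by
    have := congrArg (fun u => (g : G)⁻¹ * u * g) e
    simpa [ht, mul_assoc] using this)
  by_cases htj : t = j
  · have hgC : (g : G) ∈ centralizer ({j} : Set G) :=
      Subgroup.mem_centralizer_singleton_iff.2 (mul_inv_eq_iff_eq_mul.1 (ht ▸ htj))
    refine hgS (mem_subgroupOf.2 ?_)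
    have e : S₀ ⊔ zpowers (g : G) = S₀ := hmax _
      (hT.to_le (sup_le hle (zpowers_le.2 g.2))) le_sup_left (sup_le hS₀ (zpowers_le.2 hgC))
    rw [← e]
    exact mem_sup_right (mem_zpowers _)
  · obtain ⟨a, ha, b, hb, hab, haj, -⟩ := h.involution_dec (h.no_outer_involution (hS₀ htS) ht2) ht2 ht1 htj
    obtain ⟨hj, hf⟩ := h.f1
    -- `S₀` contains a Sylow subgroup of `L₁`, whose elements commute with `a`
    have hidx : ((L₁ ⊔ L₂).subgroupOf (centralizer ({j} : Set G))).index = 2 := h.index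
    have hnorm : ∀ s ∈ S₀, ∀ x ∈ L₁, s * x * s⁻¹ ∈ L₁ ∨ s * x * s⁻¹ ∈ L₂ := by
      intro s hs x hx
      by_cases hsL : s ∈ L₁ ⊔ L₂
      · left
        obtain ⟨u, hu, v, hv, rfl⟩ := h.dec hsL
        rw [show u * v * x * (u * v)⁻¹ = u * (v * x * v⁻¹) * u⁻¹ by group, ← h.comm x hx v hv, mul_inv_cancel_right]
        exact mul_mem (mul_mem hu hx) (inv_mem hu)
      · right
        obtain ⟨u, hu, v, hv, e⟩ := h.dec (h.coset (hS₀ hs) hsL)
        have hs' : s = n * (u * v) := by rw [e, mul_inv_cancel_left]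
        rw [hs', show n * (u * v) * x * (n * (u * v))⁻¹ = n * (u * (v * x * v⁻¹) * u⁻¹) * n⁻¹ by group,
          ← h.comm x hx v hv, mul_inv_cancel_right]
        exact h.n_L₁ _ (mul_mem (mul_mem hu hx) (inv_mem hu))
    -- Sylow 2-subgroups of `L₁`
    obtain ⟨P, hP⟩ : ∃ P : Sylow 2 L₁, (P : Subgroup L₁).map L₁.subtype ≤ S₀ := by
      obtain ⟨S', hS'⟩ := ((h2.comap_of_injective (centralizer ({j} : Set G)).subtype (Subgroup.subtype_injective _)).exists_le_sylow)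
      have hS'eq : (S' : Subgroup (centralizer ({j} : Set G))).map (centralizer ({j} : Set G)).subtype = S₀ := by
        refine hmax _ (S'.isPGroup'.map _) ?_ (map_subtype_le _)
        intro s hs
        exact ⟨⟨s, hS₀ hs⟩, hS' hs, rfl⟩
      haveI : ((L₁ ⊔ L₂).subgroupOf (centralizer ({j} : Set G))).Normal := Subgroup.normal_of_index_eq_two hidx
      set LC := (L₁ ⊔ L₂).subgroupOf (centralizer ({j} : Set G))
      obtain ⟨P₁⟩ : Nonempty (Sylow 2 L₁) := inferInstance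
      have hP₁ : IsPGroup 2 ((P₁ : Subgroup L₁).map L₁.subtype) := P₁.isPGroup'.map _
      obtain ⟨Q, hQ⟩ := (hP₁.comap_of_injective (centralizer ({j} : Set G)).subtype
        (Subgroup.subtype_injective _)).exists_le_sylow
      obtain ⟨c, hc⟩ := MulAction.exists_smul_eq (centralizer ({j} : Set G)) Q S'
      -- adjust by `n` to stay in `L₁`
      have hkey : ∀ c' : centralizer ({j} : Set G), c' • Q = S' → (c' : G) ∈ L₁ ⊔ L₂ →
          ∃ P : Sylow 2 L₁, (P : Subgroup L₁).map L₁.subtype ≤ S₀ := by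
        intro c' hc' hc'L
        obtain ⟨u, hu, v, hv, e⟩ := h.dec hc'L
        refine ⟨(⟨u, hu⟩ : L₁) • P₁, ?_⟩
        rintro _ ⟨x, hx, rfl⟩
        obtain ⟨x₁, hx₁, rfl⟩ := hx
        have h5 : ((x₁ : L₁) : G) ∈ centralizer ({j} : Set G) := h.le (h.mem₁ x₁.2)
        have h6 : (⟨_, h5⟩ : centralizer ({j} : Set G)) ∈ (Q : Subgroup _) := hQ ⟨x₁, hx₁, rfl⟩
        rw [← hS'eq]
        refine ⟨c' * ⟨_, h5⟩ * c'⁻¹, ?_, ?_⟩
        · rw [← hc']; exact ⟨⟨_, h5⟩, h6, rfl⟩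
        · show (c' : G) * x₁ * (c' : G)⁻¹ = u * x₁ * u⁻¹
          rw [← e, show u * v * (x₁ : G) * (u * v)⁻¹ = u * (v * x₁ * v⁻¹) * u⁻¹ by group, ← h.comm _ x₁.2 v hv,
            mul_inv_cancel_right]
      by_cases hcL : (c : G) ∈ L₁ ⊔ L₂
      · exact hkey c hc hcL
      · have hnS' : (⟨n, h.n_mem⟩ : centralizer ({j} : Set G)) ∈ (S' : Subgroup _) := hS' hn
        refine hkey ((⟨n, h.n_mem⟩ : centralizer ({j} : Set G))⁻¹ * c) ?_ (h.coset c.2 hcL)
        rw [mul_smul, hc]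
        exact Sylow.smul_eq_iff_mem_normalizer.2 (Subgroup.le_normalizer (inv_mem hnS'))
    have hcomm : ∀ x ∈ (P : Subgroup L₁), x * ⟨a, ha⟩ = ⟨a, ha⟩ * x := by
      intro x hx
      have e := htc _ (hP ⟨x, hx, rfl⟩)
      rw [← hab] at e
      refine Subtype.ext (mul_right_cancel (b := b) ?_)
      show (x : G) * a * b = a * x * b
      calc (x : G) * a * b = (x : G) * (a * b) := mul_assoc _ _ _
        _ = a * b * x := e
        _ = a * x * b := by rw [mul_assoc, ← h.comm _ x.2 b hb, ← mul_assoc]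
    have haj' : (⟨a, ha⟩ : L₁) * ⟨a, ha⟩ = ⟨j, hj⟩ := Subtype.ext haj
    obtain ⟨u, hu2, hua⟩ := hf.inverter ⟨a, ha⟩ haj'
    -- the centraliser of `a` has a unique Sylow subgroup, normalised by `u`
    have hPab : ∀ x ∈ (P : Subgroup L₁), ∀ y : L₁, y * ⟨a, ha⟩ = ⟨a, ha⟩ * y → x * y = y * x :=
      fun x hx y hy => hf.cen _ x y haj' (hcomm x hx).symm hy.symm
    have hmem : ∀ y : L₁, y * ⟨a, ha⟩ = ⟨a, ha⟩ * y → IsPGroup 2 (zpowers y) → y ∈ (P : Subgroup L₁) := by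
      intro y hy hy2
      have hle : zpowers y ≤ normalizer ((P : Subgroup L₁) : Set L₁) := by
        rw [zpowers_le]
        refine Subgroup.mem_normalizer_iff.2 fun x => ⟨fun hx => ?_, fun hx => ?_⟩
        · rwa [← hPab x hx y hy, mul_inv_cancel_right]
        · have h7 := hPab _ hx y hy
          rw [inv_mul_cancel_right] at h7
          have e : y * x * y⁻¹ = x := mul_left_cancel h7.symm
          rwa [e] at hx
      have h8 : IsPGroup 2 ((P : Subgroup L₁) ⊔ zpowers y : Subgroup L₁) :=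
        P.isPGroup'.to_sup_of_normal_left' hy2 hle
      rw [← P.is_maximal' h8 le_sup_left]
      exact mem_sup_right (mem_zpowers y)
    have huN : u ∈ normalizer ((P : Subgroup L₁) : Set L₁) := by
      have hfwd : ∀ x ∈ (P : Subgroup L₁), u * x * u⁻¹ ∈ (P : Subgroup L₁) := by
        intro x hx
        refine hmem _ ?_ ?_
        · have e : u⁻¹ * ⟨a, ha⟩ * u = (⟨a, ha⟩ : L₁)⁻¹ := by
            apply inv_injective
            rw [inv_inv, _root_.mul_inv_rev, _root_.mul_inv_rev, inv_inv, ← mul_assoc]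
            calc u⁻¹ * (⟨a, ha⟩ : L₁)⁻¹ * u = u⁻¹ * (u * ⟨a, ha⟩ * u⁻¹) * u := by rw [hua]
              _ = _ := by group
          calc u * x * u⁻¹ * ⟨a, ha⟩ = u * (x * (u⁻¹ * ⟨a, ha⟩ * u)) * u⁻¹ := by group
            _ = u * ((u⁻¹ * ⟨a, ha⟩ * u) * x) * u⁻¹ := by
              rw [e, (show Commute x (⟨a, ha⟩ : L₁) from hcomm x hx).inv_right.eq]
            _ = _ := by group
        · exact (P.isPGroup'.map (MulAut.conj u).toMonoidHom).to_le (zpowers_le.2 ⟨x, hx, rfl⟩)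
      exact Cfsg.Lib.ZStarApps.mem_normalizer_of_maps hfwd
    have hu2' : IsPGroup 2 (zpowers u) := by
      refine IsPGroup.of_card (n := 2) ?_
      rw [Nat.card_zpowers]
      refine orderOf_eq_prime_pow (n := 1) (fun e => ?_) ?_
      · rw [pow_one, pow_two, hu2] at e; exact hf.ne_one e
      · rw [show 2 ^ (1 + 1) = 2 * 2 from rfl, pow_mul, pow_two u, hu2, pow_two]; exact hf.sq_j
    have huP : u ∈ (P : Subgroup L₁) := by
      have h8 : IsPGroup 2 ((P : Subgroup L₁) ⊔ zpowers u : Subgroup L₁) :=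
        P.isPGroup'.to_sup_of_normal_left' hu2' (zpowers_le.2 huN)
      rw [← P.is_maximal' h8 le_sup_left]
      exact mem_sup_right (mem_zpowers u)
    have e := hcomm u huP
    rw [e, mul_inv_cancel_right] at hua
    refine hf.ne_one ?_
    rw [← haj']
    nth_rw 1 [hua]
    rw [inv_mul_cancel]

/-- The conclusion: `j` is isolated. -/
theorem isolated : Cfsg.IsIsolatedInvolution j := by
  classical
  haveI : Fact (Nat.Prime 2) := ⟨Nat.prime_two⟩
  have hjo : orderOf j = 2 := orderOf_eq_prime (by rw [pow_two, h.j_sq]) h.j_ne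
  set C := centralizer ({j} : Set G) with hC
  have hn2 : IsPGroup 2 (zpowers n) := by
    refine IsPGroup.of_card (n := 2) ?_
    rw [Nat.card_zpowers]
    refine orderOf_eq_prime_pow (n := 1) (fun e => ?_) ?_
    · rw [pow_one, pow_two, h.n_sq] at e; exact h.j_ne e
    · rw [show 2 ^ (1 + 1) = 2 * 2 from rfl, pow_mul, pow_two n, h.n_sq, pow_two, h.j_sq]
  obtain ⟨SC, hSC⟩ := (hn2.comap_of_injective C.subtype C.subtype_injective).exists_le_sylow
  set S₀ := (SC : Subgroup C).map C.subtype with hS₀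
  have hnS : n ∈ S₀ := ⟨⟨n, h.n_mem⟩, hSC (mem_zpowers n), rfl⟩
  have hS₀C : S₀ ≤ C := map_subtype_le _
  have hS₀2 : IsPGroup 2 S₀ := SC.isPGroup'.map _
  have hmax : ∀ T : Subgroup G, IsPGroup 2 T → S₀ ≤ T → T ≤ C → T = S₀ := by
    intro T hT hle hTC
    have e : T.subgroupOf C = (SC : Subgroup C) := SC.is_maximal' (hT.comap_of_injective C.subtype C.subtype_injective) (by
      intro s hs; exact hle ⟨s, hs, rfl⟩)
    rw [hS₀, ← e, map_subgroupOf_eq_of_le hTC]
  let S : Sylow 2 G := ⟨S₀, hS₀2, fun {T} hT hle => h.sylow_of_centralizer S₀ hnS hS₀C hS₀2 hmax T hT hle⟩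
  -- the sign homomorphism on `S₀`
  have hidx : ((L₁ ⊔ L₂).subgroupOf C).index = 2 := h.index
  haveI : ((L₁ ⊔ L₂).subgroupOf C).Normal := Subgroup.normal_of_index_eq_two hidx
  let ϕC : C →* ℤˣ :=
    { toFun := fun c => if (c : G) ∈ L₁ ⊔ L₂ then 1 else -1
      map_one' := by simp
      map_mul' := fun a b => by
        have h1 := Subgroup.mul_mem_iff_of_index_two hidx (a := a) (b := b)
        simp only [mem_subgroupOf] at h1
        by_cases ha : (a : G) ∈ L₁ ⊔ L₂ <;> by_cases hb : (b : G) ∈ L₁ ⊔ L₂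
        · rw [if_pos ha, if_pos hb, if_pos (h1.2 (iff_of_true ha hb)), one_mul]
        · rw [if_pos ha, if_neg hb, if_neg (fun hc => hb ((h1.1 hc).1 ha)), one_mul]
        · rw [if_neg ha, if_pos hb, if_neg (fun hc => ha ((h1.1 hc).2 hb)), mul_one]
        · rw [if_neg ha, if_neg hb, if_pos (h1.2 (iff_of_false ha hb))]; simp }
  let ϕ : S₀ →* ℤˣ := ϕC.comp (Subgroup.inclusion hS₀C)
  have hnapp : ϕ ⟨n, hnS⟩ = -1 := if_neg h.n_not_mem
  have hconj : ∀ (i : ℕ) (a : G) (hh : a⁻¹ * n ^ i * a ∈ S₀), ϕ ⟨_, hh⟩ = ϕ (⟨n, hnS⟩ ^ i) := by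
    intro i a hh
    rw [map_pow, hnapp]
    rcases Nat.even_or_odd i with ⟨m, hm⟩ | ⟨m, hm⟩
    · rw [show ((-1 : ℤˣ)) ^ i = 1 by rw [hm, pow_add, ← mul_pow]; simp]
      refine if_pos (h.no_outer_involution (hS₀C hh) ?_)
      have e : n ^ i * n ^ i = 1 := by
        rw [← pow_add, hm, show m + m + (m + m) = 2 * 2 * m by ring, pow_mul, pow_mul, pow_two n, h.n_sq, pow_two,
          h.j_sq, one_pow]
      calc (a⁻¹ * n ^ i * a) * (a⁻¹ * n ^ i * a) = a⁻¹ * (n ^ i * n ^ i) * a := by group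
        _ = 1 := by rw [e]; group
    · rw [show ((-1 : ℤˣ)) ^ i = -1 by rw [hm, pow_succ, pow_mul]; simp]
      refine if_neg ?_
      have hni : n ^ i = n ∨ n ^ i = n⁻¹ := by
        rcases Nat.even_or_odd m with ⟨r, hr⟩ | ⟨r, hr⟩
        · left
          rw [hm, hr, show 2 * (r + r) + 1 = 2 * 2 * r + 1 by ring, pow_succ, pow_mul, pow_mul, pow_two n, h.n_sq,
            pow_two, h.j_sq, one_pow, one_mul]
        · right
          rw [hm, hr, show 2 * (2 * r + 1) + 1 = 2 * 2 * r + 3 by ring, pow_add, pow_mul, pow_mul, pow_two n, h.n_sq,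
            pow_two j, h.j_sq, one_pow, one_mul]
          apply eq_inv_of_mul_eq_one_left
          rw [← pow_succ, show 3 + 1 = 2 * 2 from rfl, pow_mul, pow_two n, h.n_sq, pow_two, h.j_sq]
      show a⁻¹ * n ^ i * a ∉ L₁ ⊔ L₂
      rcases hni with e | e
      · rw [e]; simpa using h.no_conj_in a⁻¹
      · rw [e]
        intro hin
        apply h.no_conj_in a⁻¹
        have := inv_mem hin
        simpa [mul_assoc] using this
  set τ : G →* ℤˣ := MonoidHom.transfer ϕ with hτ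
  have hτn : τ n = -1 := by
    have e := Cfsg.Lib.TwoFusion.transfer_eq_pow_of_image ϕ (⟨n, hnS⟩ : S₀) hconj
    rw [hτ]
    refine e.trans ?_
    rw [hnapp]
    have hodd : Odd S₀.index := Nat.not_even_iff_odd.1 fun hev => S.not_dvd_index hev.two_dvd
    exact hodd.neg_one_pow
  have hkill : ∀ v ∈ L₁ ⊔ L₂, τ v = 1 := by
    have hodd1 : ∀ x : G, Odd (orderOf x) → τ x = 1 := by
      intro x hx
      rcases Int.units_eq_one_or (τ x) with e | e
      · exact e
      · exfalso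
        have h1 : orderOf (τ x) ∣ orderOf x := orderOf_map_dvd τ x
        rw [e] at h1
        have h2 : orderOf (-1 : ℤˣ) = 2 := orderOf_eq_prime (by simp) (by decide)
        rw [h2] at h1
        exact Nat.not_even_iff_odd.2 hx (even_iff_two_dvd.2 h1)
    have hL : ∀ (L : Subgroup G) (jj : L), Facts L jj → ∀ x ∈ L, τ x = 1 := by
      intro L jj hf x hx
      have h1 : closure {x : L | Odd (orderOf x)} ≤ (τ.comp L.subtype).ker := by
        rw [closure_le]
        intro y hy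
        exact hodd1 _ (show Odd (orderOf (y : G)) by rw [Subgroup.orderOf_coe]; exact hy)
      rw [hf.gen] at h1
      exact (MonoidHom.mem_ker.1 (h1 (mem_top (⟨x, hx⟩ : L))) : (τ.comp L.subtype) ⟨x, hx⟩ = 1)
    intro v hv
    obtain ⟨hj, hf⟩ := h.f1
    obtain ⟨hj', hf'⟩ := h.f2
    obtain ⟨x, hx, y, hy, rfl⟩ := h.dec hv
    rw [map_mul, hL _ _ hf x hx, hL _ _ hf' y hy, one_mul]
  -- inside the kernel the centraliser of `j` is `L₁L₂`
  have hker : ∀ c ∈ C, τ c = 1 → c ∈ L₁ ⊔ L₂ := by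
    intro c hc hτc
    by_contra hcL
    have e := hkill _ (h.coset hc hcL)
    rw [map_mul, map_inv, hτn, hτc] at e
    exact absurd e (by decide)
  refine ⟨hjo, fun g hg => ?_⟩
  set t := g * j * g⁻¹ with ht
  by_contra htj
  have htC : t ∈ C := Subgroup.mem_centralizer_singleton_iff.2 hg.eq.symm
  have ht2 : t * t = 1 := by rw [ht, show g * j * g⁻¹ * (g * j * g⁻¹) = g * (j * j) * g⁻¹ by group, h.j_sq]; group
  have ht1 : t ≠ 1 := fun e => h.j_ne (by
    have := congrArg (fun u => g⁻¹ * u * g) e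
    simpa [ht, mul_assoc] using this)
  obtain ⟨a, ha, b, hb, hab, haj, -⟩ := h.involution_dec (h.no_outer_involution htC ht2) ht2 ht1 htj
  obtain ⟨k, hk2, h₁, h₂, hc⟩ := h.exists_exponent
  obtain ⟨c, hc1, hca, hck, hcj⟩ := hc a ha haj
  set v := g⁻¹ * c * g with hv
  have hvC : v ∈ C := by
    refine Subgroup.mem_centralizer_singleton_iff.2 ?_
    have e : c * t = t * c := by rw [← hab, ← mul_assoc, hca, mul_assoc, h.comm c hc1 b hb, ← mul_assoc]
    calc v * j = g⁻¹ * (c * t) * g := by rw [hv, ht]; group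
      _ = j * v := by rw [e, hv, ht]; group
  have hvL : v ∈ L₁ ⊔ L₂ := hker v hvC (by
    rw [hv, map_mul, map_mul, hkill c (h.mem₁ hc1), mul_one, ← map_mul, inv_mul_cancel, map_one])
  have hconjpow : ∀ i : ℕ, v ^ i = g⁻¹ * c ^ i * g := fun i => by
    rw [hv, show g⁻¹ * c * g = g⁻¹ * c * (g⁻¹)⁻¹ by group, conj_pow, inv_inv]
  rcases h.power_mem (by omega) h₁ h₂ hvL ⟨k, by rw [hconjpow, hck]; group⟩ with e | e
  · rw [hconjpow, hcj] at e
    exact h.j_ne (by
      have := congrArg (fun u => g * u * g⁻¹) e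
      simpa [mul_assoc] using this)
  · rw [hconjpow, hcj] at e
    apply htj
    rw [ht]
    calc g * j * g⁻¹ = g * (g⁻¹ * j * g) * g⁻¹ := by rw [e]
      _ = j := by group

end Setup

/-- The theorem. -/
theorem main {F₁ : Type*} [Field F₁] [Fintype F₁] {F₂ : Type*} [Field F₂] [Fintype F₂]
    (hF₁ : Odd (Fintype.card F₁)) (hF₂ : Odd (Fintype.card F₂)) (L₁ L₂ : Subgroup G)
    (e₁ : L₁ ≃* SL(2, F₁)) (e₂ : L₂ ≃* SL(2, F₂)) (hc : ∀ x ∈ L₁, ∀ y ∈ L₂, x * y = y * x) (j : G)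
    (hj : orderOf j = 2) (hm : L₁ ⊓ L₂ = zpowers j) (hle : L₁ ⊔ L₂ ≤ centralizer ({j} : Set G))
    (hi : (L₁ ⊔ L₂).relIndex (centralizer ({j} : Set G)) = 2) (n : G) (hn : n ∈ centralizer ({j} : Set G))
    (hn2 : n ^ 2 = j) (hswap : L₁.map (MulAut.conj n).toMonoidHom = L₂) :
    centralizer ({j} : Set G) ⊔ Cfsg.oddCore G = ⊤ := by
  have hj12 := (Subgroup.mem_inf.1 (hm ▸ mem_zpowers j : j ∈ L₁ ⊓ L₂))
  have hj2 : j * j = 1 := by rw [← pow_two, ← hj, pow_orderOf_eq_one]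
  have hj1 : j ≠ 1 := fun e => by simp [e] at hj
  have hfacts : ∀ {F : Type _} [Field F] [Fintype F], Odd (Fintype.card F) → ∀ (L : Subgroup G) (hjL : j ∈ L)
      (e : L ≃* SL(2, F)), Facts L ⟨j, hjL⟩ := by
    intro F _ _ hF L hjL e
    have h1 := (facts_sl hF).map e.symm
    rcases h1.uniq ⟨j, hjL⟩ (Subtype.ext hj2) with h2 | h2
    · exact absurd (congrArg Subtype.val h2) hj1
    · rwa [← h2] at h1
  have hfacts2 : Facts L₂ ⟨j, hj12.2⟩ := by
    have h1 := (facts_sl hF₂).map e₂.symm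
    rcases h1.uniq ⟨j, hj12.2⟩ (Subtype.ext hj2) with h2 | h2
    · exact absurd (congrArg Subtype.val h2) hj1
    · rwa [← h2] at h1
  have hn' : n * n = j := by rw [← pow_two]; exact hn2
  have hL1 : ∀ x ∈ L₁, n * x * n⁻¹ ∈ L₂ := fun x hx => by rw [← hswap]; exact ⟨x, hx, rfl⟩
  have hL2 : ∀ y ∈ L₂, n * y * n⁻¹ ∈ L₁ := by
    intro y hy
    rw [← hswap] at hy
    obtain ⟨x, hx, rfl⟩ := hy
    show n * (n * x * n⁻¹) * n⁻¹ ∈ L₁
    rw [show n * (n * x * n⁻¹) * n⁻¹ = (n * n) * x * (n * n)⁻¹ by group, hn']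
    exact mul_mem (mul_mem hj12.1 hx) (inv_mem hj12.1)
  have hset : Setup L₁ L₂ j n := ⟨⟨hj12.1, hfacts hF₁ L₁ hj12.1 e₁⟩, ⟨hj12.2, hfacts2⟩, hc, fun x hx hx' => by
    obtain ⟨i, rfl⟩ := Subgroup.mem_zpowers_iff.1 (hm ▸ Subgroup.mem_inf.2 ⟨hx, hx'⟩ : x ∈ zpowers j)
    rw [← zpow_mod_orderOf, hj]
    rcases Int.emod_two_eq_zero_or_one i with e | e
    · exact Or.inl (by norm_num [e])
    · exact Or.inr (by norm_num [e]), hi, hle, hn', hL1, hL2⟩
  have hiso := hset.isolated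
  rw [eq_top_iff]
  intro g _
  obtain ⟨k, ⟨⟨hk, hkinv⟩, hgk⟩, -⟩ := Cfsg.Agent.S1185.result j hiso g
  have hkO : k ∈ Cfsg.oddCore G := by
    have h1 := Cfsg.Lib.ZStarApps.zstarProp hiso k
    rw [hkinv] at h1
    have h2 : k * k ∈ Cfsg.oddCore G := by
      have := inv_mem h1
      simpa using this
    obtain ⟨m, hm'⟩ := hk
    have e : k = (k * k) ^ (m + 1) := by
      rw [← pow_two, ← pow_mul, show 2 * (m + 1) = orderOf k + 1 by omega, pow_succ, pow_orderOf_eq_one, one_mul]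
    rw [e]
    exact pow_mem h2 _
  have : g = k * (g⁻¹ * k)⁻¹ := by group
  rw [this]
  exact mul_mem (mem_sup_right hkO) (inv_mem (mem_sup_left hgk))

end Cfsg.Lib.SwapSLPair
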