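import Cfsg.Agent.InvolCalc.ZStarApps
import Cfsg.Agent.Transfer.Basic

/-!
Automorphisms fixing a Sylow 2-subgroup element by element: their derived group has odd order
when the odd core is trivial.
-/

set_option autoImplicit false
set_option linter.style.haveILetI false
set_option linter.unusedSectionVars false

namespace Cfsg.Lib.SylowCentralizingAut

open Subgroup
open scoped commutatorElement

universe u v

/-- every 2-subgroup of `H` has an `H`-conjugate inside `S` -/
def CatchesTwo {G : Type u} [Group G] (S H : Subgroup G) : Prop :=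
  ∀ V : Subgroup G, IsPGroup 2 V → V ≤ H → ∃ a ∈ H, ∀ v ∈ V, a * v * a⁻¹ ∈ S

variable {G : Type u} [Group G] [Finite G]

theorem eq_one_of_two_odd {x : G} {i : ℕ} (h1 : orderOf x ∣ 2 ^ i) (h2 : (orderOf x).Coprime 2) : x = 1 :=
  orderOf_eq_one_iff.1 (Nat.eq_one_of_dvd_coprimes (h2.pow_right i) dvd_rfl h1)

theorem isPGroup_conj {V : Subgroup G} (hV : IsPGroup 2 V) (g : G) :
    IsPGroup 2 ↥(V.map (MulAut.conj g).toMonoidHom) := hV.map _

theorem conj_mem_normalizer {P : Subgroup G} {g x : G} (hx : x ∈ normalizer (P : Set G)) :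
    g * x * g⁻¹ ∈ normalizer (P.map (MulAut.conj g).toMonoidHom : Set G) :=
  le_normalizer_map (MulAut.conj g).toMonoidHom ⟨x, hx, rfl⟩

/-- a fully normalized conjugate -/
theorem exists_catches (S : Sylow 2 G) {P : Subgroup G} (hP : P ≤ S) (hpow : IsPGroup 2 P) :
    ∃ g : G, (∀ y ∈ (S : Subgroup G), y ∈ normalizer (P : Set G) → g * y * g⁻¹ ∈ (S : Subgroup G)) ∧
      CatchesTwo (S : Subgroup G) (normalizer (P.map (MulAut.conj g).toMonoidHom : Set G)) := by
  haveI : Fact (Nat.Prime 2) := ⟨Nat.prime_two⟩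
  set N := normalizer (P : Set G)
  have hVp : IsPGroup 2 ↥(((S : Subgroup G) ⊓ N).subgroupOf N) :=
    (S.isPGroup'.to_le (inf_le_left : (S : Subgroup G) ⊓ N ≤ S)).of_equiv
      (subgroupOfEquivOfLe (inf_le_right : (S : Subgroup G) ⊓ N ≤ N)).symm
  obtain ⟨T, hT⟩ := hVp.exists_le_sylow
  obtain ⟨g, -, hg⟩ := Cfsg.Lib.ZStarApps.exists_conj_mem_sylow S le_top
    (T.isPGroup'.map N.subtype) le_top
  refine ⟨g, fun y hy hyN => hg y ⟨⟨y, hyN⟩, hT (mem_subgroupOf.2 ⟨hy, hyN⟩), rfl⟩, ?_⟩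
  intro V hV hVR
  -- pull back to the normalizer of `P`
  have hV' : V.map (MulAut.conj g⁻¹).toMonoidHom ≤ N := by
    rintro _ ⟨v, hv, rfl⟩
    have h := conj_mem_normalizer (g := g⁻¹) (hVR hv)
    rwa [Cfsg.Lib.Transfer.map_conj_map_conj, inv_mul_cancel, Cfsg.Lib.Transfer.map_conj_one] at h
  obtain ⟨R, hR⟩ := ((isPGroup_conj hV g⁻¹).of_equiv (subgroupOfEquivOfLe hV').symm).exists_le_sylow
  obtain ⟨b, hb⟩ := MulAction.exists_smul_eq N R T
  refine ⟨g * b * g⁻¹, conj_mem_normalizer b.2, fun v hv => ?_⟩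
  have h1 : b * (⟨g⁻¹ * v * (g⁻¹)⁻¹, hV' ⟨v, hv, rfl⟩⟩ : N) * b⁻¹ ∈ ((b • R : Sylow 2 N) : Subgroup N) :=
    ⟨_, hR (mem_subgroupOf.2 ⟨v, hv, rfl⟩), rfl⟩
  rw [hb] at h1
  have h2 := hg _ ⟨_, h1, rfl⟩
  convert h2 using 1
  simp [mul_assoc]

theorem catches_centralizer (S : Sylow 2 G) {R : Subgroup G}
    (h : CatchesTwo (S : Subgroup G) (normalizer (R : Set G))) :
    CatchesTwo (S : Subgroup G) (centralizer (R : Set G)) := by
  haveI : Fact (Nat.Prime 2) := ⟨Nat.prime_two⟩
  intro V hV hVC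
  set K := centralizer (R : Set G)
  obtain ⟨W, hW⟩ := (hV.of_equiv (subgroupOfEquivOfLe hVC).symm).exists_le_sylow
  obtain ⟨a, ha, haS⟩ := h ((W : Subgroup K).map K.subtype) (W.isPGroup'.map _)
    ((map_subtype_le _).trans (centralizer_le_normalizer (R : Set G)))
  have haK : ∀ w ∈ (W : Subgroup K), a * (w : G) * a⁻¹ ∈ K := by
    intro w _
    refine mem_centralizer_iff.2 fun r hr => ?_
    have hr' : a⁻¹ * r * a ∈ R := by
      have := (mem_normalizer_iff.1 (inv_mem ha) r).1 hr
      simpa [mul_assoc] using this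
    have hc := mem_centralizer_iff.1 w.2 _ hr'
    calc r * (a * (w : G) * a⁻¹) = a * (a⁻¹ * r * a * w) * a⁻¹ := by group
      _ = a * ((w : G) * (a⁻¹ * r * a)) * a⁻¹ := by rw [hc]
      _ = a * (w : G) * a⁻¹ * r := by group
  obtain ⟨W', hW'⟩ := ((S.isPGroup'.to_le (inf_le_left : (S : Subgroup G) ⊓ K ≤ S)).of_equiv
    (subgroupOfEquivOfLe (inf_le_right : (S : Subgroup G) ⊓ K ≤ K)).symm).exists_le_sylow
  -- `S ⊓ K` is a Sylow subgroup of `K`
  have hfull : (W' : Subgroup K) = ((S : Subgroup G) ⊓ K).subgroupOf K := by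
    refine (Subgroup.eq_of_le_of_card_ge hW' ?_).symm
    rw [W'.card_eq_multiplicity, ← W.card_eq_multiplicity]
    refine Nat.card_le_card_of_injective
      (fun w : (W : Subgroup K) => (⟨⟨a * (w : G) * a⁻¹, haK _ w.2⟩,
        mem_subgroupOf.2 ⟨haS _ ⟨_, w.2, rfl⟩, haK _ w.2⟩⟩ : ((S : Subgroup G) ⊓ K).subgroupOf K)) ?_
    intro x y hxy
    have h' := congrArg (fun z : ((S : Subgroup G) ⊓ K).subgroupOf K => ((z : K) : G)) hxy
    exact Subtype.ext (Subtype.ext (mul_left_cancel (mul_right_cancel h')))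
  obtain ⟨k, hk⟩ := MulAction.exists_smul_eq K W W'
  refine ⟨k, k.2, fun v hv => ?_⟩
  have h1 : k * (⟨v, hVC hv⟩ : K) * k⁻¹ ∈ ((k • W : Sylow 2 K) : Subgroup K) :=
    ⟨_, hW (mem_subgroupOf.2 hv), rfl⟩
  rw [hk, hfull] at h1
  exact (mem_subgroupOf.1 h1).1

theorem fixed_in_coset {σ : MulAut G} {k : ℕ} (hk : σ ^ 2 ^ k = 1) (O : Subgroup G) (hOodd : Odd (Nat.card O))
    (hOinv : ∀ o ∈ O, σ o ∈ O) {n : G} (hn : σ n * n⁻¹ ∈ O) : ∃ o ∈ O, σ (o * n) = o * n := by
  classical
  haveI : Fact (Nat.Prime 2) := ⟨Nat.prime_two⟩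
  let X := {x : G // x * n⁻¹ ∈ O}
  haveI : Fintype X := Fintype.ofFinite X
  have hX : ∀ x : X, σ x * n⁻¹ ∈ O := fun x => by
    have h1 := mul_mem (hOinv _ x.2) hn
    simpa [mul_assoc] using h1
  let f : X → X := fun x => ⟨σ x, hX x⟩
  have hf : Function.Injective f := fun x y h => Subtype.ext (σ.injective (congrArg Subtype.val h))
  let π : Equiv.Perm X := Equiv.ofBijective f (Finite.injective_iff_bijective.1 hf)
  have hπ : ∀ (j : ℕ) (x : X), ((π ^ j) x : G) = (σ ^ j) x := by
    intro j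
    induction j with
    | zero => intro x; rfl
    | succ j ih => intro x; rw [pow_succ', pow_succ', Equiv.Perm.mul_apply, MulAut.mul_apply, ← ih x]; rfl
  have hπk : π ^ 2 ^ k = 1 := Equiv.ext fun x => Subtype.ext (by rw [hπ, hk]; rfl)
  have hcard : ¬ 2 ∣ Fintype.card X := by
    have e : X ≃ O :=
      { toFun := fun x => ⟨x.1 * n⁻¹, x.2⟩
        invFun := fun o => ⟨o * n, by simp⟩
        left_inv := fun x => Subtype.ext (by simp)
        right_inv := fun o => Subtype.ext (by simp) }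
    rw [← Nat.card_eq_fintype_card, Nat.card_congr e, ← even_iff_two_dvd, Nat.not_even_iff_odd]
    exact hOodd
  obtain ⟨x, hx⟩ := Equiv.Perm.exists_fixed_point_of_prime hcard hπk
  exact ⟨x.1 * n⁻¹, x.2, by rw [inv_mul_cancel_right]; exact congrArg Subtype.val hx⟩

section Fusion

variable {C : Type v} [Group C] (φ : C →* MulAut G) (t : C) (S : Sylow 2 G)

/-- the conjugation by `n` on `P` is induced by an element fixed by `t` -/
def Realised (P : Subgroup G) (n : G) : Prop :=
  ∃ c : G, φ t c = c ∧ ∀ p ∈ P, c * p * c⁻¹ = n * p * n⁻¹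

theorem realised_centric (hS : ∀ (q : C), ∀ s ∈ (S : Subgroup G), φ q s = s) (ht : t ∈ commutator C)
    {k : ℕ} (hk : φ t ^ 2 ^ k = 1) {R : Subgroup G} (hRS : R ≤ S)
    (hR : CatchesTwo (S : Subgroup G) (centralizer (R : Set G)))
    (hc : ∀ y ∈ (S : Subgroup G), y ∈ centralizer (R : Set G) → y ∈ R)
    {a : G} (ha : ∀ r ∈ R, a * r * a⁻¹ ∈ R) : Realised φ t R a := by
  haveI : Fact (Nat.Prime 2) := ⟨Nat.prime_two⟩
  set K := centralizer (R : Set G) with hK
  obtain ⟨W⟩ : Nonempty (Sylow 2 K) := inferInstance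
  have hWc : ∀ w ∈ (W : Subgroup K), ∀ x : K, w * x = x * w := by
    intro w hw x
    obtain ⟨b, hb, hbS⟩ := hR ((W : Subgroup K).map K.subtype) (W.isPGroup'.map _) (map_subtype_le _)
    have hy := hbS _ ⟨w, hw, rfl⟩
    have hyR := hc _ hy (mul_mem (mul_mem hb w.2) (inv_mem hb))
    have hwR : (w : G) ∈ R := by
      have hcomm := mem_centralizer_iff.1 hb _ hyR
      have : (w : G) = b * (w : G) * b⁻¹ := by
        have h2 : b * (w : G) * b⁻¹ * b = b * (b * (w : G) * b⁻¹) := hcomm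
        rw [inv_mul_cancel_right] at h2
        exact mul_left_cancel h2
      rw [this]; exact hyR
    exact Subtype.ext (mem_centralizer_iff.1 x.2 _ hwR)
  have hWR : ∀ w ∈ (W : Subgroup K), ∀ q : C, φ q (w : G) = w := by
    intro w hw q
    obtain ⟨b, hb, hbS⟩ := hR ((W : Subgroup K).map K.subtype) (W.isPGroup'.map _) (map_subtype_le _)
    have hy := hbS _ ⟨w, hw, rfl⟩
    have hcomm := hWc w hw ⟨b, hb⟩
    have h1 : b * (w : G) * b⁻¹ = w := by
      have h2 : (w : G) * b = b * w := congrArg Subtype.val hcomm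
      rw [← h2, mul_inv_cancel_right]
    rw [← h1]; exact hS q _ hy
  haveI : IsMulCommutative (W : Subgroup K) := ⟨⟨fun x y => Subtype.ext (hWc x x.2 y)⟩⟩
  have hP : normalizer ((W : Subgroup K) : Set K) ≤ centralizer ((W : Subgroup K) : Set K) :=
    fun x _ => mem_centralizer_iff.2 fun w hw => hWc w hw x
  set ρ := MonoidHom.transferSylow W hP
  have hcompl : IsComplement' ρ.ker (W : Subgroup K) := MonoidHom.ker_transferSylow_isComplement' W hP
  obtain ⟨hcop, j, hj⟩ := Cfsg.Lib.Transfer.complement_props hcompl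
  have hKinv : ∀ (q : C), ∀ x ∈ K, φ q x ∈ K := by
    intro q x hx
    refine mem_centralizer_iff.2 fun r hr => ?_
    rw [← hS q r (hRS hr), ← map_mul, mem_centralizer_iff.1 hx r hr, map_mul]
  let act : C → K → K := fun q x => ⟨φ q x, hKinv q x x.2⟩
  have hact_ord : ∀ q x, orderOf (act q x) = orderOf x := fun q x => by
    rw [← Subgroup.orderOf_coe, ← Subgroup.orderOf_coe]
    exact orderOf_injective (φ q).toMonoidHom (φ q).injective _
  have hker : ∀ q x, x ∈ ρ.ker → act q x ∈ ρ.ker := fun q x hx => by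
    rw [Cfsg.Lib.Transfer.mem_iff_coprime_orderOf hcop hj] at hx ⊢
    rwa [hact_ord]
  have hρ : ∀ q x, ρ (act q x) = ρ x := by
    intro q x
    obtain ⟨m, hm, w, hw, rfl⟩ : ∃ m ∈ ρ.ker, ∃ w ∈ (W : Subgroup K), m * w = x :=
      mem_sup_of_normal_left.1 (hcompl.sup_eq_top.ge (mem_top x))
    have e : act q (m * w) = act q m * w := Subtype.ext (by
      show φ q ((m : G) * w) = φ q (m : G) * w
      rw [map_mul, hWR w hw q])
    rw [e, map_mul, map_mul, MonoidHom.mem_ker.1 (hker q m hm), MonoidHom.mem_ker.1 hm]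
  have ha' : ∀ q : C, φ q a * a⁻¹ ∈ K := by
    intro q
    refine mem_centralizer_iff.2 fun r hr => ?_
    have hfin : Set.MapsTo (fun y => a * y * a⁻¹) (R : Set G) R := fun y hy => ha y hy
    obtain ⟨r', hr', hrr⟩ := ((Set.toFinite (R : Set G)).injOn_iff_bijOn_of_mapsTo hfin |>.1
      (fun x _ y _ h => mul_left_cancel (mul_right_cancel h))).surjOn hr
    have h1 : φ q a * r' * (φ q a)⁻¹ = r := by
      have := congrArg (φ q) hrr
      simp only [map_mul, map_inv, hS q r' (hRS hr'), hS q r (hRS hr)] at this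
      exact this
    calc r * (φ q a * a⁻¹) = φ q a * r' * (φ q a)⁻¹ * (φ q a * a⁻¹) := by rw [h1]
      _ = φ q a * a⁻¹ * (a * r' * a⁻¹) := by group
      _ = φ q a * a⁻¹ * r := by rw [show a * r' * a⁻¹ = r from hrr]
  let F : C →* (W : Subgroup K) :=
    MonoidHom.mk' (fun q => ρ ⟨φ q a * a⁻¹, ha' q⟩) (fun q₁ q₂ => by
      have e : (⟨φ (q₁ * q₂) a * a⁻¹, ha' _⟩ : K) = act q₁ ⟨φ q₂ a * a⁻¹, ha' q₂⟩ * ⟨φ q₁ a * a⁻¹, ha' q₁⟩ :=
        Subtype.ext (by
          show φ (q₁ * q₂) a * a⁻¹ = φ q₁ (φ q₂ a * a⁻¹) * (φ q₁ a * a⁻¹)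
          rw [map_mul φ, MulAut.mul_apply, map_mul, map_inv]; group)
      rw [e, map_mul, hρ]
      exact mul_comm' _ _)
  have hF : t ∈ F.ker := by
    refine (commutator_le.2 fun p _ q _ => ?_ : commutator C ≤ F.ker) ht
    rw [MonoidHom.mem_ker, commutatorElement_def, map_mul, map_mul, map_mul, map_inv, map_inv,
      mul_comm' (F p) (F q)]
    group
  set O := ρ.ker.map K.subtype
  have hOodd : Odd (Nat.card O) := by
    rw [card_map_of_injective K.subtype_injective]
    exact Nat.coprime_two_right.1 hcop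
  obtain ⟨o, ⟨o', ho', rfl⟩, hofix⟩ := fixed_in_coset hk O hOodd (by
      rintro _ ⟨x, hx, rfl⟩
      exact ⟨act t x, hker t x hx, rfl⟩) (n := a) ⟨⟨φ t a * a⁻¹, ha' t⟩, hF, rfl⟩
  refine ⟨(o' : G) * a, hofix, fun r hr => ?_⟩
  have hc' := mem_centralizer_iff.1 o'.2 _ (ha r hr)
  calc (o' : G) * a * r * ((o' : G) * a)⁻¹ = (o' : G) * (a * r * a⁻¹) * (o' : G)⁻¹ := by group
    _ = a * r * a⁻¹ := by rw [← hc', mul_inv_cancel_right]

theorem realised (hS : ∀ (q : C), ∀ s ∈ (S : Subgroup G), φ q s = s) (ht : t ∈ commutator C)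
    {k : ℕ} (hk : φ t ^ 2 ^ k = 1) (m : ℕ) : ∀ (P : Subgroup G), P ≤ (S : Subgroup G) →
      Nat.card (S : Subgroup G) < Nat.card P + m → ∀ n : G, (∀ p ∈ P, n * p * n⁻¹ ∈ (S : Subgroup G)) →
      Realised φ t P n := by
  haveI : Fact (Nat.Prime 2) := ⟨Nat.prime_two⟩
  induction m with
  | zero =>
    intro P hP hc
    have := Nat.le_of_dvd Nat.card_pos (card_dvd_of_le hP)
    omega
  | succ m ih =>
    intro P hP hc n hn
    have hPp : IsPGroup 2 P := S.isPGroup'.to_le hP
    -- a strictly larger overgroup reduces to the induction hypothesis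
    have hup : ∀ (Q Q' : Subgroup G) (b : G), Nat.card Q = Nat.card P → Q < Q' → Q' ≤ (S : Subgroup G) →
        (∀ y ∈ Q', b * y * b⁻¹ ∈ (S : Subgroup G)) → Realised φ t Q b := by
      intro Q Q' b hQ hlt hQ' hb
      have hlt' : Nat.card Q < Nat.card Q' := by
        refine lt_of_le_of_ne (Nat.le_of_dvd Nat.card_pos (card_dvd_of_le hlt.le)) fun e => hlt.ne ?_
        exact Subgroup.eq_of_le_of_card_ge hlt.le e.ge
      obtain ⟨c, h1, h2⟩ := ih Q' hQ' (by omega) b hb
      exact ⟨c, h1, fun p hp => h2 p (hlt.le hp)⟩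
    -- the fully normalized conjugate
    obtain ⟨g, hg, hR⟩ := exists_catches S hP hPp
    set R := P.map (MulAut.conj g).toMonoidHom with hRdef
    have hRS : R ≤ (S : Subgroup G) := by
      rintro _ ⟨p, hp, rfl⟩
      exact hg p (hP hp) (le_normalizer hp)
    have hRc : Nat.card R = Nat.card P := card_map_of_injective (MulAut.conj g).injective
    have hbig : ∀ Q : Subgroup G, Q < (S : Subgroup G) → Q < (S : Subgroup G) ⊓ normalizer (Q : Set G) := by
      intro Q hQ
      haveI : Group.IsNilpotent (S : Subgroup G) := S.isPGroup'.isNilpotent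
      have hlt : Q.subgroupOf (S : Subgroup G) < ⊤ := lt_top_iff_ne_top.2 fun e =>
        hQ.ne (le_antisymm hQ.le (subgroupOf_eq_top.1 e))
      obtain ⟨s, hs, hsQ⟩ := SetLike.exists_of_lt (normalizerCondition_of_isNilpotent _ hlt)
      refine lt_of_le_of_ne (le_inf hQ.le le_normalizer) fun e => hsQ (mem_subgroupOf.2 ?_)
      rw [e]
      refine ⟨s.2, mem_normalizer_iff.2 fun x => ⟨fun hx => ?_, fun hx => ?_⟩⟩
      · exact mem_subgroupOf.1 ((mem_normalizer_iff.1 hs ⟨x, hQ.le hx⟩).1 (mem_subgroupOf.2 hx))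
      · have hxS : x ∈ (S : Subgroup G) := by
          have := mul_mem (mul_mem (inv_mem s.2) (hQ.le hx)) s.2
          simpa [mul_assoc] using this
        exact mem_subgroupOf.1 ((mem_normalizer_iff.1 hs ⟨x, hxS⟩).2 (mem_subgroupOf.2 hx))
    -- automorphisms of `R`
    have hauto : ∀ a : G, (∀ r ∈ R, a * r * a⁻¹ ∈ R) → Realised φ t R a := by
      intro a ha
      by_cases hcen : ∀ y ∈ (S : Subgroup G), y ∈ centralizer (R : Set G) → y ∈ R
      · exact realised_centric φ t S hS ht hk hRS (catches_centralizer S hR) hcen ha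
      push Not at hcen
      obtain ⟨y, hyS, hyC, hyR⟩ := hcen
      set D := (S : Subgroup G) ⊓ centralizer (R : Set G)
      have haN : a ∈ normalizer (R : Set G) := by
        have e : R.map (MulAut.conj a).toMonoidHom = R :=
          Subgroup.eq_of_le_of_card_ge (by rintro _ ⟨r, hr, rfl⟩; exact ha r hr)
            (card_map_of_injective (MulAut.conj a).injective).ge
        exact Cfsg.Lib.Transfer.map_conj_eq_self_iff.1 e
      have hDC : D.map (MulAut.conj a).toMonoidHom ≤ centralizer (R : Set G) := by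
        rintro _ ⟨d, hd, rfl⟩
        refine mem_centralizer_iff.2 fun r hr => ?_
        have hr' : a⁻¹ * r * a ∈ R := by
          have := (mem_normalizer_iff.1 (inv_mem haN) r).1 hr
          simpa [mul_assoc] using this
        have hc1 := mem_centralizer_iff.1 hd.2 _ hr'
        show r * (a * d * a⁻¹) = a * d * a⁻¹ * r
        calc r * (a * d * a⁻¹) = a * (a⁻¹ * r * a * d) * a⁻¹ := by group
          _ = a * (d * (a⁻¹ * r * a)) * a⁻¹ := by rw [hc1]
          _ = a * d * a⁻¹ * r := by group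
      obtain ⟨b, hb, hbS⟩ := catches_centralizer S hR _
        (isPGroup_conj (S.isPGroup'.to_le (inf_le_left : D ≤ S)) a) hDC
      have hres := hup R (R ⊔ D) (b * a) hRc
        (lt_of_le_of_ne le_sup_left fun e => hyR (e.ge (mem_sup_right ⟨hyS, hyC⟩)))
        (sup_le hRS inf_le_left) (by
          have hle : R ⊔ D ≤ (S : Subgroup G).comap (MulAut.conj (b * a)).toMonoidHom := by
            refine sup_le (fun r hr => ?_) (fun d hd => ?_)
            · show b * a * r * (b * a)⁻¹ ∈ (S : Subgroup G)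
              have hcb := mem_centralizer_iff.1 hb _ (ha r hr)
              rw [show b * a * r * (b * a)⁻¹ = b * (a * r * a⁻¹) * b⁻¹ by group, ← hcb, mul_inv_cancel_right]
              exact hRS (ha r hr)
            · show b * a * d * (b * a)⁻¹ ∈ (S : Subgroup G)
              rw [show b * a * d * (b * a)⁻¹ = b * (a * d * a⁻¹) * b⁻¹ by group]
              exact hbS _ ⟨d, hd, rfl⟩
          exact fun y hy => hle hy)
      obtain ⟨c, h1, h2⟩ := hres
      refine ⟨c, h1, fun r hr => (h2 r hr).trans ?_⟩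
      have hcb := mem_centralizer_iff.1 hb _ (ha r hr)
      rw [show b * a * r * (b * a)⁻¹ = b * (a * r * a⁻¹) * b⁻¹ by group, ← hcb, mul_inv_cancel_right]
    by_cases hPS : P = (S : Subgroup G)
    · -- the Sylow subgroup itself: `n` normalizes it
      have hcen : ∀ y ∈ (S : Subgroup G), y ∈ centralizer (P : Set G) → y ∈ P := fun y hy _ => hPS ▸ hy
      have hNS : CatchesTwo (S : Subgroup G) (normalizer (P : Set G)) := by
        intro V hV hVN
        obtain ⟨a, ha, hav⟩ := Cfsg.Lib.ZStarApps.exists_conj_mem_sylow S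
          (hPS ▸ le_normalizer : (S : Subgroup G) ≤ normalizer (P : Set G)) hV hVN
        exact ⟨a, ha, hav⟩
      exact realised_centric φ t S hS ht hk hP (catches_centralizer S hNS) hcen
        (fun p hp => hPS ▸ hn p hp)
    have hPlt : P < (S : Subgroup G) := lt_of_le_of_ne hP hPS
    obtain ⟨c1, hc1, hc1'⟩ := hup P _ g rfl (hbig P hPlt) inf_le_left (fun y hy => hg y hy.1 hy.2)
    set P' := P.map (MulAut.conj n).toMonoidHom with hP'
    have hP'S : P' ≤ (S : Subgroup G) := by rintro _ ⟨p, hp, rfl⟩; exact hn p hp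
    have hP'c : Nat.card P' = Nat.card P := card_map_of_injective (MulAut.conj n).injective
    have hP'lt : P' < (S : Subgroup G) := lt_of_le_of_ne hP'S fun e => hPS
      (Subgroup.eq_of_le_of_card_ge hP (by rw [← hP'c, e]))
    have hRP' : P'.map (MulAut.conj (g * n⁻¹)).toMonoidHom = R := by
      rw [hP', Cfsg.Lib.Transfer.map_conj_map_conj, inv_mul_cancel_right, hRdef]
    obtain ⟨a, haN, haS⟩ := hR (((S : Subgroup G) ⊓ normalizer (P' : Set G)).map (MulAut.conj (g * n⁻¹)).toMonoidHom)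
      (isPGroup_conj (S.isPGroup'.to_le inf_le_left) _) (by
        rintro _ ⟨y, hy, rfl⟩
        have h := conj_mem_normalizer (g := g * n⁻¹) hy.2
        rwa [hRP'] at h)
    obtain ⟨c2, hc2, hc2'⟩ := hup P' _ (a * (g * n⁻¹)) hP'c (hbig P' hP'lt) inf_le_left (by
      intro y hy
      rw [show a * (g * n⁻¹) * y * (a * (g * n⁻¹))⁻¹ = a * ((g * n⁻¹) * y * (g * n⁻¹)⁻¹) * a⁻¹ by group]
      exact haS _ ⟨y, hy, rfl⟩)
    obtain ⟨c3, hc3, hc3'⟩ := hauto a fun r hr => (mem_normalizer_iff.1 haN r).1 hr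
    refine ⟨c2⁻¹ * c3 * c1, by rw [map_mul, map_mul, map_inv, hc1, hc2, hc3], fun p hp => ?_⟩
    have h1 := hc1' p hp
    have h3 := hc3' _ (⟨p, hp, rfl⟩ : g * p * g⁻¹ ∈ R)
    have h2 := hc2' _ (⟨p, hp, rfl⟩ : n * p * n⁻¹ ∈ P')
    have h4 : c2⁻¹ * (a * (g * p * g⁻¹) * a⁻¹) * c2 = n * p * n⁻¹ := by
      rw [show a * (g * p * g⁻¹) * a⁻¹ = a * (g * n⁻¹) * (n * p * n⁻¹) * (a * (g * n⁻¹))⁻¹ by group, ← h2]
      group
    calc c2⁻¹ * c3 * c1 * p * (c2⁻¹ * c3 * c1)⁻¹
        = c2⁻¹ * (c3 * (c1 * p * c1⁻¹) * c3⁻¹) * c2 := by group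
      _ = n * p * n⁻¹ := by rw [h1, h3, h4]

end Fusion

/-- no element moved by `t` differs from its image by an element of `S` -/
theorem isolated_aux {C : Type v} [Group C] (m : ℕ) : ∀ (G : Type u) [Group G] [Finite G], Nat.card G ≤ m →
    ∀ (φ : C →* MulAut G) (t : C) (S : Sylow 2 G), (∀ (q : C), ∀ s ∈ (S : Subgroup G), φ q s = s) →
      t ∈ commutator C → ∀ k : ℕ, φ t ^ 2 ^ k = 1 → ∀ n : G, n * φ t n⁻¹ ∈ (S : Subgroup G) → n * φ t n⁻¹ = 1 := by
  haveI : Fact (Nat.Prime 2) := ⟨Nat.prime_two⟩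
  induction m with
  | zero => intro G _ _ hc; exact absurd hc (by have := Nat.card_pos (α := G); omega)
  | succ m ih =>
    intro G _ _ hcard φ t S hS ht k hk n₀ hn₀
    set x₀ := n₀ * φ t n₀⁻¹ with hx₀
    have hfus := fun (P : Subgroup G) (hP : P ≤ (S : Subgroup G)) =>
      realised φ t S hS ht hk (Nat.card (S : Subgroup G) + 1) P hP (by omega)
    -- make `x₀` fully centralized
    set P₀ := (S : Subgroup G) ⊓ centralizer ({x₀} : Set G)
    obtain ⟨W, hW⟩ := ((S.isPGroup'.to_le (inf_le_left : P₀ ≤ S)).of_equiv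
      (subgroupOfEquivOfLe (inf_le_right : P₀ ≤ centralizer ({x₀} : Set G))).symm).exists_le_sylow
    obtain ⟨g, -, hg⟩ := Cfsg.Lib.ZStarApps.exists_conj_mem_sylow S le_top
      (W.isPGroup'.map (centralizer ({x₀} : Set G)).subtype) le_top
    have hgP : ∀ p ∈ P₀, g * p * g⁻¹ ∈ (S : Subgroup G) := fun p hp =>
      hg p ⟨⟨p, hp.2⟩, hW (mem_subgroupOf.2 hp), rfl⟩
    obtain ⟨c₀, hc₀, hc₀'⟩ := hfus P₀ inf_le_left g hgP
    have hx₀P : x₀ ∈ P₀ := ⟨hn₀, mem_centralizer_singleton_iff.2 rfl⟩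
    set n := c₀ * n₀ with hn
    set x := n * φ t n⁻¹ with hx
    have hxe : x = g * x₀ * g⁻¹ := by
      rw [← hc₀' x₀ hx₀P, hx, hn, mul_inv_rev, map_mul, map_inv (φ t) c₀, hc₀, hx₀]
      group
    suffices hone : x = 1 by
      rw [hxe] at hone
      exact conj_eq_one_iff.1 hone
    have hxS : x ∈ (S : Subgroup G) := hxe ▸ hgP x₀ hx₀P
    set K := centralizer ({x} : Set G) with hK
    -- `S ⊓ K` is a Sylow subgroup of `K`
    have hKeq : K = (centralizer ({x₀} : Set G)).map (MulAut.conj g).toMonoidHom := by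
      ext y
      rw [Cfsg.Lib.Transfer.mem_map_conj, hK, mem_centralizer_singleton_iff, mem_centralizer_singleton_iff, hxe]
      constructor <;> intro h
      · calc g⁻¹ * y * g * x₀ = g⁻¹ * (y * (g * x₀ * g⁻¹)) * g := by group
          _ = g⁻¹ * ((g * x₀ * g⁻¹) * y) * g := by rw [h]
          _ = x₀ * (g⁻¹ * y * g) := by group
      · calc y * (g * x₀ * g⁻¹) = g * (g⁻¹ * y * g * x₀) * g⁻¹ := by group
          _ = g * (x₀ * (g⁻¹ * y * g)) * g⁻¹ := by rw [h]
          _ = g * x₀ * g⁻¹ * y := by group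
    obtain ⟨SK, hSK⟩ : ∃ SK : Sylow 2 K, (SK : Subgroup K) = (S : Subgroup G).subgroupOf K := by
      have hp : IsPGroup 2 ((S : Subgroup G).subgroupOf K) := by
        have h1 := (S.isPGroup'.to_le (inf_le_left : (S : Subgroup G) ⊓ K ≤ S)).of_equiv
          (subgroupOfEquivOfLe (inf_le_right : (S : Subgroup G) ⊓ K ≤ K)).symm
        rwa [inf_subgroupOf_right] at h1
      refine ⟨Sylow.ofCard _ ?_, Sylow.coe_ofCard _ _⟩
      obtain ⟨SK, hle⟩ := hp.exists_le_sylow
      refine le_antisymm (SK.card_eq_multiplicity ▸ Nat.le_of_dvd Nat.card_pos (card_dvd_of_le hle)) ?_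
      have hcK : Nat.card K = Nat.card (centralizer ({x₀} : Set G)) := by
        rw [hKeq, card_map_of_injective (MulAut.conj g).injective]
      rw [hcK, ← W.card_eq_multiplicity]
      have hmemK : ∀ w : (W : Subgroup (centralizer ({x₀} : Set G))), g * ((w : centralizer ({x₀} : Set G)) : G) * g⁻¹ ∈ K :=
        fun w => hKeq ▸ ⟨_, (w : centralizer ({x₀} : Set G)).2, rfl⟩
      refine Nat.card_le_card_of_injective
        (fun w : (W : Subgroup (centralizer ({x₀} : Set G))) =>
          (⟨⟨g * ((w : centralizer ({x₀} : Set G)) : G) * g⁻¹, hmemK w⟩,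
            mem_subgroupOf.2 (hg _ ⟨_, w.2, rfl⟩)⟩ : (S : Subgroup G).subgroupOf K)) ?_
      intro a b hab
      have h' := congrArg (fun z : (S : Subgroup G).subgroupOf K => ((z : K) : G)) hab
      exact Subtype.ext (Subtype.ext (mul_left_cancel (mul_right_cancel h')))
    -- move the other image into `S`
    set P := (S : Subgroup G) ⊓ K
    have hPfix : ∀ p ∈ P, φ t (n⁻¹ * p * n) = n⁻¹ * p * n := by
      intro p hp
      have h1 : φ t n = x⁻¹ * n := by rw [hx, mul_inv_rev, map_inv, inv_inv, inv_mul_cancel_right]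
      rw [map_mul, map_mul, map_inv, h1, hS t p hp.1, mul_inv_rev, inv_inv]
      have hc : p * x = x * p := mem_centralizer_singleton_iff.1 hp.2
      calc n⁻¹ * x * p * (x⁻¹ * n) = n⁻¹ * (x * p) * x⁻¹ * n := by group
        _ = n⁻¹ * p * n := by rw [← hc]; group
    let M : Subgroup G :=
      { carrier := {y | φ t y = y}
        one_mem' := map_one _
        mul_mem' := fun {a b} (ha : φ t a = a) (hb : φ t b = b) => show φ t (a * b) = a * b by rw [map_mul, ha, hb]
        inv_mem' := fun {a} (ha : φ t a = a) => show φ t a⁻¹ = a⁻¹ by rw [map_inv, ha] }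
    obtain ⟨d, hd, hdS⟩ := Cfsg.Lib.ZStarApps.exists_conj_mem_sylow S (H := M) (fun s hs => hS t s hs)
      (isPGroup_conj (S.isPGroup'.to_le (inf_le_left : P ≤ S)) n⁻¹) (by
        rintro _ ⟨p, hp, rfl⟩
        show φ t (n⁻¹ * p * n⁻¹⁻¹) = n⁻¹ * p * n⁻¹⁻¹
        rw [inv_inv]; exact hPfix p hp)
    have hd' : φ t d = d := hd
    obtain ⟨c, hc, hc'⟩ := hfus P inf_le_left (d * n⁻¹) (fun p hp => by
      rw [show d * n⁻¹ * p * (d * n⁻¹)⁻¹ = d * (n⁻¹ * p * n⁻¹⁻¹) * d⁻¹ by group]
      exact hdS _ ⟨p, hp, rfl⟩)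
    set k₁ := n * d⁻¹ * c with hk₁
    have hk₁x : k₁ * φ t k₁⁻¹ = x := by
      rw [hk₁, hx, mul_inv_rev, mul_inv_rev, inv_inv, map_mul, map_mul, map_inv (φ t) c, hc, hd']
      group
    have hk₁K : k₁ ∈ K := by
      have hxP : x ∈ P := ⟨hxS, mem_centralizer_singleton_iff.2 rfl⟩
      have h1 := hc' x hxP
      refine mem_centralizer_singleton_iff.2 ?_
      calc k₁ * x = n * d⁻¹ * (c * x * c⁻¹) * c := by rw [hk₁]; group
        _ = x * k₁ := by rw [h1, hk₁]; group
    by_cases hlt : K = ⊤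
    swap
    · have hKinv : ∀ (q : C), ∀ y ∈ K, φ q y ∈ K := fun q y hy => mem_centralizer_singleton_iff.2 (by
        rw [← hS q x hxS, ← map_mul, mem_centralizer_singleton_iff.1 hy, map_mul])
      let res : C → MulAut K := fun q =>
        { toFun := fun y => ⟨φ q y, hKinv q y y.2⟩
          invFun := fun y => ⟨φ q⁻¹ y, hKinv q⁻¹ y y.2⟩
          left_inv := fun y => Subtype.ext (show φ q⁻¹ (φ q (y : G)) = y by
            rw [← MulAut.mul_apply, ← map_mul, inv_mul_cancel, map_one]; rfl)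
          right_inv := fun y => Subtype.ext (show φ q (φ q⁻¹ (y : G)) = y by
            rw [← MulAut.mul_apply, ← map_mul, mul_inv_cancel, map_one]; rfl)
          map_mul' := fun y z => Subtype.ext (map_mul (φ q) (y : G) z) }
      let ψ : C →* MulAut K := MonoidHom.mk' res (fun q r => MulEquiv.ext fun y => Subtype.ext (by
        show φ (q * r) (y : G) = φ q (φ r (y : G))
        rw [map_mul]; rfl))
      have hψk : ∀ (j : ℕ) (y : K), (((ψ t) ^ j) y : G) = (φ t ^ j) y := by
        intro j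
        induction j with
        | zero => intro y; rfl
        | succ j ihj => intro y; rw [pow_succ', pow_succ', MulAut.mul_apply, MulAut.mul_apply, ← ihj y]; rfl
      have hKlt : Nat.card K < Nat.card G :=
        lt_of_le_of_ne (Subgroup.card_le_card_group K) fun e => hlt (Subgroup.eq_top_of_card_eq K e)
      have := ih K (by omega) ψ t SK (fun q s hs => Subtype.ext (hS q _ (mem_subgroupOf.1 (hSK ▸ hs))))
        ht k (MulEquiv.ext fun y => Subtype.ext (by rw [hψk, hk]; rfl)) ⟨k₁, hk₁K⟩ (by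
          rw [hSK, mem_subgroupOf]
          show k₁ * φ t k₁⁻¹ ∈ (S : Subgroup G)
          rw [hk₁x]; exact hxS)
      have h := congrArg Subtype.val this
      rw [← hk₁x]
      exact h
    -- `x` is central: use the homomorphism to the center
    have hxZ : x ∈ center G := mem_center_iff.2 fun y =>
      mem_centralizer_singleton_iff.1 (hlt ▸ mem_top y : y ∈ K)
    let L : Subgroup G :=
      { carrier := {y | y * φ t y⁻¹ ∈ center G}
        one_mem' := by simp
        mul_mem' := fun {a b} (ha : a * φ t a⁻¹ ∈ center G) (hb : b * φ t b⁻¹ ∈ center G) => by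
          show a * b * φ t (a * b)⁻¹ ∈ center G
          rw [mul_inv_rev, map_mul, show a * b * (φ t b⁻¹ * φ t a⁻¹) = a * (b * φ t b⁻¹) * φ t a⁻¹ by group,
            mem_center_iff.1 hb a, mul_assoc]
          exact mul_mem hb ha
        inv_mem' := fun {a} (ha : a * φ t a⁻¹ ∈ center G) => by
          show a⁻¹ * φ t a⁻¹⁻¹ ∈ center G
          have h := inv_mem ha
          rw [mul_inv_rev, map_inv, inv_inv] at h
          have e : a⁻¹ * φ t a⁻¹⁻¹ = a⁻¹ * (φ t a * a⁻¹) * a := by simp [mul_assoc]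
          rw [e, mem_center_iff.1 h a⁻¹, inv_mul_cancel_right]
          exact h }
    let ψ : L →* center G := MonoidHom.mk' (fun y => ⟨(y : G) * φ t (y : G)⁻¹, y.2⟩) (fun a b => Subtype.ext (by
      show (a : G) * b * φ t ((a : G) * b)⁻¹ = (a : G) * φ t (a : G)⁻¹ * ((b : G) * φ t (b : G)⁻¹)
      rw [mul_inv_rev, map_mul, show (a : G) * b * (φ t (b : G)⁻¹ * φ t (a : G)⁻¹) =
        (a : G) * ((b : G) * φ t (b : G)⁻¹) * φ t (a : G)⁻¹ by group]
      rw [mul_assoc _ ((b : G) * φ t (b : G)⁻¹), ← mem_center_iff.1 b.2 (φ t (a : G)⁻¹), ← mul_assoc]))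
    have hSL : (S : Subgroup G) ≤ L := fun s hs => by
      show s * φ t s⁻¹ ∈ center G
      rw [hS t _ (inv_mem hs), mul_inv_cancel]; exact one_mem _
    have hk₁L : k₁ ∈ L := show k₁ * φ t k₁⁻¹ ∈ center G by rw [hk₁x]; exact hxZ
    have hkerS : (S : Subgroup G).subgroupOf L ≤ ψ.ker := fun s hs => MonoidHom.mem_ker.2 (Subtype.ext (by
      show (s : G) * φ t (s : G)⁻¹ = 1
      rw [hS t _ (inv_mem (mem_subgroupOf.1 hs)), mul_inv_cancel]))
    have hdvd : orderOf x ∣ ψ.range.index * Nat.card ψ.range := by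
      rw [index_mul_card]
      have hord : orderOf (ψ ⟨k₁, hk₁L⟩) = orderOf x := by
        rw [← Subgroup.orderOf_coe]
        show orderOf (k₁ * φ t k₁⁻¹) = _
        rw [hk₁x]
      exact hord ▸ orderOf_dvd_natCard _
    have hdvd' : orderOf x ∣ Nat.card ψ.range := by
      have hmem : ψ ⟨k₁, hk₁L⟩ ∈ ψ.range := ⟨_, rfl⟩
      have h := orderOf_dvd_natCard (⟨_, hmem⟩ : ψ.range)
      rwa [Subgroup.orderOf_mk, ← Subgroup.orderOf_coe,
        show ((ψ ⟨k₁, hk₁L⟩ : center G) : G) = x from hk₁x] at h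
    have hidx : ¬ 2 ∣ Nat.card ψ.range := fun h2 => by
      have h : Nat.card ψ.range ∣ (S : Subgroup G).index := by
        rw [← index_ker]
        exact (index_dvd_of_le hkerS).trans (relIndex_dvd_index_of_le hSL)
      exact S.not_dvd_index (h2.trans h)
    obtain ⟨i, hi⟩ := IsPGroup.iff_orderOf.1 S.isPGroup' ⟨x, hxS⟩
    rw [Subgroup.orderOf_mk] at hi
    exact eq_one_of_two_odd hi.dvd (Nat.Coprime.coprime_dvd_left hdvd'
      ((Nat.prime_two.coprime_iff_not_dvd.2 hidx).symm))

/-- a 2-element of the derived group acts trivially when the odd core is trivial -/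
theorem eq_one_of_two_element {C : Type v} [Group C] (φ : C →* MulAut G) (S : Sylow 2 G)
    (hO : ∀ N : Subgroup G, N.Normal → Odd (Nat.card N) → N = ⊥)
    (hS : ∀ (q : C), ∀ s ∈ (S : Subgroup G), φ q s = s) {t : C} (ht : t ∈ commutator C) {k : ℕ}
    (hk : φ t ^ 2 ^ k = 1) : φ t = 1 := by
  haveI : Fact (Nat.Prime 2) := ⟨Nat.prime_two⟩
  set σ := φ t
  set T : Subgroup (MulAut G) := zpowers σ
  haveI : Finite (SemidirectProduct G T T.subtype) := Finite.of_equiv (G × T) SemidirectProduct.equivProd.symm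
  let τ : T := ⟨σ, mem_zpowers σ⟩
  set x : (SemidirectProduct G T T.subtype) := SemidirectProduct.inr τ with hxdef
  have hord : orderOf x ∣ 2 ^ k := (orderOf_injective (SemidirectProduct.inr : T →* (SemidirectProduct G T T.subtype)) SemidirectProduct.inr_injective τ).symm ▸
    orderOf_dvd_of_pow_eq_one (Subtype.ext (by simpa [τ] using hk))
  have hfix : ∀ s ∈ (S : Subgroup G), ∀ u : T, (u : MulAut G) s = s := by
    intro s hs u
    obtain ⟨i, hi⟩ := u.2
    rw [show (u : MulAut G) = φ (t ^ i) by rw [map_zpow]; exact hi.symm]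
    exact hS _ s hs
  let ι : ↥(S : Subgroup G) × T →* (SemidirectProduct G T T.subtype) := MonoidHom.mk'
    (fun p => SemidirectProduct.inl (p.1 : G) * SemidirectProduct.inr p.2) (fun p q => by
      ext
      · simp [hfix _ q.1.2]
      · simp)
  have hιe : ∀ p, ι p = SemidirectProduct.inl (p.1 : G) * SemidirectProduct.inr p.2 := fun p => rfl
  have hι : Function.Injective ι := fun p q h => by
    have h1 := congrArg SemidirectProduct.left h
    have h2 := congrArg SemidirectProduct.right h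
    simp [hιe] at h1 h2
    exact Prod.ext h1 h2
  have hcard : Nat.card ι.range = Nat.card (S : Subgroup G) * Nat.card T := by
    rw [← Nat.card_congr (MonoidHom.ofInjective hι).toEquiv, Nat.card_prod]
  have hTc : Nat.card T = orderOf σ := Nat.card_zpowers σ
  obtain ⟨k', -, hk'⟩ := (Nat.dvd_prime_pow Nat.prime_two).1 (orderOf_dvd_of_pow_eq_one hk)
  have hD : Nat.card ι.range = 2 ^ (Nat.card (SemidirectProduct G T T.subtype)).factorization 2 := by
    have hX : Nat.card (SemidirectProduct G T T.subtype) = Nat.card G * Nat.card T := by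
      rw [Nat.card_congr SemidirectProduct.equivProd, Nat.card_prod]
    rw [hcard, hX, Nat.factorization_mul Nat.card_pos.ne' Nat.card_pos.ne', Finsupp.add_apply, pow_add,
      S.card_eq_multiplicity, hTc, hk', Nat.prime_two.factorization_pow, Finsupp.single_eq_same]
  have hI : Cfsg.Lib.ZStarApps.Isolated2 x := by
    refine ⟨Sylow.ofCard ι.range hD, ?_, fun g hg => ?_⟩
    · rw [Sylow.coe_ofCard]
      exact ⟨(1, τ), by simp [hιe, hxdef]⟩
    · rw [Sylow.coe_ofCard] at hg
      obtain ⟨⟨s, u⟩, hsu⟩ := hg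
      have hgl : (g * x * g⁻¹).right = τ := by
        have hcomm : g.right * τ = τ * g.right := Subtype.ext (by
          obtain ⟨i, hi⟩ := g.right.2
          show (g.right : MulAut G) * σ = σ * g.right
          rw [← hi]; exact (Commute.zpow_self σ i).eq)
        simp [hxdef, hcomm]
      have hgl' : (g * x * g⁻¹).left = g.left * σ g.left⁻¹ := by
        obtain ⟨i, hi⟩ := g.right.2
        have hcomm : (g.right : MulAut G) * σ * (g.right : MulAut G)⁻¹ = σ := by
          rw [← hi, (Commute.zpow_self σ i).eq, mul_inv_cancel_right]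
        have e : ∀ y : G, (g.right : MulAut G) (σ (MulEquiv.symm (g.right : MulAut G) y)) = σ y := fun y => by
          conv_rhs => rw [← hcomm]
          rfl
        simp [hxdef, τ, e]
      have h1 : g.left * σ g.left⁻¹ ∈ (S : Subgroup G) := by
        rw [← hgl', ← hsu]
        simp [hιe]
      have h2 := isolated_aux _ G le_rfl φ t S hS ht k hk g.left h1
      refine SemidirectProduct.ext ?_ ?_
      · rw [hgl', h2]; simp [hxdef]
      · rw [hgl]; simp [hxdef]
  have hz := Cfsg.Lib.ZStarApps.central_of_isolated2 k x hord hI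
  set O := Cfsg.pPrimeCore 2 (SemidirectProduct G T T.subtype)
  set N := O.comap (SemidirectProduct.inl : G →* (SemidirectProduct G T T.subtype))
  have hN : N = ⊥ := by
    refine hO N inferInstance ?_
    have h1 : Nat.card N ∣ Nat.card O :=
      card_dvd_of_injective ((SemidirectProduct.inl : G →* (SemidirectProduct G T T.subtype)).subgroupComap O)
        (fun a b h => Subtype.ext (SemidirectProduct.inl_injective (congrArg Subtype.val h)))
    exact Nat.coprime_two_right.1 ((Cfsg.Lib.Components.coprime_card_pPrimeCore (G := (SemidirectProduct G T T.subtype)) 2).coprime_dvd_left h1)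
  refine MulEquiv.ext fun g => ?_
  have h := hz (SemidirectProduct.inl g)
  have e : SemidirectProduct.inl g * x * (SemidirectProduct.inl g)⁻¹ * x⁻¹ =
      (SemidirectProduct.inl (g * σ g⁻¹) : (SemidirectProduct G T T.subtype)) := by
    ext <;> simp [hxdef, τ]
  rw [e] at h
  have hmem : g * σ g⁻¹ ∈ N := h
  rw [hN, mem_bot, map_inv, mul_inv_eq_one] at hmem
  exact hmem.symm

theorem sylow_centralizing_structure (hO : ∀ N : Subgroup G, N.Normal → Odd (Nat.card N) → N = ⊥)
    (S : Sylow 2 G) (C : Subgroup (MulAut G)) (hC : ∀ s ∈ (S : Subgroup G), ∀ q ∈ C, q s = s)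
    (T : Sylow 2 C) : (∀ a b : T, a * b = b * a) ∧ ∃ N : Subgroup C, N.Normal ∧ Odd (Nat.card N) ∧
      IsComplement' N (T : Subgroup C) := by
  haveI : Fact (Nat.Prime 2) := ⟨Nat.prime_two⟩
  haveI : Finite (MulAut G) := Finite.of_injective (fun e => (e : G → G)) (fun e f h => MulEquiv.ext (congrFun h))
  have hder : ∀ c ∈ commutator C, ∀ j : ℕ, orderOf c ∣ 2 ^ j → c = 1 := by
    intro c hc j hj
    have h := eq_one_of_two_element C.subtype S hO (fun q s hs => hC s hs q q.2) hc (k := j) (by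
      rw [← map_pow, orderOf_dvd_iff_pow_eq_one.1 hj, map_one])
    exact Subtype.ext h
  have hodd : Odd (Nat.card (commutator C)) := by
    rw [← Nat.not_even_iff_odd, even_iff_two_dvd]
    intro h2
    obtain ⟨c, hc⟩ := exists_prime_orderOf_dvd_card' 2 h2
    have h := hder c c.2 1 (by rw [Subgroup.orderOf_coe, hc, pow_one])
    rw [show c = 1 from Subtype.ext h, orderOf_one] at hc
    exact absurd hc (by norm_num)
  refine ⟨fun a b => ?_, ?_⟩
  · obtain ⟨j, hj⟩ := T.isPGroup'.exists_card_eq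
    have hc : ⁅(a : C), (b : C)⁆ ∈ commutator C := commutator_mem_commutator (mem_top _) (mem_top _)
    have hT : ⁅(a : C), (b : C)⁆ ∈ (T : Subgroup C) := by
      rw [commutatorElement_def]; exact mul_mem (mul_mem (mul_mem a.2 b.2) (inv_mem a.2)) (inv_mem b.2)
    have h := hder _ hc j (hj ▸ Subgroup.orderOf_mk _ hT ▸ orderOf_dvd_natCard _)
    exact Subtype.ext (commutatorElement_eq_one_iff_mul_comm.1 h)
  · obtain ⟨j, m, hm, hcard⟩ := Nat.exists_eq_pow_mul_and_not_dvd (Nat.card_pos (α := C)).ne' 2 (by norm_num)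
    let π := Abelianization.of (G := C)
    let N : Subgroup C := ((powMonoidHom m).comp π).ker
    refine ⟨N, inferInstance, ?_, ?_⟩
    · rw [← Nat.not_even_iff_odd, even_iff_two_dvd]
      intro h2
      obtain ⟨c, hc⟩ := exists_prime_orderOf_dvd_card' 2 h2
      have h1 : (π c) ^ m = 1 := c.2
      have h2' : (π c) ^ 2 = 1 := by
        rw [← map_pow, ← Subgroup.coe_pow, ← hc, pow_orderOf_eq_one, Subgroup.coe_one, map_one]
      have h3 : π c = 1 := by
        have := pow_gcd_eq_one.2 ⟨h1, h2'⟩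
        rwa [show Nat.gcd m 2 = 1 from (Nat.prime_two.coprime_iff_not_dvd.2 hm).symm, pow_one] at this
      have h4 : (c : C) ∈ commutator C := by
        rw [← Abelianization.ker_of (G := C), MonoidHom.mem_ker]; exact h3
      have h5 := hder c h4 1 (by rw [Subgroup.orderOf_coe, hc, pow_one])
      rw [show c = 1 from Subtype.ext h5, orderOf_one] at hc
      exact absurd hc (by norm_num)
    · obtain ⟨i, hi⟩ := T.isPGroup'.exists_card_eq
      refine isComplement'_of_disjoint_and_mul_eq_univ ?_ ?_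
      · rw [disjoint_def]
        intro c hcN hcT
        have h1 : (π c) ^ m = 1 := hcN
        have h2 : orderOf c ∣ 2 ^ i := hi ▸ Subgroup.orderOf_mk _ hcT ▸ orderOf_dvd_natCard _
        have h3 : π c = 1 := by
          have := pow_gcd_eq_one.2 ⟨h1, orderOf_dvd_iff_pow_eq_one.1 ((orderOf_map_dvd π c).trans h2)⟩
          rwa [show Nat.gcd m (2 ^ i) = 1 from ((Nat.prime_two.coprime_iff_not_dvd.2 hm).symm).pow_right i,
            pow_one] at this
        exact hder c (by rw [← Abelianization.ker_of (G := C), MonoidHom.mem_ker]; exact h3) i h2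
      · rw [← normal_mul, ← coe_top]
        congr 1
        refine eq_top_iff.2 fun c _ => ?_
        obtain ⟨a, b, -, -, rfl, ⟨l, hl⟩, hb⟩ := Cfsg.Lib.Transfer.exists_pPart 2 c
        have hbN : b ∈ N := by
          show (π b) ^ m = 1
          have h1 : orderOf b ∣ m := (Nat.Coprime.pow_right j hb).dvd_of_dvd_mul_left
            (hcard ▸ orderOf_dvd_natCard b)
          rw [← map_pow, orderOf_dvd_iff_pow_eq_one.1 h1, map_one]
        obtain ⟨R, hR⟩ := (IsPGroup.of_card (G := zpowers a) (n := l) (by rw [Nat.card_zpowers, hl])).exists_le_sylow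
        obtain ⟨w, hw⟩ := MulAction.exists_smul_eq C R T
        have h1 : w * a * w⁻¹ ∈ (T : Subgroup C) := by
          rw [← hw]
          exact ⟨a, hR (mem_zpowers a), rfl⟩
        have h2 : (w * a * w⁻¹)⁻¹ * a ∈ N := by
          show (π ((w * a * w⁻¹)⁻¹ * a)) ^ m = 1
          have : π ((w * a * w⁻¹)⁻¹ * a) = 1 := by
            simp only [map_mul, map_inv, mul_inv_cancel_comm, inv_mul_cancel]
          rw [this, one_pow]
        rw [show a * b = (w * a * w⁻¹) * ((w * a * w⁻¹)⁻¹ * a) * b by group]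
        exact mul_mem (mul_mem (mem_sup_right h1) (mem_sup_left h2)) (mem_sup_left hbN)

end Cfsg.Lib.SylowCentralizingAut
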